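import Cfsg.Agent.Helper28.ON1.Data
set_option autoImplicit false
set_option maxRecDepth 1000000
namespace Cfsg.Agent.Helper28.ON1
open Cfsg.Agent.Helper28
theorem fin_piece8 : allLtFrom (finRow tabs ptabs 1043577) 5712 714 = true := by decide +kernel
theorem fin_piece9 : allLtFrom (finRow tabs ptabs 1043577) 6426 714 = true := by decide +kernel
theorem fin_piece10 : allLtFrom (finRow tabs ptabs 1043577) 7140 714 = true := by decide +kernel
theorem fin_piece11 : allLtFrom (finRow tabs ptabs 1043577) 7854 714 = true := by decide +kernel
theorem fin_piece12 : allLtFrom (finRow tabs ptabs 1043577) 8568 714 = true := by decide +kernel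
theorem fin_piece13 : allLtFrom (finRow tabs ptabs 1043577) 9282 714 = true := by decide +kernel
theorem fin_piece14 : allLtFrom (finRow tabs ptabs 1043577) 9996 714 = true := by decide +kernel
theorem fin_piece15 : allLtFrom (finRow tabs ptabs 1043577) 10710 714 = true := by decide +kernel
end Cfsg.Agent.Helper28.ON1
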