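import Cfsg.Agent.Helper28.ON1.Data
set_option autoImplicit false
set_option maxRecDepth 1000000
namespace Cfsg.Agent.Helper28.ON1
open Cfsg.Agent.Helper28
theorem fin_piece80 : allLtFrom (finRow tabs ptabs 1043577) 57120 714 = true := by decide +kernel
theorem fin_piece81 : allLtFrom (finRow tabs ptabs 1043577) 57834 714 = true := by decide +kernel
theorem fin_piece82 : allLtFrom (finRow tabs ptabs 1043577) 58548 714 = true := by decide +kernel
theorem fin_piece83 : allLtFrom (finRow tabs ptabs 1043577) 59262 714 = true := by decide +kernel
theorem fin_piece84 : allLtFrom (finRow tabs ptabs 1043577) 59976 714 = true := by decide +kernel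
theorem fin_piece85 : allLtFrom (finRow tabs ptabs 1043577) 60690 714 = true := by decide +kernel
theorem fin_piece86 : allLtFrom (finRow tabs ptabs 1043577) 61404 714 = true := by decide +kernel
theorem fin_piece87 : allLtFrom (finRow tabs ptabs 1043577) 62118 714 = true := by decide +kernel
end Cfsg.Agent.Helper28.ON1
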