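import Cfsg.Agent.Helper28.ON1.Data
set_option autoImplicit false
set_option maxRecDepth 1000000
namespace Cfsg.Agent.Helper28.ON1
open Cfsg.Agent.Helper28
theorem fin_piece96 : allLtFrom (finRow tabs ptabs 1043577) 68544 714 = true := by decide +kernel
theorem fin_piece97 : allLtFrom (finRow tabs ptabs 1043577) 69258 714 = true := by decide +kernel
theorem fin_piece98 : allLtFrom (finRow tabs ptabs 1043577) 69972 714 = true := by decide +kernel
theorem fin_piece99 : allLtFrom (finRow tabs ptabs 1043577) 70686 714 = true := by decide +kernel
theorem fin_piece100 : allLtFrom (finRow tabs ptabs 1043577) 71400 714 = true := by decide +kernel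
theorem fin_piece101 : allLtFrom (finRow tabs ptabs 1043577) 72114 714 = true := by decide +kernel
theorem fin_piece102 : allLtFrom (finRow tabs ptabs 1043577) 72828 714 = true := by decide +kernel
theorem fin_piece103 : allLtFrom (finRow tabs ptabs 1043577) 73542 714 = true := by decide +kernel
end Cfsg.Agent.Helper28.ON1
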