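import Cfsg.Agent.Helper28.ON1.Data
set_option autoImplicit false
set_option maxRecDepth 1000000
namespace Cfsg.Agent.Helper28.ON1
open Cfsg.Agent.Helper28
theorem fin_piece104 : allLtFrom (finRow tabs ptabs 1043577) 74256 714 = true := by decide +kernel
theorem fin_piece105 : allLtFrom (finRow tabs ptabs 1043577) 74970 714 = true := by decide +kernel
theorem fin_piece106 : allLtFrom (finRow tabs ptabs 1043577) 75684 714 = true := by decide +kernel
theorem fin_piece107 : allLtFrom (finRow tabs ptabs 1043577) 76398 714 = true := by decide +kernel
theorem fin_piece108 : allLtFrom (finRow tabs ptabs 1043577) 77112 714 = true := by decide +kernel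
theorem fin_piece109 : allLtFrom (finRow tabs ptabs 1043577) 77826 714 = true := by decide +kernel
theorem fin_piece110 : allLtFrom (finRow tabs ptabs 1043577) 78540 714 = true := by decide +kernel
theorem fin_piece111 : allLtFrom (finRow tabs ptabs 1043577) 79254 714 = true := by decide +kernel
end Cfsg.Agent.Helper28.ON1
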