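import Cfsg.Agent.Helper28.ON1.Data
set_option autoImplicit false
set_option maxRecDepth 1000000
namespace Cfsg.Agent.Helper28.ON1
open Cfsg.Agent.Helper28
theorem fin_piece112 : allLtFrom (finRow tabs ptabs 1043577) 79968 714 = true := by decide +kernel
theorem fin_piece113 : allLtFrom (finRow tabs ptabs 1043577) 80682 714 = true := by decide +kernel
theorem fin_piece114 : allLtFrom (finRow tabs ptabs 1043577) 81396 714 = true := by decide +kernel
theorem fin_piece115 : allLtFrom (finRow tabs ptabs 1043577) 82110 714 = true := by decide +kernel
theorem fin_piece116 : allLtFrom (finRow tabs ptabs 1043577) 82824 714 = true := by decide +kernel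
theorem fin_piece117 : allLtFrom (finRow tabs ptabs 1043577) 83538 714 = true := by decide +kernel
theorem fin_piece118 : allLtFrom (finRow tabs ptabs 1043577) 84252 714 = true := by decide +kernel
theorem fin_piece119 : allLtFrom (finRow tabs ptabs 1043577) 84966 714 = true := by decide +kernel
end Cfsg.Agent.Helper28.ON1
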