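import Cfsg.Agent.Helper28.ON1.Data
set_option autoImplicit false
set_option maxRecDepth 1000000
namespace Cfsg.Agent.Helper28.ON1
open Cfsg.Agent.Helper28
theorem fin_piece120 : allLtFrom (finRow tabs ptabs 1043577) 85680 714 = true := by decide +kernel
theorem fin_piece121 : allLtFrom (finRow tabs ptabs 1043577) 86394 714 = true := by decide +kernel
theorem fin_piece122 : allLtFrom (finRow tabs ptabs 1043577) 87108 714 = true := by decide +kernel
theorem fin_piece123 : allLtFrom (finRow tabs ptabs 1043577) 87822 714 = true := by decide +kernel
theorem fin_piece124 : allLtFrom (finRow tabs ptabs 1043577) 88536 714 = true := by decide +kernel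
theorem fin_piece125 : allLtFrom (finRow tabs ptabs 1043577) 89250 714 = true := by decide +kernel
theorem fin_piece126 : allLtFrom (finRow tabs ptabs 1043577) 89964 714 = true := by decide +kernel
theorem fin_piece127 : allLtFrom (finRow tabs ptabs 1043577) 90678 714 = true := by decide +kernel
end Cfsg.Agent.Helper28.ON1
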