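import Cfsg.Agent.Helper28.ON1.Data
set_option autoImplicit false
set_option maxRecDepth 1000000
namespace Cfsg.Agent.Helper28.ON1
open Cfsg.Agent.Helper28
theorem fin_piece136 : allLtFrom (finRow tabs ptabs 1043577) 97104 714 = true := by decide +kernel
theorem fin_piece137 : allLtFrom (finRow tabs ptabs 1043577) 97818 714 = true := by decide +kernel
theorem fin_piece138 : allLtFrom (finRow tabs ptabs 1043577) 98532 714 = true := by decide +kernel
theorem fin_piece139 : allLtFrom (finRow tabs ptabs 1043577) 99246 714 = true := by decide +kernel
theorem fin_piece140 : allLtFrom (finRow tabs ptabs 1043577) 99960 714 = true := by decide +kernel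
theorem fin_piece141 : allLtFrom (finRow tabs ptabs 1043577) 100674 714 = true := by decide +kernel
theorem fin_piece142 : allLtFrom (finRow tabs ptabs 1043577) 101388 714 = true := by decide +kernel
theorem fin_piece143 : allLtFrom (finRow tabs ptabs 1043577) 102102 714 = true := by decide +kernel
end Cfsg.Agent.Helper28.ON1
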