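import Cfsg.Agent.Helper28.ON1.Data
set_option autoImplicit false
set_option maxRecDepth 1000000
namespace Cfsg.Agent.Helper28.ON1
open Cfsg.Agent.Helper28
theorem fin_piece144 : allLtFrom (finRow tabs ptabs 1043577) 102816 714 = true := by decide +kernel
theorem fin_piece145 : allLtFrom (finRow tabs ptabs 1043577) 103530 714 = true := by decide +kernel
theorem fin_piece146 : allLtFrom (finRow tabs ptabs 1043577) 104244 714 = true := by decide +kernel
theorem fin_piece147 : allLtFrom (finRow tabs ptabs 1043577) 104958 714 = true := by decide +kernel
theorem fin_piece148 : allLtFrom (finRow tabs ptabs 1043577) 105672 714 = true := by decide +kernel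
theorem fin_piece149 : allLtFrom (finRow tabs ptabs 1043577) 106386 714 = true := by decide +kernel
theorem fin_piece150 : allLtFrom (finRow tabs ptabs 1043577) 107100 714 = true := by decide +kernel
theorem fin_piece151 : allLtFrom (finRow tabs ptabs 1043577) 107814 714 = true := by decide +kernel
end Cfsg.Agent.Helper28.ON1
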