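import Cfsg.Agent.Helper28.ON1.Data
set_option autoImplicit false
set_option maxRecDepth 1000000
namespace Cfsg.Agent.Helper28.ON1
open Cfsg.Agent.Helper28
theorem fin_piece160 : allLtFrom (finRow tabs ptabs 1043577) 114240 714 = true := by decide +kernel
theorem fin_piece161 : allLtFrom (finRow tabs ptabs 1043577) 114954 714 = true := by decide +kernel
theorem fin_piece162 : allLtFrom (finRow tabs ptabs 1043577) 115668 714 = true := by decide +kernel
theorem fin_piece163 : allLtFrom (finRow tabs ptabs 1043577) 116382 714 = true := by decide +kernel
theorem fin_piece164 : allLtFrom (finRow tabs ptabs 1043577) 117096 714 = true := by decide +kernel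
theorem fin_piece165 : allLtFrom (finRow tabs ptabs 1043577) 117810 714 = true := by decide +kernel
theorem fin_piece166 : allLtFrom (finRow tabs ptabs 1043577) 118524 714 = true := by decide +kernel
theorem fin_piece167 : allLtFrom (finRow tabs ptabs 1043577) 119238 714 = true := by decide +kernel
end Cfsg.Agent.Helper28.ON1
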