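import Cfsg.Agent.Helper28.ON1.Data
set_option autoImplicit false
set_option maxRecDepth 1000000
namespace Cfsg.Agent.Helper28.ON1
open Cfsg.Agent.Helper28
theorem fin_piece168 : allLtFrom (finRow tabs ptabs 1043577) 119952 714 = true := by decide +kernel
theorem fin_piece169 : allLtFrom (finRow tabs ptabs 1043577) 120666 714 = true := by decide +kernel
theorem fin_piece170 : allLtFrom (finRow tabs ptabs 1043577) 121380 714 = true := by decide +kernel
theorem fin_piece171 : allLtFrom (finRow tabs ptabs 1043577) 122094 666 = true := by decide +kernel
end Cfsg.Agent.Helper28.ON1
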