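import Cfsg.Agent.Helper28.ON1.Data
set_option autoImplicit false
set_option maxRecDepth 1000000
namespace Cfsg.Agent.Helper28.ON1
open Cfsg.Agent.Helper28
theorem fin_piece32 : allLtFrom (finRow tabs ptabs 1043577) 22848 714 = true := by decide +kernel
theorem fin_piece33 : allLtFrom (finRow tabs ptabs 1043577) 23562 714 = true := by decide +kernel
theorem fin_piece34 : allLtFrom (finRow tabs ptabs 1043577) 24276 714 = true := by decide +kernel
theorem fin_piece35 : allLtFrom (finRow tabs ptabs 1043577) 24990 714 = true := by decide +kernel
theorem fin_piece36 : allLtFrom (finRow tabs ptabs 1043577) 25704 714 = true := by decide +kernel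
theorem fin_piece37 : allLtFrom (finRow tabs ptabs 1043577) 26418 714 = true := by decide +kernel
theorem fin_piece38 : allLtFrom (finRow tabs ptabs 1043577) 27132 714 = true := by decide +kernel
theorem fin_piece39 : allLtFrom (finRow tabs ptabs 1043577) 27846 714 = true := by decide +kernel
end Cfsg.Agent.Helper28.ON1
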