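import Cfsg.Agent.Helper28.ON1.Data
set_option autoImplicit false
set_option maxRecDepth 1000000
namespace Cfsg.Agent.Helper28.ON1
open Cfsg.Agent.Helper28
theorem fin_piece40 : allLtFrom (finRow tabs ptabs 1043577) 28560 714 = true := by decide +kernel
theorem fin_piece41 : allLtFrom (finRow tabs ptabs 1043577) 29274 714 = true := by decide +kernel
theorem fin_piece42 : allLtFrom (finRow tabs ptabs 1043577) 29988 714 = true := by decide +kernel
theorem fin_piece43 : allLtFrom (finRow tabs ptabs 1043577) 30702 714 = true := by decide +kernel
theorem fin_piece44 : allLtFrom (finRow tabs ptabs 1043577) 31416 714 = true := by decide +kernel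
theorem fin_piece45 : allLtFrom (finRow tabs ptabs 1043577) 32130 714 = true := by decide +kernel
theorem fin_piece46 : allLtFrom (finRow tabs ptabs 1043577) 32844 714 = true := by decide +kernel
theorem fin_piece47 : allLtFrom (finRow tabs ptabs 1043577) 33558 714 = true := by decide +kernel
end Cfsg.Agent.Helper28.ON1
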