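import Cfsg.Agent.Helper28.ON1.Data
set_option autoImplicit false
set_option maxRecDepth 1000000
namespace Cfsg.Agent.Helper28.ON1
open Cfsg.Agent.Helper28
theorem fin_piece56 : allLtFrom (finRow tabs ptabs 1043577) 39984 714 = true := by decide +kernel
theorem fin_piece57 : allLtFrom (finRow tabs ptabs 1043577) 40698 714 = true := by decide +kernel
theorem fin_piece58 : allLtFrom (finRow tabs ptabs 1043577) 41412 714 = true := by decide +kernel
theorem fin_piece59 : allLtFrom (finRow tabs ptabs 1043577) 42126 714 = true := by decide +kernel
theorem fin_piece60 : allLtFrom (finRow tabs ptabs 1043577) 42840 714 = true := by decide +kernel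
theorem fin_piece61 : allLtFrom (finRow tabs ptabs 1043577) 43554 714 = true := by decide +kernel
theorem fin_piece62 : allLtFrom (finRow tabs ptabs 1043577) 44268 714 = true := by decide +kernel
theorem fin_piece63 : allLtFrom (finRow tabs ptabs 1043577) 44982 714 = true := by decide +kernel
end Cfsg.Agent.Helper28.ON1
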