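import Cfsg.Agent.Helper28.ON1.Data
set_option autoImplicit false
set_option maxRecDepth 1000000
namespace Cfsg.Agent.Helper28.ON1
open Cfsg.Agent.Helper28
theorem inv_piece16 : allLtFrom (invRow ptabs) 45712 2857 = true := by decide +kernel
theorem inv_piece17 : allLtFrom (invRow ptabs) 48569 2857 = true := by decide +kernel
theorem inv_piece18 : allLtFrom (invRow ptabs) 51426 2857 = true := by decide +kernel
theorem inv_piece19 : allLtFrom (invRow ptabs) 54283 2857 = true := by decide +kernel
theorem inv_piece20 : allLtFrom (invRow ptabs) 57140 2857 = true := by decide +kernel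
theorem inv_piece21 : allLtFrom (invRow ptabs) 59997 2857 = true := by decide +kernel
theorem inv_piece22 : allLtFrom (invRow ptabs) 62854 2857 = true := by decide +kernel
theorem inv_piece23 : allLtFrom (invRow ptabs) 65711 2857 = true := by decide +kernel
end Cfsg.Agent.Helper28.ON1
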