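import Cfsg.Agent.Helper28.ON1.Data
set_option autoImplicit false
set_option maxRecDepth 1000000
namespace Cfsg.Agent.Helper28.ON1
open Cfsg.Agent.Helper28
theorem inv_piece32 : allLtFrom (invRow ptabs) 91424 2857 = true := by decide +kernel
theorem inv_piece33 : allLtFrom (invRow ptabs) 94281 2857 = true := by decide +kernel
theorem inv_piece34 : allLtFrom (invRow ptabs) 97138 2857 = true := by decide +kernel
theorem inv_piece35 : allLtFrom (invRow ptabs) 99995 2857 = true := by decide +kernel
theorem inv_piece36 : allLtFrom (invRow ptabs) 102852 2857 = true := by decide +kernel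
theorem inv_piece37 : allLtFrom (invRow ptabs) 105709 2857 = true := by decide +kernel
theorem inv_piece38 : allLtFrom (invRow ptabs) 108566 2857 = true := by decide +kernel
theorem inv_piece39 : allLtFrom (invRow ptabs) 111423 2857 = true := by decide +kernel
end Cfsg.Agent.Helper28.ON1
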