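import Cfsg.Agent.Helper28.ON1.Data
set_option autoImplicit false
set_option maxRecDepth 1000000
namespace Cfsg.Agent.Helper28.ON1
open Cfsg.Agent.Helper28
theorem perm_piece_13_8 : permPieceF tabs.word letSel 29 1 118512 4248 = true := by decide +kernel
theorem perm_piece_14_0 : permPieceF tabs.word letSel 30 1 0 44444 = true := by decide +kernel
theorem perm_piece_14_1 : permPieceF tabs.word letSel 30 1 44444 44444 = true := by decide +kernel
theorem perm_piece_14_2 : permPieceF tabs.word letSel 30 1 88888 33872 = true := by decide +kernel
theorem perm_piece_15_0 : permPieceF tabs.word letSel 31 1 0 5555 = true := by decide +kernel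
theorem perm_piece_15_1 : permPieceF tabs.word letSel 31 1 5555 5555 = true := by decide +kernel
theorem perm_piece_15_2 : permPieceF tabs.word letSel 31 1 11110 5555 = true := by decide +kernel
theorem perm_piece_15_3 : permPieceF tabs.word letSel 31 1 16665 5555 = true := by decide +kernel
theorem perm_piece_15_4 : permPieceF tabs.word letSel 31 1 22220 5555 = true := by decide +kernel
end Cfsg.Agent.Helper28.ON1
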