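import Cfsg.Agent.Helper28.ON1.Data
set_option autoImplicit false
set_option maxRecDepth 1000000
namespace Cfsg.Agent.Helper28.ON1
open Cfsg.Agent.Helper28
theorem perm_piece_15_13 : permPieceF tabs.word letSel 31 1 72215 5555 = true := by decide +kernel
theorem perm_piece_15_14 : permPieceF tabs.word letSel 31 1 77770 5555 = true := by decide +kernel
theorem perm_piece_15_15 : permPieceF tabs.word letSel 31 1 83325 5555 = true := by decide +kernel
theorem perm_piece_15_16 : permPieceF tabs.word letSel 31 1 88880 5555 = true := by decide +kernel
theorem perm_piece_15_17 : permPieceF tabs.word letSel 31 1 94435 5555 = true := by decide +kernel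
theorem perm_piece_15_18 : permPieceF tabs.word letSel 31 1 99990 5555 = true := by decide +kernel
theorem perm_piece_15_19 : permPieceF tabs.word letSel 31 1 105545 5555 = true := by decide +kernel
theorem perm_piece_15_20 : permPieceF tabs.word letSel 31 1 111100 5555 = true := by decide +kernel
end Cfsg.Agent.Helper28.ON1
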