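import Cfsg.Agent.Helper28.ON1.Data
set_option autoImplicit false
set_option maxRecDepth 1000000
namespace Cfsg.Agent.Helper28.ON1
open Cfsg.Agent.Helper28
theorem perm_piece_20_10 : permPieceF tabs.word letSel 37 1 55550 5555 = true := by decide +kernel
theorem perm_piece_20_11 : permPieceF tabs.word letSel 37 1 61105 5555 = true := by decide +kernel
theorem perm_piece_20_12 : permPieceF tabs.word letSel 37 1 66660 5555 = true := by decide +kernel
theorem perm_piece_20_13 : permPieceF tabs.word letSel 37 1 72215 5555 = true := by decide +kernel
theorem perm_piece_20_14 : permPieceF tabs.word letSel 37 1 77770 5555 = true := by decide +kernel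
theorem perm_piece_20_15 : permPieceF tabs.word letSel 37 1 83325 5555 = true := by decide +kernel
theorem perm_piece_20_16 : permPieceF tabs.word letSel 37 1 88880 5555 = true := by decide +kernel
theorem perm_piece_20_17 : permPieceF tabs.word letSel 37 1 94435 5555 = true := by decide +kernel
end Cfsg.Agent.Helper28.ON1
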