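import Cfsg.Agent.Helper28.ON1.Data
set_option autoImplicit false
set_option maxRecDepth 1000000
namespace Cfsg.Agent.Helper28.ON1
open Cfsg.Agent.Helper28
theorem perm_piece_20_18 : permPieceF tabs.word letSel 37 1 99990 5555 = true := by decide +kernel
theorem perm_piece_20_19 : permPieceF tabs.word letSel 37 1 105545 5555 = true := by decide +kernel
theorem perm_piece_20_20 : permPieceF tabs.word letSel 37 1 111100 5555 = true := by decide +kernel
theorem perm_piece_20_21 : permPieceF tabs.word letSel 37 1 116655 5555 = true := by decide +kernel
theorem perm_piece_20_22 : permPieceF tabs.word letSel 37 1 122210 550 = true := by decide +kernel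
theorem perm_piece_21_0 : permPieceF tabs.word letSel 38 1 0 44444 = true := by decide +kernel
theorem perm_piece_21_1 : permPieceF tabs.word letSel 38 1 44444 44444 = true := by decide +kernel
theorem perm_piece_21_2 : permPieceF tabs.word letSel 38 1 88888 33872 = true := by decide +kernel
theorem perm_piece_22_0 : permPieceF tabs.word letSel 39 1 0 14814 = true := by decide +kernel
end Cfsg.Agent.Helper28.ON1
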