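import Cfsg.Agent.Helper28.ON1.Data
set_option autoImplicit false
set_option maxRecDepth 1000000
namespace Cfsg.Agent.Helper28.ON1
open Cfsg.Agent.Helper28
theorem perm_piece_29_1 : permPieceF tabs.word letSel 47 1 14814 14814 = true := by decide +kernel
theorem perm_piece_29_2 : permPieceF tabs.word letSel 47 1 29628 14814 = true := by decide +kernel
theorem perm_piece_29_3 : permPieceF tabs.word letSel 47 1 44442 14814 = true := by decide +kernel
theorem perm_piece_29_4 : permPieceF tabs.word letSel 47 1 59256 14814 = true := by decide +kernel
theorem perm_piece_29_5 : permPieceF tabs.word letSel 47 1 74070 14814 = true := by decide +kernel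
theorem perm_piece_29_6 : permPieceF tabs.word letSel 47 1 88884 14814 = true := by decide +kernel
theorem perm_piece_29_7 : permPieceF tabs.word letSel 47 1 103698 14814 = true := by decide +kernel
theorem perm_piece_29_8 : permPieceF tabs.word letSel 47 1 118512 4248 = true := by decide +kernel
theorem perm_piece_30_0 : permPieceF tabs.word letSel 48 2 0 22222 = true := by decide +kernel
end Cfsg.Agent.Helper28.ON1
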