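import Cfsg.Agent.Helper28.ON1.Data
set_option autoImplicit false
set_option maxRecDepth 1000000
namespace Cfsg.Agent.Helper28.ON1
open Cfsg.Agent.Helper28
theorem perm_piece_31_4 : permPieceF tabs.word letSel 50 1 88888 22222 = true := by decide +kernel
theorem perm_piece_31_5 : permPieceF tabs.word letSel 50 1 111110 11650 = true := by decide +kernel
theorem perm_piece_32_0 : permPieceF tabs.word letSel 51 1 0 22222 = true := by decide +kernel
theorem perm_piece_32_1 : permPieceF tabs.word letSel 51 1 22222 22222 = true := by decide +kernel
theorem perm_piece_32_2 : permPieceF tabs.word letSel 51 1 44444 22222 = true := by decide +kernel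
theorem perm_piece_32_3 : permPieceF tabs.word letSel 51 1 66666 22222 = true := by decide +kernel
theorem perm_piece_32_4 : permPieceF tabs.word letSel 51 1 88888 22222 = true := by decide +kernel
theorem perm_piece_32_5 : permPieceF tabs.word letSel 51 1 111110 11650 = true := by decide +kernel
theorem perm_piece_33_0 : permPieceF tabs.word letSel 52 1 0 22222 = true := by decide +kernel
end Cfsg.Agent.Helper28.ON1
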