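import Cfsg.Agent.Helper28.ON1.Data
set_option autoImplicit false
set_option maxRecDepth 1000000
namespace Cfsg.Agent.Helper28.ON1
open Cfsg.Agent.Helper28
theorem perm_piece_34_4 : permPieceF tabs.word letSel 53 1 59256 14814 = true := by decide +kernel
theorem perm_piece_34_5 : permPieceF tabs.word letSel 53 1 74070 14814 = true := by decide +kernel
theorem perm_piece_34_6 : permPieceF tabs.word letSel 53 1 88884 14814 = true := by decide +kernel
theorem perm_piece_34_7 : permPieceF tabs.word letSel 53 1 103698 14814 = true := by decide +kernel
theorem perm_piece_34_8 : permPieceF tabs.word letSel 53 1 118512 4248 = true := by decide +kernel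
theorem perm_piece_35_0 : permPieceF tabs.word letSel 54 1 0 44444 = true := by decide +kernel
theorem perm_piece_35_1 : permPieceF tabs.word letSel 54 1 44444 44444 = true := by decide +kernel
theorem perm_piece_35_2 : permPieceF tabs.word letSel 54 1 88888 33872 = true := by decide +kernel
theorem perm_piece_36_0 : permPieceF tabs.word letSel 55 1 0 22222 = true := by decide +kernel
end Cfsg.Agent.Helper28.ON1
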