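import Cfsg.Agent.Helper28.ON1.Data
set_option autoImplicit false
set_option maxRecDepth 1000000
namespace Cfsg.Agent.Helper28.ON1
open Cfsg.Agent.Helper28
theorem perm_piece_37_4 : permPieceF tabs.word letSel 56 1 35552 8888 = true := by decide +kernel
theorem perm_piece_37_5 : permPieceF tabs.word letSel 56 1 44440 8888 = true := by decide +kernel
theorem perm_piece_37_6 : permPieceF tabs.word letSel 56 1 53328 8888 = true := by decide +kernel
theorem perm_piece_37_7 : permPieceF tabs.word letSel 56 1 62216 8888 = true := by decide +kernel
theorem perm_piece_37_8 : permPieceF tabs.word letSel 56 1 71104 8888 = true := by decide +kernel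
theorem perm_piece_37_9 : permPieceF tabs.word letSel 56 1 79992 8888 = true := by decide +kernel
theorem perm_piece_37_10 : permPieceF tabs.word letSel 56 1 88880 8888 = true := by decide +kernel
theorem perm_piece_37_11 : permPieceF tabs.word letSel 56 1 97768 8888 = true := by decide +kernel
end Cfsg.Agent.Helper28.ON1
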