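import Cfsg.Agent.Helper28.ON1.Data
set_option autoImplicit false
set_option maxRecDepth 1000000
namespace Cfsg.Agent.Helper28.ON1
open Cfsg.Agent.Helper28
theorem perm_piece_39_0 : permPieceF tabs.word letSel 58 1 0 8888 = true := by decide +kernel
theorem perm_piece_39_1 : permPieceF tabs.word letSel 58 1 8888 8888 = true := by decide +kernel
theorem perm_piece_39_2 : permPieceF tabs.word letSel 58 1 17776 8888 = true := by decide +kernel
theorem perm_piece_39_3 : permPieceF tabs.word letSel 58 1 26664 8888 = true := by decide +kernel
theorem perm_piece_39_4 : permPieceF tabs.word letSel 58 1 35552 8888 = true := by decide +kernel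
theorem perm_piece_39_5 : permPieceF tabs.word letSel 58 1 44440 8888 = true := by decide +kernel
theorem perm_piece_39_6 : permPieceF tabs.word letSel 58 1 53328 8888 = true := by decide +kernel
theorem perm_piece_39_7 : permPieceF tabs.word letSel 58 1 62216 8888 = true := by decide +kernel
end Cfsg.Agent.Helper28.ON1
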