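import Cfsg.Agent.Helper28.ON1.Data
set_option autoImplicit false
set_option maxRecDepth 1000000
namespace Cfsg.Agent.Helper28.ON1
open Cfsg.Agent.Helper28
theorem perm_piece_39_8 : permPieceF tabs.word letSel 58 1 71104 8888 = true := by decide +kernel
theorem perm_piece_39_9 : permPieceF tabs.word letSel 58 1 79992 8888 = true := by decide +kernel
theorem perm_piece_39_10 : permPieceF tabs.word letSel 58 1 88880 8888 = true := by decide +kernel
theorem perm_piece_39_11 : permPieceF tabs.word letSel 58 1 97768 8888 = true := by decide +kernel
theorem perm_piece_39_12 : permPieceF tabs.word letSel 58 1 106656 8888 = true := by decide +kernel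
theorem perm_piece_39_13 : permPieceF tabs.word letSel 58 1 115544 7216 = true := by decide +kernel
theorem perm_piece_40_0 : permPieceF tabs.word letSel 59 1 0 4444 = true := by decide +kernel
theorem perm_piece_40_1 : permPieceF tabs.word letSel 59 1 4444 4444 = true := by decide +kernel
end Cfsg.Agent.Helper28.ON1
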