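import Cfsg.Agent.Helper28.ON1.Data
set_option autoImplicit false
set_option maxRecDepth 1000000
namespace Cfsg.Agent.Helper28.ON1
open Cfsg.Agent.Helper28
theorem perm_piece_40_2 : permPieceF tabs.word letSel 59 1 8888 4444 = true := by decide +kernel
theorem perm_piece_40_3 : permPieceF tabs.word letSel 59 1 13332 4444 = true := by decide +kernel
theorem perm_piece_40_4 : permPieceF tabs.word letSel 59 1 17776 4444 = true := by decide +kernel
theorem perm_piece_40_5 : permPieceF tabs.word letSel 59 1 22220 4444 = true := by decide +kernel
theorem perm_piece_40_6 : permPieceF tabs.word letSel 59 1 26664 4444 = true := by decide +kernel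
theorem perm_piece_40_7 : permPieceF tabs.word letSel 59 1 31108 4444 = true := by decide +kernel
theorem perm_piece_40_8 : permPieceF tabs.word letSel 59 1 35552 4444 = true := by decide +kernel
theorem perm_piece_40_9 : permPieceF tabs.word letSel 59 1 39996 4444 = true := by decide +kernel
end Cfsg.Agent.Helper28.ON1
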