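import Cfsg.Agent.Helper28.ON1.Data
set_option autoImplicit false
set_option maxRecDepth 1000000
namespace Cfsg.Agent.Helper28.ON1
open Cfsg.Agent.Helper28
theorem perm_piece_40_10 : permPieceF tabs.word letSel 59 1 44440 4444 = true := by decide +kernel
theorem perm_piece_40_11 : permPieceF tabs.word letSel 59 1 48884 4444 = true := by decide +kernel
theorem perm_piece_40_12 : permPieceF tabs.word letSel 59 1 53328 4444 = true := by decide +kernel
theorem perm_piece_40_13 : permPieceF tabs.word letSel 59 1 57772 4444 = true := by decide +kernel
theorem perm_piece_40_14 : permPieceF tabs.word letSel 59 1 62216 4444 = true := by decide +kernel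
theorem perm_piece_40_15 : permPieceF tabs.word letSel 59 1 66660 4444 = true := by decide +kernel
theorem perm_piece_40_16 : permPieceF tabs.word letSel 59 1 71104 4444 = true := by decide +kernel
theorem perm_piece_40_17 : permPieceF tabs.word letSel 59 1 75548 4444 = true := by decide +kernel
end Cfsg.Agent.Helper28.ON1
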