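import Cfsg.Agent.Helper28.ON1.Data
set_option autoImplicit false
set_option maxRecDepth 1000000
namespace Cfsg.Agent.Helper28.ON1
open Cfsg.Agent.Helper28
theorem perm_piece_40_18 : permPieceF tabs.word letSel 59 1 79992 4444 = true := by decide +kernel
theorem perm_piece_40_19 : permPieceF tabs.word letSel 59 1 84436 4444 = true := by decide +kernel
theorem perm_piece_40_20 : permPieceF tabs.word letSel 59 1 88880 4444 = true := by decide +kernel
theorem perm_piece_40_21 : permPieceF tabs.word letSel 59 1 93324 4444 = true := by decide +kernel
theorem perm_piece_40_22 : permPieceF tabs.word letSel 59 1 97768 4444 = true := by decide +kernel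
theorem perm_piece_40_23 : permPieceF tabs.word letSel 59 1 102212 4444 = true := by decide +kernel
theorem perm_piece_40_24 : permPieceF tabs.word letSel 59 1 106656 4444 = true := by decide +kernel
theorem perm_piece_40_25 : permPieceF tabs.word letSel 59 1 111100 4444 = true := by decide +kernel
end Cfsg.Agent.Helper28.ON1
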