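import Cfsg.Agent.Helper28.ON1.Data
set_option autoImplicit false
set_option maxRecDepth 1000000
namespace Cfsg.Agent.Helper28.ON1
open Cfsg.Agent.Helper28
theorem perm_piece_40_26 : permPieceF tabs.word letSel 59 1 115544 4444 = true := by decide +kernel
theorem perm_piece_40_27 : permPieceF tabs.word letSel 59 1 119988 2772 = true := by decide +kernel
theorem perm_piece_41_0 : permPieceF tabs.word letSel 60 1 0 8080 = true := by decide +kernel
theorem perm_piece_41_1 : permPieceF tabs.word letSel 60 1 8080 8080 = true := by decide +kernel
theorem perm_piece_41_2 : permPieceF tabs.word letSel 60 1 16160 8080 = true := by decide +kernel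
theorem perm_piece_41_3 : permPieceF tabs.word letSel 60 1 24240 8080 = true := by decide +kernel
theorem perm_piece_41_4 : permPieceF tabs.word letSel 60 1 32320 8080 = true := by decide +kernel
theorem perm_piece_41_5 : permPieceF tabs.word letSel 60 1 40400 8080 = true := by decide +kernel
theorem perm_piece_41_6 : permPieceF tabs.word letSel 60 1 48480 8080 = true := by decide +kernel
end Cfsg.Agent.Helper28.ON1
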