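import Cfsg.Agent.Helper28.ON1.Data
set_option autoImplicit false
set_option maxRecDepth 1000000
namespace Cfsg.Agent.Helper28.ON1
open Cfsg.Agent.Helper28
theorem perm_piece_42_8 : permPieceF tabs.word letSel 61 1 64640 8080 = true := by decide +kernel
theorem perm_piece_42_9 : permPieceF tabs.word letSel 61 1 72720 8080 = true := by decide +kernel
theorem perm_piece_42_10 : permPieceF tabs.word letSel 61 1 80800 8080 = true := by decide +kernel
theorem perm_piece_42_11 : permPieceF tabs.word letSel 61 1 88880 8080 = true := by decide +kernel
theorem perm_piece_42_12 : permPieceF tabs.word letSel 61 1 96960 8080 = true := by decide +kernel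
theorem perm_piece_42_13 : permPieceF tabs.word letSel 61 1 105040 8080 = true := by decide +kernel
theorem perm_piece_42_14 : permPieceF tabs.word letSel 61 1 113120 8080 = true := by decide +kernel
theorem perm_piece_42_15 : permPieceF tabs.word letSel 61 1 121200 1560 = true := by decide +kernel
end Cfsg.Agent.Helper28.ON1
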