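import Cfsg.Agent.Helper28.ON1.Data
set_option autoImplicit false
set_option maxRecDepth 1000000
namespace Cfsg.Agent.Helper28.ON1
open Cfsg.Agent.Helper28
theorem perm_piece_8_5 : permPieceF tabs.word letSel 23 1 74070 14814 = true := by decide +kernel
theorem perm_piece_8_6 : permPieceF tabs.word letSel 23 1 88884 14814 = true := by decide +kernel
theorem perm_piece_8_7 : permPieceF tabs.word letSel 23 1 103698 14814 = true := by decide +kernel
theorem perm_piece_8_8 : permPieceF tabs.word letSel 23 1 118512 4248 = true := by decide +kernel
theorem perm_piece_9_0 : permPieceF tabs.word letSel 24 1 0 22222 = true := by decide +kernel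
theorem perm_piece_9_1 : permPieceF tabs.word letSel 24 1 22222 22222 = true := by decide +kernel
theorem perm_piece_9_2 : permPieceF tabs.word letSel 24 1 44444 22222 = true := by decide +kernel
theorem perm_piece_9_3 : permPieceF tabs.word letSel 24 1 66666 22222 = true := by decide +kernel
theorem perm_piece_9_4 : permPieceF tabs.word letSel 24 1 88888 22222 = true := by decide +kernel
end Cfsg.Agent.Helper28.ON1
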