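import Cfsg.Agent.Helper28.ON1.Data
set_option autoImplicit false
set_option maxRecDepth 1000000
namespace Cfsg.Agent.Helper28.ON1
open Cfsg.Agent.Helper28
theorem perm_piece_11_2 : permPieceF tabs.word letSel 26 1 44444 22222 = true := by decide +kernel
theorem perm_piece_11_3 : permPieceF tabs.word letSel 26 1 66666 22222 = true := by decide +kernel
theorem perm_piece_11_4 : permPieceF tabs.word letSel 26 1 88888 22222 = true := by decide +kernel
theorem perm_piece_11_5 : permPieceF tabs.word letSel 26 1 111110 11650 = true := by decide +kernel
theorem perm_piece_12_0 : permPieceF tabs.word letSel 27 2 0 22222 = true := by decide +kernel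
theorem perm_piece_12_1 : permPieceF tabs.word letSel 27 2 22222 22222 = true := by decide +kernel
theorem perm_piece_12_2 : permPieceF tabs.word letSel 27 2 44444 22222 = true := by decide +kernel
theorem perm_piece_12_3 : permPieceF tabs.word letSel 27 2 66666 22222 = true := by decide +kernel
theorem perm_piece_12_4 : permPieceF tabs.word letSel 27 2 88888 22222 = true := by decide +kernel
end Cfsg.Agent.Helper28.ON1
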