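import Cfsg.Agent.Helper28.ON1.F0
import Cfsg.Agent.Helper28.ON1.F1
import Cfsg.Agent.Helper28.ON1.F2
import Cfsg.Agent.Helper28.ON1.F3
import Cfsg.Agent.Helper28.ON1.F4
import Cfsg.Agent.Helper28.ON1.F5
import Cfsg.Agent.Helper28.ON1.F6
import Cfsg.Agent.Helper28.ON1.F7
import Cfsg.Agent.Helper28.ON1.F8
import Cfsg.Agent.Helper28.ON1.F9
import Cfsg.Agent.Helper28.ON1.F10
import Cfsg.Agent.Helper28.ON1.F11
import Cfsg.Agent.Helper28.ON1.F12
import Cfsg.Agent.Helper28.ON1.F13
import Cfsg.Agent.Helper28.ON1.F14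
import Cfsg.Agent.Helper28.ON1.F15
import Cfsg.Agent.Helper28.ON1.F16
import Cfsg.Agent.Helper28.ON1.F17
import Cfsg.Agent.Helper28.ON1.F18
import Cfsg.Agent.Helper28.ON1.F19
import Cfsg.Agent.Helper28.ON1.F20
import Cfsg.Agent.Helper28.ON1.F21
import Cfsg.Agent.Helper28.ON1.F22
import Cfsg.Agent.Helper28.ON1.F23
import Cfsg.Agent.Helper28.ON1.F24
import Cfsg.Agent.Helper28.ON1.F25
import Cfsg.Agent.Helper28.ON1.F26
import Cfsg.Agent.Helper28.ON1.Fin0
import Cfsg.Agent.Helper28.ON1.Fin1
import Cfsg.Agent.Helper28.ON1.Fin2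
import Cfsg.Agent.Helper28.ON1.Fin3
import Cfsg.Agent.Helper28.ON1.Fin4
import Cfsg.Agent.Helper28.ON1.Fin5
import Cfsg.Agent.Helper28.ON1.Fin6
import Cfsg.Agent.Helper28.ON1.Fin7
import Cfsg.Agent.Helper28.ON1.Fin8
import Cfsg.Agent.Helper28.ON1.Fin9
import Cfsg.Agent.Helper28.ON1.Fin10
import Cfsg.Agent.Helper28.ON1.Fin11
import Cfsg.Agent.Helper28.ON1.Fin12
import Cfsg.Agent.Helper28.ON1.Fin13
import Cfsg.Agent.Helper28.ON1.Fin14
import Cfsg.Agent.Helper28.ON1.Fin15
import Cfsg.Agent.Helper28.ON1.Fin16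
import Cfsg.Agent.Helper28.ON1.Fin17
import Cfsg.Agent.Helper28.ON1.Fin18
import Cfsg.Agent.Helper28.ON1.Fin19
import Cfsg.Agent.Helper28.ON1.Fin20
import Cfsg.Agent.Helper28.ON1.Fin21
import Cfsg.Agent.Helper28.ON1.Inv0
import Cfsg.Agent.Helper28.ON1.Inv1
import Cfsg.Agent.Helper28.ON1.Inv2
import Cfsg.Agent.Helper28.ON1.Inv3
import Cfsg.Agent.Helper28.ON1.Inv4
import Cfsg.Agent.Helper28.ON1.Inv5
import Cfsg.Agent.Helper28.ON1.Misc0
import Cfsg.Agent.Helper28.ON1.P0
import Cfsg.Agent.Helper28.ON1.P1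
import Cfsg.Agent.Helper28.ON1.P2
import Cfsg.Agent.Helper28.ON1.P3
import Cfsg.Agent.Helper28.ON1.P4
import Cfsg.Agent.Helper28.ON1.P5
import Cfsg.Agent.Helper28.ON1.P6
import Cfsg.Agent.Helper28.ON1.P7
import Cfsg.Agent.Helper28.ON1.P8
import Cfsg.Agent.Helper28.ON1.P9
import Cfsg.Agent.Helper28.ON1.P10
import Cfsg.Agent.Helper28.ON1.P11
import Cfsg.Agent.Helper28.ON1.P12
import Cfsg.Agent.Helper28.ON1.P13
import Cfsg.Agent.Helper28.ON1.P14
import Cfsg.Agent.Helper28.ON1.P15
import Cfsg.Agent.Helper28.ON1.P16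
import Cfsg.Agent.Helper28.ON1.P17
import Cfsg.Agent.Helper28.ON1.P18
import Cfsg.Agent.Helper28.ON1.P19
import Cfsg.Agent.Helper28.ON1.P20
import Cfsg.Agent.Helper28.ON1.P21
import Cfsg.Agent.Helper28.ON1.P22
import Cfsg.Agent.Helper28.ON1.P23
import Cfsg.Agent.Helper28.ON1.P24
import Cfsg.Agent.Helper28.ON1.P25
import Cfsg.Agent.Helper28.ON1.P26
import Cfsg.Agent.Helper28.ON1.P27
import Cfsg.Agent.Helper28.ON1.P28
import Cfsg.Agent.Helper28.ON1.P29
import Cfsg.Agent.Helper28.ON1.P30
import Cfsg.Agent.Helper28.ON1.P31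
import Cfsg.Agent.Helper28.ON1.P32
import Cfsg.Agent.Helper28.ON1.P33
import Cfsg.Agent.Helper28.ON1.P34
import Cfsg.Agent.Helper28.ON1.P35
import Cfsg.Agent.Helper28.ON1.P36
import Cfsg.Agent.Helper28.ON1.P37
import Cfsg.Agent.Helper28.ON1.P38
import Cfsg.Agent.Helper28.ON1.P39
import Cfsg.Agent.Helper28.ON1.P40
import Cfsg.Agent.Helper28.ON1.P41
set_option autoImplicit false
namespace Cfsg.Agent.Helper28.ON1
open Cfsg.Agent.Helper28
theorem fin_upto0 : allLt (finRow tabs ptabs 1043577) 714 = true :=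
  allLt_extend _ 0 714 714 rfl (allLt_zero _) fin_piece0
theorem fin_upto1 : allLt (finRow tabs ptabs 1043577) 1428 = true :=
  allLt_extend _ 714 714 1428 rfl fin_upto0 fin_piece1
theorem fin_upto2 : allLt (finRow tabs ptabs 1043577) 2142 = true :=
  allLt_extend _ 1428 714 2142 rfl fin_upto1 fin_piece2
theorem fin_upto3 : allLt (finRow tabs ptabs 1043577) 2856 = true :=
  allLt_extend _ 2142 714 2856 rfl fin_upto2 fin_piece3
theorem fin_upto4 : allLt (finRow tabs ptabs 1043577) 3570 = true :=
  allLt_extend _ 2856 714 3570 rfl fin_upto3 fin_piece4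
theorem fin_upto5 : allLt (finRow tabs ptabs 1043577) 4284 = true :=
  allLt_extend _ 3570 714 4284 rfl fin_upto4 fin_piece5
theorem fin_upto6 : allLt (finRow tabs ptabs 1043577) 4998 = true :=
  allLt_extend _ 4284 714 4998 rfl fin_upto5 fin_piece6
theorem fin_upto7 : allLt (finRow tabs ptabs 1043577) 5712 = true :=
  allLt_extend _ 4998 714 5712 rfl fin_upto6 fin_piece7
theorem fin_upto8 : allLt (finRow tabs ptabs 1043577) 6426 = true :=
  allLt_extend _ 5712 714 6426 rfl fin_upto7 fin_piece8
theorem fin_upto9 : allLt (finRow tabs ptabs 1043577) 7140 = true :=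
  allLt_extend _ 6426 714 7140 rfl fin_upto8 fin_piece9
theorem fin_upto10 : allLt (finRow tabs ptabs 1043577) 7854 = true :=
  allLt_extend _ 7140 714 7854 rfl fin_upto9 fin_piece10
theorem fin_upto11 : allLt (finRow tabs ptabs 1043577) 8568 = true :=
  allLt_extend _ 7854 714 8568 rfl fin_upto10 fin_piece11
theorem fin_upto12 : allLt (finRow tabs ptabs 1043577) 9282 = true :=
  allLt_extend _ 8568 714 9282 rfl fin_upto11 fin_piece12
theorem fin_upto13 : allLt (finRow tabs ptabs 1043577) 9996 = true :=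
  allLt_extend _ 9282 714 9996 rfl fin_upto12 fin_piece13
theorem fin_upto14 : allLt (finRow tabs ptabs 1043577) 10710 = true :=
  allLt_extend _ 9996 714 10710 rfl fin_upto13 fin_piece14
theorem fin_upto15 : allLt (finRow tabs ptabs 1043577) 11424 = true :=
  allLt_extend _ 10710 714 11424 rfl fin_upto14 fin_piece15
theorem fin_upto16 : allLt (finRow tabs ptabs 1043577) 12138 = true :=
  allLt_extend _ 11424 714 12138 rfl fin_upto15 fin_piece16
theorem fin_upto17 : allLt (finRow tabs ptabs 1043577) 12852 = true :=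
  allLt_extend _ 12138 714 12852 rfl fin_upto16 fin_piece17
theorem fin_upto18 : allLt (finRow tabs ptabs 1043577) 13566 = true :=
  allLt_extend _ 12852 714 13566 rfl fin_upto17 fin_piece18
theorem fin_upto19 : allLt (finRow tabs ptabs 1043577) 14280 = true :=
  allLt_extend _ 13566 714 14280 rfl fin_upto18 fin_piece19
theorem fin_upto20 : allLt (finRow tabs ptabs 1043577) 14994 = true :=
  allLt_extend _ 14280 714 14994 rfl fin_upto19 fin_piece20
theorem fin_upto21 : allLt (finRow tabs ptabs 1043577) 15708 = true :=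
  allLt_extend _ 14994 714 15708 rfl fin_upto20 fin_piece21
theorem fin_upto22 : allLt (finRow tabs ptabs 1043577) 16422 = true :=
  allLt_extend _ 15708 714 16422 rfl fin_upto21 fin_piece22
theorem fin_upto23 : allLt (finRow tabs ptabs 1043577) 17136 = true :=
  allLt_extend _ 16422 714 17136 rfl fin_upto22 fin_piece23
theorem fin_upto24 : allLt (finRow tabs ptabs 1043577) 17850 = true :=
  allLt_extend _ 17136 714 17850 rfl fin_upto23 fin_piece24
theorem fin_upto25 : allLt (finRow tabs ptabs 1043577) 18564 = true :=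
  allLt_extend _ 17850 714 18564 rfl fin_upto24 fin_piece25
theorem fin_upto26 : allLt (finRow tabs ptabs 1043577) 19278 = true :=
  allLt_extend _ 18564 714 19278 rfl fin_upto25 fin_piece26
theorem fin_upto27 : allLt (finRow tabs ptabs 1043577) 19992 = true :=
  allLt_extend _ 19278 714 19992 rfl fin_upto26 fin_piece27
theorem fin_upto28 : allLt (finRow tabs ptabs 1043577) 20706 = true :=
  allLt_extend _ 19992 714 20706 rfl fin_upto27 fin_piece28
theorem fin_upto29 : allLt (finRow tabs ptabs 1043577) 21420 = true :=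
  allLt_extend _ 20706 714 21420 rfl fin_upto28 fin_piece29
theorem fin_upto30 : allLt (finRow tabs ptabs 1043577) 22134 = true :=
  allLt_extend _ 21420 714 22134 rfl fin_upto29 fin_piece30
theorem fin_upto31 : allLt (finRow tabs ptabs 1043577) 22848 = true :=
  allLt_extend _ 22134 714 22848 rfl fin_upto30 fin_piece31
theorem fin_upto32 : allLt (finRow tabs ptabs 1043577) 23562 = true :=
  allLt_extend _ 22848 714 23562 rfl fin_upto31 fin_piece32
theorem fin_upto33 : allLt (finRow tabs ptabs 1043577) 24276 = true :=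
  allLt_extend _ 23562 714 24276 rfl fin_upto32 fin_piece33
theorem fin_upto34 : allLt (finRow tabs ptabs 1043577) 24990 = true :=
  allLt_extend _ 24276 714 24990 rfl fin_upto33 fin_piece34
theorem fin_upto35 : allLt (finRow tabs ptabs 1043577) 25704 = true :=
  allLt_extend _ 24990 714 25704 rfl fin_upto34 fin_piece35
theorem fin_upto36 : allLt (finRow tabs ptabs 1043577) 26418 = true :=
  allLt_extend _ 25704 714 26418 rfl fin_upto35 fin_piece36
theorem fin_upto37 : allLt (finRow tabs ptabs 1043577) 27132 = true :=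
  allLt_extend _ 26418 714 27132 rfl fin_upto36 fin_piece37
theorem fin_upto38 : allLt (finRow tabs ptabs 1043577) 27846 = true :=
  allLt_extend _ 27132 714 27846 rfl fin_upto37 fin_piece38
theorem fin_upto39 : allLt (finRow tabs ptabs 1043577) 28560 = true :=
  allLt_extend _ 27846 714 28560 rfl fin_upto38 fin_piece39
theorem fin_upto40 : allLt (finRow tabs ptabs 1043577) 29274 = true :=
  allLt_extend _ 28560 714 29274 rfl fin_upto39 fin_piece40
theorem fin_upto41 : allLt (finRow tabs ptabs 1043577) 29988 = true :=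
  allLt_extend _ 29274 714 29988 rfl fin_upto40 fin_piece41
theorem fin_upto42 : allLt (finRow tabs ptabs 1043577) 30702 = true :=
  allLt_extend _ 29988 714 30702 rfl fin_upto41 fin_piece42
theorem fin_upto43 : allLt (finRow tabs ptabs 1043577) 31416 = true :=
  allLt_extend _ 30702 714 31416 rfl fin_upto42 fin_piece43
theorem fin_upto44 : allLt (finRow tabs ptabs 1043577) 32130 = true :=
  allLt_extend _ 31416 714 32130 rfl fin_upto43 fin_piece44
theorem fin_upto45 : allLt (finRow tabs ptabs 1043577) 32844 = true :=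
  allLt_extend _ 32130 714 32844 rfl fin_upto44 fin_piece45
theorem fin_upto46 : allLt (finRow tabs ptabs 1043577) 33558 = true :=
  allLt_extend _ 32844 714 33558 rfl fin_upto45 fin_piece46
theorem fin_upto47 : allLt (finRow tabs ptabs 1043577) 34272 = true :=
  allLt_extend _ 33558 714 34272 rfl fin_upto46 fin_piece47
theorem fin_upto48 : allLt (finRow tabs ptabs 1043577) 34986 = true :=
  allLt_extend _ 34272 714 34986 rfl fin_upto47 fin_piece48
theorem fin_upto49 : allLt (finRow tabs ptabs 1043577) 35700 = true :=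
  allLt_extend _ 34986 714 35700 rfl fin_upto48 fin_piece49
theorem fin_upto50 : allLt (finRow tabs ptabs 1043577) 36414 = true :=
  allLt_extend _ 35700 714 36414 rfl fin_upto49 fin_piece50
theorem fin_upto51 : allLt (finRow tabs ptabs 1043577) 37128 = true :=
  allLt_extend _ 36414 714 37128 rfl fin_upto50 fin_piece51
theorem fin_upto52 : allLt (finRow tabs ptabs 1043577) 37842 = true :=
  allLt_extend _ 37128 714 37842 rfl fin_upto51 fin_piece52
theorem fin_upto53 : allLt (finRow tabs ptabs 1043577) 38556 = true :=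
  allLt_extend _ 37842 714 38556 rfl fin_upto52 fin_piece53
theorem fin_upto54 : allLt (finRow tabs ptabs 1043577) 39270 = true :=
  allLt_extend _ 38556 714 39270 rfl fin_upto53 fin_piece54
theorem fin_upto55 : allLt (finRow tabs ptabs 1043577) 39984 = true :=
  allLt_extend _ 39270 714 39984 rfl fin_upto54 fin_piece55
theorem fin_upto56 : allLt (finRow tabs ptabs 1043577) 40698 = true :=
  allLt_extend _ 39984 714 40698 rfl fin_upto55 fin_piece56
theorem fin_upto57 : allLt (finRow tabs ptabs 1043577) 41412 = true :=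
  allLt_extend _ 40698 714 41412 rfl fin_upto56 fin_piece57
theorem fin_upto58 : allLt (finRow tabs ptabs 1043577) 42126 = true :=
  allLt_extend _ 41412 714 42126 rfl fin_upto57 fin_piece58
theorem fin_upto59 : allLt (finRow tabs ptabs 1043577) 42840 = true :=
  allLt_extend _ 42126 714 42840 rfl fin_upto58 fin_piece59
theorem fin_upto60 : allLt (finRow tabs ptabs 1043577) 43554 = true :=
  allLt_extend _ 42840 714 43554 rfl fin_upto59 fin_piece60
theorem fin_upto61 : allLt (finRow tabs ptabs 1043577) 44268 = true :=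
  allLt_extend _ 43554 714 44268 rfl fin_upto60 fin_piece61
theorem fin_upto62 : allLt (finRow tabs ptabs 1043577) 44982 = true :=
  allLt_extend _ 44268 714 44982 rfl fin_upto61 fin_piece62
theorem fin_upto63 : allLt (finRow tabs ptabs 1043577) 45696 = true :=
  allLt_extend _ 44982 714 45696 rfl fin_upto62 fin_piece63
theorem fin_upto64 : allLt (finRow tabs ptabs 1043577) 46410 = true :=
  allLt_extend _ 45696 714 46410 rfl fin_upto63 fin_piece64
theorem fin_upto65 : allLt (finRow tabs ptabs 1043577) 47124 = true :=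
  allLt_extend _ 46410 714 47124 rfl fin_upto64 fin_piece65
theorem fin_upto66 : allLt (finRow tabs ptabs 1043577) 47838 = true :=
  allLt_extend _ 47124 714 47838 rfl fin_upto65 fin_piece66
theorem fin_upto67 : allLt (finRow tabs ptabs 1043577) 48552 = true :=
  allLt_extend _ 47838 714 48552 rfl fin_upto66 fin_piece67
theorem fin_upto68 : allLt (finRow tabs ptabs 1043577) 49266 = true :=
  allLt_extend _ 48552 714 49266 rfl fin_upto67 fin_piece68
theorem fin_upto69 : allLt (finRow tabs ptabs 1043577) 49980 = true :=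
  allLt_extend _ 49266 714 49980 rfl fin_upto68 fin_piece69
theorem fin_upto70 : allLt (finRow tabs ptabs 1043577) 50694 = true :=
  allLt_extend _ 49980 714 50694 rfl fin_upto69 fin_piece70
theorem fin_upto71 : allLt (finRow tabs ptabs 1043577) 51408 = true :=
  allLt_extend _ 50694 714 51408 rfl fin_upto70 fin_piece71
theorem fin_upto72 : allLt (finRow tabs ptabs 1043577) 52122 = true :=
  allLt_extend _ 51408 714 52122 rfl fin_upto71 fin_piece72
theorem fin_upto73 : allLt (finRow tabs ptabs 1043577) 52836 = true :=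
  allLt_extend _ 52122 714 52836 rfl fin_upto72 fin_piece73
theorem fin_upto74 : allLt (finRow tabs ptabs 1043577) 53550 = true :=
  allLt_extend _ 52836 714 53550 rfl fin_upto73 fin_piece74
theorem fin_upto75 : allLt (finRow tabs ptabs 1043577) 54264 = true :=
  allLt_extend _ 53550 714 54264 rfl fin_upto74 fin_piece75
theorem fin_upto76 : allLt (finRow tabs ptabs 1043577) 54978 = true :=
  allLt_extend _ 54264 714 54978 rfl fin_upto75 fin_piece76
theorem fin_upto77 : allLt (finRow tabs ptabs 1043577) 55692 = true :=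
  allLt_extend _ 54978 714 55692 rfl fin_upto76 fin_piece77
theorem fin_upto78 : allLt (finRow tabs ptabs 1043577) 56406 = true :=
  allLt_extend _ 55692 714 56406 rfl fin_upto77 fin_piece78
theorem fin_upto79 : allLt (finRow tabs ptabs 1043577) 57120 = true :=
  allLt_extend _ 56406 714 57120 rfl fin_upto78 fin_piece79
theorem fin_upto80 : allLt (finRow tabs ptabs 1043577) 57834 = true :=
  allLt_extend _ 57120 714 57834 rfl fin_upto79 fin_piece80
theorem fin_upto81 : allLt (finRow tabs ptabs 1043577) 58548 = true :=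
  allLt_extend _ 57834 714 58548 rfl fin_upto80 fin_piece81
theorem fin_upto82 : allLt (finRow tabs ptabs 1043577) 59262 = true :=
  allLt_extend _ 58548 714 59262 rfl fin_upto81 fin_piece82
theorem fin_upto83 : allLt (finRow tabs ptabs 1043577) 59976 = true :=
  allLt_extend _ 59262 714 59976 rfl fin_upto82 fin_piece83
theorem fin_upto84 : allLt (finRow tabs ptabs 1043577) 60690 = true :=
  allLt_extend _ 59976 714 60690 rfl fin_upto83 fin_piece84
theorem fin_upto85 : allLt (finRow tabs ptabs 1043577) 61404 = true :=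
  allLt_extend _ 60690 714 61404 rfl fin_upto84 fin_piece85
theorem fin_upto86 : allLt (finRow tabs ptabs 1043577) 62118 = true :=
  allLt_extend _ 61404 714 62118 rfl fin_upto85 fin_piece86
theorem fin_upto87 : allLt (finRow tabs ptabs 1043577) 62832 = true :=
  allLt_extend _ 62118 714 62832 rfl fin_upto86 fin_piece87
theorem fin_upto88 : allLt (finRow tabs ptabs 1043577) 63546 = true :=
  allLt_extend _ 62832 714 63546 rfl fin_upto87 fin_piece88
theorem fin_upto89 : allLt (finRow tabs ptabs 1043577) 64260 = true :=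
  allLt_extend _ 63546 714 64260 rfl fin_upto88 fin_piece89
theorem fin_upto90 : allLt (finRow tabs ptabs 1043577) 64974 = true :=
  allLt_extend _ 64260 714 64974 rfl fin_upto89 fin_piece90
theorem fin_upto91 : allLt (finRow tabs ptabs 1043577) 65688 = true :=
  allLt_extend _ 64974 714 65688 rfl fin_upto90 fin_piece91
theorem fin_upto92 : allLt (finRow tabs ptabs 1043577) 66402 = true :=
  allLt_extend _ 65688 714 66402 rfl fin_upto91 fin_piece92
theorem fin_upto93 : allLt (finRow tabs ptabs 1043577) 67116 = true :=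
  allLt_extend _ 66402 714 67116 rfl fin_upto92 fin_piece93
theorem fin_upto94 : allLt (finRow tabs ptabs 1043577) 67830 = true :=
  allLt_extend _ 67116 714 67830 rfl fin_upto93 fin_piece94
theorem fin_upto95 : allLt (finRow tabs ptabs 1043577) 68544 = true :=
  allLt_extend _ 67830 714 68544 rfl fin_upto94 fin_piece95
theorem fin_upto96 : allLt (finRow tabs ptabs 1043577) 69258 = true :=
  allLt_extend _ 68544 714 69258 rfl fin_upto95 fin_piece96
theorem fin_upto97 : allLt (finRow tabs ptabs 1043577) 69972 = true :=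
  allLt_extend _ 69258 714 69972 rfl fin_upto96 fin_piece97
theorem fin_upto98 : allLt (finRow tabs ptabs 1043577) 70686 = true :=
  allLt_extend _ 69972 714 70686 rfl fin_upto97 fin_piece98
theorem fin_upto99 : allLt (finRow tabs ptabs 1043577) 71400 = true :=
  allLt_extend _ 70686 714 71400 rfl fin_upto98 fin_piece99
theorem fin_upto100 : allLt (finRow tabs ptabs 1043577) 72114 = true :=
  allLt_extend _ 71400 714 72114 rfl fin_upto99 fin_piece100
theorem fin_upto101 : allLt (finRow tabs ptabs 1043577) 72828 = true :=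
  allLt_extend _ 72114 714 72828 rfl fin_upto100 fin_piece101
theorem fin_upto102 : allLt (finRow tabs ptabs 1043577) 73542 = true :=
  allLt_extend _ 72828 714 73542 rfl fin_upto101 fin_piece102
theorem fin_upto103 : allLt (finRow tabs ptabs 1043577) 74256 = true :=
  allLt_extend _ 73542 714 74256 rfl fin_upto102 fin_piece103
theorem fin_upto104 : allLt (finRow tabs ptabs 1043577) 74970 = true :=
  allLt_extend _ 74256 714 74970 rfl fin_upto103 fin_piece104
theorem fin_upto105 : allLt (finRow tabs ptabs 1043577) 75684 = true :=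
  allLt_extend _ 74970 714 75684 rfl fin_upto104 fin_piece105
theorem fin_upto106 : allLt (finRow tabs ptabs 1043577) 76398 = true :=
  allLt_extend _ 75684 714 76398 rfl fin_upto105 fin_piece106
theorem fin_upto107 : allLt (finRow tabs ptabs 1043577) 77112 = true :=
  allLt_extend _ 76398 714 77112 rfl fin_upto106 fin_piece107
theorem fin_upto108 : allLt (finRow tabs ptabs 1043577) 77826 = true :=
  allLt_extend _ 77112 714 77826 rfl fin_upto107 fin_piece108
theorem fin_upto109 : allLt (finRow tabs ptabs 1043577) 78540 = true :=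
  allLt_extend _ 77826 714 78540 rfl fin_upto108 fin_piece109
theorem fin_upto110 : allLt (finRow tabs ptabs 1043577) 79254 = true :=
  allLt_extend _ 78540 714 79254 rfl fin_upto109 fin_piece110
theorem fin_upto111 : allLt (finRow tabs ptabs 1043577) 79968 = true :=
  allLt_extend _ 79254 714 79968 rfl fin_upto110 fin_piece111
theorem fin_upto112 : allLt (finRow tabs ptabs 1043577) 80682 = true :=
  allLt_extend _ 79968 714 80682 rfl fin_upto111 fin_piece112
theorem fin_upto113 : allLt (finRow tabs ptabs 1043577) 81396 = true :=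
  allLt_extend _ 80682 714 81396 rfl fin_upto112 fin_piece113
theorem fin_upto114 : allLt (finRow tabs ptabs 1043577) 82110 = true :=
  allLt_extend _ 81396 714 82110 rfl fin_upto113 fin_piece114
theorem fin_upto115 : allLt (finRow tabs ptabs 1043577) 82824 = true :=
  allLt_extend _ 82110 714 82824 rfl fin_upto114 fin_piece115
theorem fin_upto116 : allLt (finRow tabs ptabs 1043577) 83538 = true :=
  allLt_extend _ 82824 714 83538 rfl fin_upto115 fin_piece116
theorem fin_upto117 : allLt (finRow tabs ptabs 1043577) 84252 = true :=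
  allLt_extend _ 83538 714 84252 rfl fin_upto116 fin_piece117
theorem fin_upto118 : allLt (finRow tabs ptabs 1043577) 84966 = true :=
  allLt_extend _ 84252 714 84966 rfl fin_upto117 fin_piece118
theorem fin_upto119 : allLt (finRow tabs ptabs 1043577) 85680 = true :=
  allLt_extend _ 84966 714 85680 rfl fin_upto118 fin_piece119
theorem fin_upto120 : allLt (finRow tabs ptabs 1043577) 86394 = true :=
  allLt_extend _ 85680 714 86394 rfl fin_upto119 fin_piece120
theorem fin_upto121 : allLt (finRow tabs ptabs 1043577) 87108 = true :=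
  allLt_extend _ 86394 714 87108 rfl fin_upto120 fin_piece121
theorem fin_upto122 : allLt (finRow tabs ptabs 1043577) 87822 = true :=
  allLt_extend _ 87108 714 87822 rfl fin_upto121 fin_piece122
theorem fin_upto123 : allLt (finRow tabs ptabs 1043577) 88536 = true :=
  allLt_extend _ 87822 714 88536 rfl fin_upto122 fin_piece123
theorem fin_upto124 : allLt (finRow tabs ptabs 1043577) 89250 = true :=
  allLt_extend _ 88536 714 89250 rfl fin_upto123 fin_piece124
theorem fin_upto125 : allLt (finRow tabs ptabs 1043577) 89964 = true :=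
  allLt_extend _ 89250 714 89964 rfl fin_upto124 fin_piece125
theorem fin_upto126 : allLt (finRow tabs ptabs 1043577) 90678 = true :=
  allLt_extend _ 89964 714 90678 rfl fin_upto125 fin_piece126
theorem fin_upto127 : allLt (finRow tabs ptabs 1043577) 91392 = true :=
  allLt_extend _ 90678 714 91392 rfl fin_upto126 fin_piece127
theorem fin_upto128 : allLt (finRow tabs ptabs 1043577) 92106 = true :=
  allLt_extend _ 91392 714 92106 rfl fin_upto127 fin_piece128
theorem fin_upto129 : allLt (finRow tabs ptabs 1043577) 92820 = true :=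
  allLt_extend _ 92106 714 92820 rfl fin_upto128 fin_piece129
theorem fin_upto130 : allLt (finRow tabs ptabs 1043577) 93534 = true :=
  allLt_extend _ 92820 714 93534 rfl fin_upto129 fin_piece130
theorem fin_upto131 : allLt (finRow tabs ptabs 1043577) 94248 = true :=
  allLt_extend _ 93534 714 94248 rfl fin_upto130 fin_piece131
theorem fin_upto132 : allLt (finRow tabs ptabs 1043577) 94962 = true :=
  allLt_extend _ 94248 714 94962 rfl fin_upto131 fin_piece132
theorem fin_upto133 : allLt (finRow tabs ptabs 1043577) 95676 = true :=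
  allLt_extend _ 94962 714 95676 rfl fin_upto132 fin_piece133
theorem fin_upto134 : allLt (finRow tabs ptabs 1043577) 96390 = true :=
  allLt_extend _ 95676 714 96390 rfl fin_upto133 fin_piece134
theorem fin_upto135 : allLt (finRow tabs ptabs 1043577) 97104 = true :=
  allLt_extend _ 96390 714 97104 rfl fin_upto134 fin_piece135
theorem fin_upto136 : allLt (finRow tabs ptabs 1043577) 97818 = true :=
  allLt_extend _ 97104 714 97818 rfl fin_upto135 fin_piece136
theorem fin_upto137 : allLt (finRow tabs ptabs 1043577) 98532 = true :=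
  allLt_extend _ 97818 714 98532 rfl fin_upto136 fin_piece137
theorem fin_upto138 : allLt (finRow tabs ptabs 1043577) 99246 = true :=
  allLt_extend _ 98532 714 99246 rfl fin_upto137 fin_piece138
theorem fin_upto139 : allLt (finRow tabs ptabs 1043577) 99960 = true :=
  allLt_extend _ 99246 714 99960 rfl fin_upto138 fin_piece139
theorem fin_upto140 : allLt (finRow tabs ptabs 1043577) 100674 = true :=
  allLt_extend _ 99960 714 100674 rfl fin_upto139 fin_piece140
theorem fin_upto141 : allLt (finRow tabs ptabs 1043577) 101388 = true :=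
  allLt_extend _ 100674 714 101388 rfl fin_upto140 fin_piece141
theorem fin_upto142 : allLt (finRow tabs ptabs 1043577) 102102 = true :=
  allLt_extend _ 101388 714 102102 rfl fin_upto141 fin_piece142
theorem fin_upto143 : allLt (finRow tabs ptabs 1043577) 102816 = true :=
  allLt_extend _ 102102 714 102816 rfl fin_upto142 fin_piece143
theorem fin_upto144 : allLt (finRow tabs ptabs 1043577) 103530 = true :=
  allLt_extend _ 102816 714 103530 rfl fin_upto143 fin_piece144
theorem fin_upto145 : allLt (finRow tabs ptabs 1043577) 104244 = true :=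
  allLt_extend _ 103530 714 104244 rfl fin_upto144 fin_piece145
theorem fin_upto146 : allLt (finRow tabs ptabs 1043577) 104958 = true :=
  allLt_extend _ 104244 714 104958 rfl fin_upto145 fin_piece146
theorem fin_upto147 : allLt (finRow tabs ptabs 1043577) 105672 = true :=
  allLt_extend _ 104958 714 105672 rfl fin_upto146 fin_piece147
theorem fin_upto148 : allLt (finRow tabs ptabs 1043577) 106386 = true :=
  allLt_extend _ 105672 714 106386 rfl fin_upto147 fin_piece148
theorem fin_upto149 : allLt (finRow tabs ptabs 1043577) 107100 = true :=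
  allLt_extend _ 106386 714 107100 rfl fin_upto148 fin_piece149
theorem fin_upto150 : allLt (finRow tabs ptabs 1043577) 107814 = true :=
  allLt_extend _ 107100 714 107814 rfl fin_upto149 fin_piece150
theorem fin_upto151 : allLt (finRow tabs ptabs 1043577) 108528 = true :=
  allLt_extend _ 107814 714 108528 rfl fin_upto150 fin_piece151
theorem fin_upto152 : allLt (finRow tabs ptabs 1043577) 109242 = true :=
  allLt_extend _ 108528 714 109242 rfl fin_upto151 fin_piece152
theorem fin_upto153 : allLt (finRow tabs ptabs 1043577) 109956 = true :=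
  allLt_extend _ 109242 714 109956 rfl fin_upto152 fin_piece153
theorem fin_upto154 : allLt (finRow tabs ptabs 1043577) 110670 = true :=
  allLt_extend _ 109956 714 110670 rfl fin_upto153 fin_piece154
theorem fin_upto155 : allLt (finRow tabs ptabs 1043577) 111384 = true :=
  allLt_extend _ 110670 714 111384 rfl fin_upto154 fin_piece155
theorem fin_upto156 : allLt (finRow tabs ptabs 1043577) 112098 = true :=
  allLt_extend _ 111384 714 112098 rfl fin_upto155 fin_piece156
theorem fin_upto157 : allLt (finRow tabs ptabs 1043577) 112812 = true :=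
  allLt_extend _ 112098 714 112812 rfl fin_upto156 fin_piece157
theorem fin_upto158 : allLt (finRow tabs ptabs 1043577) 113526 = true :=
  allLt_extend _ 112812 714 113526 rfl fin_upto157 fin_piece158
theorem fin_upto159 : allLt (finRow tabs ptabs 1043577) 114240 = true :=
  allLt_extend _ 113526 714 114240 rfl fin_upto158 fin_piece159
theorem fin_upto160 : allLt (finRow tabs ptabs 1043577) 114954 = true :=
  allLt_extend _ 114240 714 114954 rfl fin_upto159 fin_piece160
theorem fin_upto161 : allLt (finRow tabs ptabs 1043577) 115668 = true :=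
  allLt_extend _ 114954 714 115668 rfl fin_upto160 fin_piece161
theorem fin_upto162 : allLt (finRow tabs ptabs 1043577) 116382 = true :=
  allLt_extend _ 115668 714 116382 rfl fin_upto161 fin_piece162
theorem fin_upto163 : allLt (finRow tabs ptabs 1043577) 117096 = true :=
  allLt_extend _ 116382 714 117096 rfl fin_upto162 fin_piece163
theorem fin_upto164 : allLt (finRow tabs ptabs 1043577) 117810 = true :=
  allLt_extend _ 117096 714 117810 rfl fin_upto163 fin_piece164
theorem fin_upto165 : allLt (finRow tabs ptabs 1043577) 118524 = true :=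
  allLt_extend _ 117810 714 118524 rfl fin_upto164 fin_piece165
theorem fin_upto166 : allLt (finRow tabs ptabs 1043577) 119238 = true :=
  allLt_extend _ 118524 714 119238 rfl fin_upto165 fin_piece166
theorem fin_upto167 : allLt (finRow tabs ptabs 1043577) 119952 = true :=
  allLt_extend _ 119238 714 119952 rfl fin_upto166 fin_piece167
theorem fin_upto168 : allLt (finRow tabs ptabs 1043577) 120666 = true :=
  allLt_extend _ 119952 714 120666 rfl fin_upto167 fin_piece168
theorem fin_upto169 : allLt (finRow tabs ptabs 1043577) 121380 = true :=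
  allLt_extend _ 120666 714 121380 rfl fin_upto168 fin_piece169
theorem fin_upto170 : allLt (finRow tabs ptabs 1043577) 122094 = true :=
  allLt_extend _ 121380 714 122094 rfl fin_upto169 fin_piece170
theorem fin_upto171 : allLt (finRow tabs ptabs 1043577) 122760 = true :=
  allLt_extend _ 122094 666 122760 rfl fin_upto170 fin_piece171
theorem fin_ok : checkFin tabs ptabs 1043577 = true := (checkFin_eq tabs ptabs 1043577).trans fin_upto171
theorem inv_upto0 : allLt (invRow ptabs) 2857 = true :=
  allLt_extend _ 0 2857 2857 rfl (allLt_zero _) inv_piece0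
theorem inv_upto1 : allLt (invRow ptabs) 5714 = true :=
  allLt_extend _ 2857 2857 5714 rfl inv_upto0 inv_piece1
theorem inv_upto2 : allLt (invRow ptabs) 8571 = true :=
  allLt_extend _ 5714 2857 8571 rfl inv_upto1 inv_piece2
theorem inv_upto3 : allLt (invRow ptabs) 11428 = true :=
  allLt_extend _ 8571 2857 11428 rfl inv_upto2 inv_piece3
theorem inv_upto4 : allLt (invRow ptabs) 14285 = true :=
  allLt_extend _ 11428 2857 14285 rfl inv_upto3 inv_piece4
theorem inv_upto5 : allLt (invRow ptabs) 17142 = true :=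
  allLt_extend _ 14285 2857 17142 rfl inv_upto4 inv_piece5
theorem inv_upto6 : allLt (invRow ptabs) 19999 = true :=
  allLt_extend _ 17142 2857 19999 rfl inv_upto5 inv_piece6
theorem inv_upto7 : allLt (invRow ptabs) 22856 = true :=
  allLt_extend _ 19999 2857 22856 rfl inv_upto6 inv_piece7
theorem inv_upto8 : allLt (invRow ptabs) 25713 = true :=
  allLt_extend _ 22856 2857 25713 rfl inv_upto7 inv_piece8
theorem inv_upto9 : allLt (invRow ptabs) 28570 = true :=
  allLt_extend _ 25713 2857 28570 rfl inv_upto8 inv_piece9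
theorem inv_upto10 : allLt (invRow ptabs) 31427 = true :=
  allLt_extend _ 28570 2857 31427 rfl inv_upto9 inv_piece10
theorem inv_upto11 : allLt (invRow ptabs) 34284 = true :=
  allLt_extend _ 31427 2857 34284 rfl inv_upto10 inv_piece11
theorem inv_upto12 : allLt (invRow ptabs) 37141 = true :=
  allLt_extend _ 34284 2857 37141 rfl inv_upto11 inv_piece12
theorem inv_upto13 : allLt (invRow ptabs) 39998 = true :=
  allLt_extend _ 37141 2857 39998 rfl inv_upto12 inv_piece13
theorem inv_upto14 : allLt (invRow ptabs) 42855 = true :=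
  allLt_extend _ 39998 2857 42855 rfl inv_upto13 inv_piece14
theorem inv_upto15 : allLt (invRow ptabs) 45712 = true :=
  allLt_extend _ 42855 2857 45712 rfl inv_upto14 inv_piece15
theorem inv_upto16 : allLt (invRow ptabs) 48569 = true :=
  allLt_extend _ 45712 2857 48569 rfl inv_upto15 inv_piece16
theorem inv_upto17 : allLt (invRow ptabs) 51426 = true :=
  allLt_extend _ 48569 2857 51426 rfl inv_upto16 inv_piece17
theorem inv_upto18 : allLt (invRow ptabs) 54283 = true :=
  allLt_extend _ 51426 2857 54283 rfl inv_upto17 inv_piece18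
theorem inv_upto19 : allLt (invRow ptabs) 57140 = true :=
  allLt_extend _ 54283 2857 57140 rfl inv_upto18 inv_piece19
theorem inv_upto20 : allLt (invRow ptabs) 59997 = true :=
  allLt_extend _ 57140 2857 59997 rfl inv_upto19 inv_piece20
theorem inv_upto21 : allLt (invRow ptabs) 62854 = true :=
  allLt_extend _ 59997 2857 62854 rfl inv_upto20 inv_piece21
theorem inv_upto22 : allLt (invRow ptabs) 65711 = true :=
  allLt_extend _ 62854 2857 65711 rfl inv_upto21 inv_piece22
theorem inv_upto23 : allLt (invRow ptabs) 68568 = true :=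
  allLt_extend _ 65711 2857 68568 rfl inv_upto22 inv_piece23
theorem inv_upto24 : allLt (invRow ptabs) 71425 = true :=
  allLt_extend _ 68568 2857 71425 rfl inv_upto23 inv_piece24
theorem inv_upto25 : allLt (invRow ptabs) 74282 = true :=
  allLt_extend _ 71425 2857 74282 rfl inv_upto24 inv_piece25
theorem inv_upto26 : allLt (invRow ptabs) 77139 = true :=
  allLt_extend _ 74282 2857 77139 rfl inv_upto25 inv_piece26
theorem inv_upto27 : allLt (invRow ptabs) 79996 = true :=
  allLt_extend _ 77139 2857 79996 rfl inv_upto26 inv_piece27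
theorem inv_upto28 : allLt (invRow ptabs) 82853 = true :=
  allLt_extend _ 79996 2857 82853 rfl inv_upto27 inv_piece28
theorem inv_upto29 : allLt (invRow ptabs) 85710 = true :=
  allLt_extend _ 82853 2857 85710 rfl inv_upto28 inv_piece29
theorem inv_upto30 : allLt (invRow ptabs) 88567 = true :=
  allLt_extend _ 85710 2857 88567 rfl inv_upto29 inv_piece30
theorem inv_upto31 : allLt (invRow ptabs) 91424 = true :=
  allLt_extend _ 88567 2857 91424 rfl inv_upto30 inv_piece31
theorem inv_upto32 : allLt (invRow ptabs) 94281 = true :=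
  allLt_extend _ 91424 2857 94281 rfl inv_upto31 inv_piece32
theorem inv_upto33 : allLt (invRow ptabs) 97138 = true :=
  allLt_extend _ 94281 2857 97138 rfl inv_upto32 inv_piece33
theorem inv_upto34 : allLt (invRow ptabs) 99995 = true :=
  allLt_extend _ 97138 2857 99995 rfl inv_upto33 inv_piece34
theorem inv_upto35 : allLt (invRow ptabs) 102852 = true :=
  allLt_extend _ 99995 2857 102852 rfl inv_upto34 inv_piece35
theorem inv_upto36 : allLt (invRow ptabs) 105709 = true :=
  allLt_extend _ 102852 2857 105709 rfl inv_upto35 inv_piece36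
theorem inv_upto37 : allLt (invRow ptabs) 108566 = true :=
  allLt_extend _ 105709 2857 108566 rfl inv_upto36 inv_piece37
theorem inv_upto38 : allLt (invRow ptabs) 111423 = true :=
  allLt_extend _ 108566 2857 111423 rfl inv_upto37 inv_piece38
theorem inv_upto39 : allLt (invRow ptabs) 114280 = true :=
  allLt_extend _ 111423 2857 114280 rfl inv_upto38 inv_piece39
theorem inv_upto40 : allLt (invRow ptabs) 117137 = true :=
  allLt_extend _ 114280 2857 117137 rfl inv_upto39 inv_piece40
theorem inv_upto41 : allLt (invRow ptabs) 119994 = true :=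
  allLt_extend _ 117137 2857 119994 rfl inv_upto40 inv_piece41
theorem inv_upto42 : allLt (invRow ptabs) 122760 = true :=
  allLt_extend _ 119994 2766 122760 rfl inv_upto41 inv_piece42
theorem inv_ok : invOk ptabs = true := (invOk_eq ptabs).trans inv_upto42
theorem defs_upto0 : allLt (defOk tabs) 66666 = true :=
  allLt_extend _ 0 66666 66666 rfl (allLt_zero _) defs_piece0
theorem defs_upto1 : allLt (defOk tabs) 133332 = true :=
  allLt_extend _ 66666 66666 133332 rfl defs_upto0 defs_piece1
theorem defs_upto2 : allLt (defOk tabs) 192607 = true :=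
  allLt_extend _ 133332 59275 192607 rfl defs_upto1 defs_piece2
theorem defs_ok : checkDefs tabs = true := (checkDefs_eq tabs).trans defs_upto2
theorem par_upto0 : allLt (parRow ptabs) 53333 = true :=
  allLt_extend _ 0 53333 53333 rfl (allLt_zero _) par_piece0
theorem par_upto1 : allLt (parRow ptabs) 106666 = true :=
  allLt_extend _ 53333 53333 106666 rfl par_upto0 par_piece1
theorem par_upto2 : allLt (parRow ptabs) 122760 = true :=
  allLt_extend _ 106666 16094 122760 rfl par_upto1 par_piece2
theorem par_ok : parOk ptabs = true := (parOk_eq ptabs).trans par_upto2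
theorem perm_g0_upto0 : TraceFix ptabs.perm tabs.word 6 9 44444 :=
  traceFix_extendF _ _ letSel perm_eq 6 9 0 44444 44444 rfl (traceFix_zero _ _ 6 9) perm_piece_0_0
theorem perm_g0_upto1 : TraceFix ptabs.perm tabs.word 6 9 88888 :=
  traceFix_extendF _ _ letSel perm_eq 6 9 44444 44444 88888 rfl perm_g0_upto0 perm_piece_0_1
theorem perm_g0_upto2 : TraceFix ptabs.perm tabs.word 6 9 122760 :=
  traceFix_extendF _ _ letSel perm_eq 6 9 88888 33872 122760 rfl perm_g0_upto1 perm_piece_0_2
theorem perm_g0 : ∀ r, 6 ≤ r → r < 6 + 9 → relOk ptabs (tabs.word r) 0 ptabs.n = true :=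
  relOk_of_traceFix ptabs tabs.word 6 9 perm_g0_upto2
theorem perm_g1_upto0 : TraceFix ptabs.perm tabs.word 15 1 14814 :=
  traceFix_extendF _ _ letSel perm_eq 15 1 0 14814 14814 rfl (traceFix_zero _ _ 15 1) perm_piece_1_0
theorem perm_g1_upto1 : TraceFix ptabs.perm tabs.word 15 1 29628 :=
  traceFix_extendF _ _ letSel perm_eq 15 1 14814 14814 29628 rfl perm_g1_upto0 perm_piece_1_1
theorem perm_g1_upto2 : TraceFix ptabs.perm tabs.word 15 1 44442 :=
  traceFix_extendF _ _ letSel perm_eq 15 1 29628 14814 44442 rfl perm_g1_upto1 perm_piece_1_2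
theorem perm_g1_upto3 : TraceFix ptabs.perm tabs.word 15 1 59256 :=
  traceFix_extendF _ _ letSel perm_eq 15 1 44442 14814 59256 rfl perm_g1_upto2 perm_piece_1_3
theorem perm_g1_upto4 : TraceFix ptabs.perm tabs.word 15 1 74070 :=
  traceFix_extendF _ _ letSel perm_eq 15 1 59256 14814 74070 rfl perm_g1_upto3 perm_piece_1_4
theorem perm_g1_upto5 : TraceFix ptabs.perm tabs.word 15 1 88884 :=
  traceFix_extendF _ _ letSel perm_eq 15 1 74070 14814 88884 rfl perm_g1_upto4 perm_piece_1_5
theorem perm_g1_upto6 : TraceFix ptabs.perm tabs.word 15 1 103698 :=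
  traceFix_extendF _ _ letSel perm_eq 15 1 88884 14814 103698 rfl perm_g1_upto5 perm_piece_1_6
theorem perm_g1_upto7 : TraceFix ptabs.perm tabs.word 15 1 118512 :=
  traceFix_extendF _ _ letSel perm_eq 15 1 103698 14814 118512 rfl perm_g1_upto6 perm_piece_1_7
theorem perm_g1_upto8 : TraceFix ptabs.perm tabs.word 15 1 122760 :=
  traceFix_extendF _ _ letSel perm_eq 15 1 118512 4248 122760 rfl perm_g1_upto7 perm_piece_1_8
theorem perm_g1 : ∀ r, 15 ≤ r → r < 15 + 1 → relOk ptabs (tabs.word r) 0 ptabs.n = true :=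
  relOk_of_traceFix ptabs tabs.word 15 1 perm_g1_upto8
theorem perm_g2_upto0 : TraceFix ptabs.perm tabs.word 16 1 22222 :=
  traceFix_extendF _ _ letSel perm_eq 16 1 0 22222 22222 rfl (traceFix_zero _ _ 16 1) perm_piece_2_0
theorem perm_g2_upto1 : TraceFix ptabs.perm tabs.word 16 1 44444 :=
  traceFix_extendF _ _ letSel perm_eq 16 1 22222 22222 44444 rfl perm_g2_upto0 perm_piece_2_1
theorem perm_g2_upto2 : TraceFix ptabs.perm tabs.word 16 1 66666 :=
  traceFix_extendF _ _ letSel perm_eq 16 1 44444 22222 66666 rfl perm_g2_upto1 perm_piece_2_2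
theorem perm_g2_upto3 : TraceFix ptabs.perm tabs.word 16 1 88888 :=
  traceFix_extendF _ _ letSel perm_eq 16 1 66666 22222 88888 rfl perm_g2_upto2 perm_piece_2_3
theorem perm_g2_upto4 : TraceFix ptabs.perm tabs.word 16 1 111110 :=
  traceFix_extendF _ _ letSel perm_eq 16 1 88888 22222 111110 rfl perm_g2_upto3 perm_piece_2_4
theorem perm_g2_upto5 : TraceFix ptabs.perm tabs.word 16 1 122760 :=
  traceFix_extendF _ _ letSel perm_eq 16 1 111110 11650 122760 rfl perm_g2_upto4 perm_piece_2_5
theorem perm_g2 : ∀ r, 16 ≤ r → r < 16 + 1 → relOk ptabs (tabs.word r) 0 ptabs.n = true :=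
  relOk_of_traceFix ptabs tabs.word 16 1 perm_g2_upto5
theorem perm_g3_upto0 : TraceFix ptabs.perm tabs.word 17 1 22222 :=
  traceFix_extendF _ _ letSel perm_eq 17 1 0 22222 22222 rfl (traceFix_zero _ _ 17 1) perm_piece_3_0
theorem perm_g3_upto1 : TraceFix ptabs.perm tabs.word 17 1 44444 :=
  traceFix_extendF _ _ letSel perm_eq 17 1 22222 22222 44444 rfl perm_g3_upto0 perm_piece_3_1
theorem perm_g3_upto2 : TraceFix ptabs.perm tabs.word 17 1 66666 :=
  traceFix_extendF _ _ letSel perm_eq 17 1 44444 22222 66666 rfl perm_g3_upto1 perm_piece_3_2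
theorem perm_g3_upto3 : TraceFix ptabs.perm tabs.word 17 1 88888 :=
  traceFix_extendF _ _ letSel perm_eq 17 1 66666 22222 88888 rfl perm_g3_upto2 perm_piece_3_3
theorem perm_g3_upto4 : TraceFix ptabs.perm tabs.word 17 1 111110 :=
  traceFix_extendF _ _ letSel perm_eq 17 1 88888 22222 111110 rfl perm_g3_upto3 perm_piece_3_4
theorem perm_g3_upto5 : TraceFix ptabs.perm tabs.word 17 1 122760 :=
  traceFix_extendF _ _ letSel perm_eq 17 1 111110 11650 122760 rfl perm_g3_upto4 perm_piece_3_5
theorem perm_g3 : ∀ r, 17 ≤ r → r < 17 + 1 → relOk ptabs (tabs.word r) 0 ptabs.n = true :=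
  relOk_of_traceFix ptabs tabs.word 17 1 perm_g3_upto5
theorem perm_g4_upto0 : TraceFix ptabs.perm tabs.word 18 1 22222 :=
  traceFix_extendF _ _ letSel perm_eq 18 1 0 22222 22222 rfl (traceFix_zero _ _ 18 1) perm_piece_4_0
theorem perm_g4_upto1 : TraceFix ptabs.perm tabs.word 18 1 44444 :=
  traceFix_extendF _ _ letSel perm_eq 18 1 22222 22222 44444 rfl perm_g4_upto0 perm_piece_4_1
theorem perm_g4_upto2 : TraceFix ptabs.perm tabs.word 18 1 66666 :=
  traceFix_extendF _ _ letSel perm_eq 18 1 44444 22222 66666 rfl perm_g4_upto1 perm_piece_4_2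
theorem perm_g4_upto3 : TraceFix ptabs.perm tabs.word 18 1 88888 :=
  traceFix_extendF _ _ letSel perm_eq 18 1 66666 22222 88888 rfl perm_g4_upto2 perm_piece_4_3
theorem perm_g4_upto4 : TraceFix ptabs.perm tabs.word 18 1 111110 :=
  traceFix_extendF _ _ letSel perm_eq 18 1 88888 22222 111110 rfl perm_g4_upto3 perm_piece_4_4
theorem perm_g4_upto5 : TraceFix ptabs.perm tabs.word 18 1 122760 :=
  traceFix_extendF _ _ letSel perm_eq 18 1 111110 11650 122760 rfl perm_g4_upto4 perm_piece_4_5
theorem perm_g4 : ∀ r, 18 ≤ r → r < 18 + 1 → relOk ptabs (tabs.word r) 0 ptabs.n = true :=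
  relOk_of_traceFix ptabs tabs.word 18 1 perm_g4_upto5
theorem perm_g5_upto0 : TraceFix ptabs.perm tabs.word 19 1 22222 :=
  traceFix_extendF _ _ letSel perm_eq 19 1 0 22222 22222 rfl (traceFix_zero _ _ 19 1) perm_piece_5_0
theorem perm_g5_upto1 : TraceFix ptabs.perm tabs.word 19 1 44444 :=
  traceFix_extendF _ _ letSel perm_eq 19 1 22222 22222 44444 rfl perm_g5_upto0 perm_piece_5_1
theorem perm_g5_upto2 : TraceFix ptabs.perm tabs.word 19 1 66666 :=
  traceFix_extendF _ _ letSel perm_eq 19 1 44444 22222 66666 rfl perm_g5_upto1 perm_piece_5_2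
theorem perm_g5_upto3 : TraceFix ptabs.perm tabs.word 19 1 88888 :=
  traceFix_extendF _ _ letSel perm_eq 19 1 66666 22222 88888 rfl perm_g5_upto2 perm_piece_5_3
theorem perm_g5_upto4 : TraceFix ptabs.perm tabs.word 19 1 111110 :=
  traceFix_extendF _ _ letSel perm_eq 19 1 88888 22222 111110 rfl perm_g5_upto3 perm_piece_5_4
theorem perm_g5_upto5 : TraceFix ptabs.perm tabs.word 19 1 122760 :=
  traceFix_extendF _ _ letSel perm_eq 19 1 111110 11650 122760 rfl perm_g5_upto4 perm_piece_5_5
theorem perm_g5 : ∀ r, 19 ≤ r → r < 19 + 1 → relOk ptabs (tabs.word r) 0 ptabs.n = true :=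
  relOk_of_traceFix ptabs tabs.word 19 1 perm_g5_upto5
theorem perm_g6_upto0 : TraceFix ptabs.perm tabs.word 20 2 14814 :=
  traceFix_extendF _ _ letSel perm_eq 20 2 0 14814 14814 rfl (traceFix_zero _ _ 20 2) perm_piece_6_0
theorem perm_g6_upto1 : TraceFix ptabs.perm tabs.word 20 2 29628 :=
  traceFix_extendF _ _ letSel perm_eq 20 2 14814 14814 29628 rfl perm_g6_upto0 perm_piece_6_1
theorem perm_g6_upto2 : TraceFix ptabs.perm tabs.word 20 2 44442 :=
  traceFix_extendF _ _ letSel perm_eq 20 2 29628 14814 44442 rfl perm_g6_upto1 perm_piece_6_2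
theorem perm_g6_upto3 : TraceFix ptabs.perm tabs.word 20 2 59256 :=
  traceFix_extendF _ _ letSel perm_eq 20 2 44442 14814 59256 rfl perm_g6_upto2 perm_piece_6_3
theorem perm_g6_upto4 : TraceFix ptabs.perm tabs.word 20 2 74070 :=
  traceFix_extendF _ _ letSel perm_eq 20 2 59256 14814 74070 rfl perm_g6_upto3 perm_piece_6_4
theorem perm_g6_upto5 : TraceFix ptabs.perm tabs.word 20 2 88884 :=
  traceFix_extendF _ _ letSel perm_eq 20 2 74070 14814 88884 rfl perm_g6_upto4 perm_piece_6_5
theorem perm_g6_upto6 : TraceFix ptabs.perm tabs.word 20 2 103698 :=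
  traceFix_extendF _ _ letSel perm_eq 20 2 88884 14814 103698 rfl perm_g6_upto5 perm_piece_6_6
theorem perm_g6_upto7 : TraceFix ptabs.perm tabs.word 20 2 118512 :=
  traceFix_extendF _ _ letSel perm_eq 20 2 103698 14814 118512 rfl perm_g6_upto6 perm_piece_6_7
theorem perm_g6_upto8 : TraceFix ptabs.perm tabs.word 20 2 122760 :=
  traceFix_extendF _ _ letSel perm_eq 20 2 118512 4248 122760 rfl perm_g6_upto7 perm_piece_6_8
theorem perm_g6 : ∀ r, 20 ≤ r → r < 20 + 2 → relOk ptabs (tabs.word r) 0 ptabs.n = true :=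
  relOk_of_traceFix ptabs tabs.word 20 2 perm_g6_upto8
theorem perm_g7_upto0 : TraceFix ptabs.perm tabs.word 22 1 44444 :=
  traceFix_extendF _ _ letSel perm_eq 22 1 0 44444 44444 rfl (traceFix_zero _ _ 22 1) perm_piece_7_0
theorem perm_g7_upto1 : TraceFix ptabs.perm tabs.word 22 1 88888 :=
  traceFix_extendF _ _ letSel perm_eq 22 1 44444 44444 88888 rfl perm_g7_upto0 perm_piece_7_1
theorem perm_g7_upto2 : TraceFix ptabs.perm tabs.word 22 1 122760 :=
  traceFix_extendF _ _ letSel perm_eq 22 1 88888 33872 122760 rfl perm_g7_upto1 perm_piece_7_2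
theorem perm_g7 : ∀ r, 22 ≤ r → r < 22 + 1 → relOk ptabs (tabs.word r) 0 ptabs.n = true :=
  relOk_of_traceFix ptabs tabs.word 22 1 perm_g7_upto2
theorem perm_g8_upto0 : TraceFix ptabs.perm tabs.word 23 1 14814 :=
  traceFix_extendF _ _ letSel perm_eq 23 1 0 14814 14814 rfl (traceFix_zero _ _ 23 1) perm_piece_8_0
theorem perm_g8_upto1 : TraceFix ptabs.perm tabs.word 23 1 29628 :=
  traceFix_extendF _ _ letSel perm_eq 23 1 14814 14814 29628 rfl perm_g8_upto0 perm_piece_8_1
theorem perm_g8_upto2 : TraceFix ptabs.perm tabs.word 23 1 44442 :=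
  traceFix_extendF _ _ letSel perm_eq 23 1 29628 14814 44442 rfl perm_g8_upto1 perm_piece_8_2
theorem perm_g8_upto3 : TraceFix ptabs.perm tabs.word 23 1 59256 :=
  traceFix_extendF _ _ letSel perm_eq 23 1 44442 14814 59256 rfl perm_g8_upto2 perm_piece_8_3
theorem perm_g8_upto4 : TraceFix ptabs.perm tabs.word 23 1 74070 :=
  traceFix_extendF _ _ letSel perm_eq 23 1 59256 14814 74070 rfl perm_g8_upto3 perm_piece_8_4
theorem perm_g8_upto5 : TraceFix ptabs.perm tabs.word 23 1 88884 :=
  traceFix_extendF _ _ letSel perm_eq 23 1 74070 14814 88884 rfl perm_g8_upto4 perm_piece_8_5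
theorem perm_g8_upto6 : TraceFix ptabs.perm tabs.word 23 1 103698 :=
  traceFix_extendF _ _ letSel perm_eq 23 1 88884 14814 103698 rfl perm_g8_upto5 perm_piece_8_6
theorem perm_g8_upto7 : TraceFix ptabs.perm tabs.word 23 1 118512 :=
  traceFix_extendF _ _ letSel perm_eq 23 1 103698 14814 118512 rfl perm_g8_upto6 perm_piece_8_7
theorem perm_g8_upto8 : TraceFix ptabs.perm tabs.word 23 1 122760 :=
  traceFix_extendF _ _ letSel perm_eq 23 1 118512 4248 122760 rfl perm_g8_upto7 perm_piece_8_8
theorem perm_g8 : ∀ r, 23 ≤ r → r < 23 + 1 → relOk ptabs (tabs.word r) 0 ptabs.n = true :=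
  relOk_of_traceFix ptabs tabs.word 23 1 perm_g8_upto8
theorem perm_g9_upto0 : TraceFix ptabs.perm tabs.word 24 1 22222 :=
  traceFix_extendF _ _ letSel perm_eq 24 1 0 22222 22222 rfl (traceFix_zero _ _ 24 1) perm_piece_9_0
theorem perm_g9_upto1 : TraceFix ptabs.perm tabs.word 24 1 44444 :=
  traceFix_extendF _ _ letSel perm_eq 24 1 22222 22222 44444 rfl perm_g9_upto0 perm_piece_9_1
theorem perm_g9_upto2 : TraceFix ptabs.perm tabs.word 24 1 66666 :=
  traceFix_extendF _ _ letSel perm_eq 24 1 44444 22222 66666 rfl perm_g9_upto1 perm_piece_9_2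
theorem perm_g9_upto3 : TraceFix ptabs.perm tabs.word 24 1 88888 :=
  traceFix_extendF _ _ letSel perm_eq 24 1 66666 22222 88888 rfl perm_g9_upto2 perm_piece_9_3
theorem perm_g9_upto4 : TraceFix ptabs.perm tabs.word 24 1 111110 :=
  traceFix_extendF _ _ letSel perm_eq 24 1 88888 22222 111110 rfl perm_g9_upto3 perm_piece_9_4
theorem perm_g9_upto5 : TraceFix ptabs.perm tabs.word 24 1 122760 :=
  traceFix_extendF _ _ letSel perm_eq 24 1 111110 11650 122760 rfl perm_g9_upto4 perm_piece_9_5
theorem perm_g9 : ∀ r, 24 ≤ r → r < 24 + 1 → relOk ptabs (tabs.word r) 0 ptabs.n = true :=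
  relOk_of_traceFix ptabs tabs.word 24 1 perm_g9_upto5
theorem perm_g10_upto0 : TraceFix ptabs.perm tabs.word 25 1 22222 :=
  traceFix_extendF _ _ letSel perm_eq 25 1 0 22222 22222 rfl (traceFix_zero _ _ 25 1) perm_piece_10_0
theorem perm_g10_upto1 : TraceFix ptabs.perm tabs.word 25 1 44444 :=
  traceFix_extendF _ _ letSel perm_eq 25 1 22222 22222 44444 rfl perm_g10_upto0 perm_piece_10_1
theorem perm_g10_upto2 : TraceFix ptabs.perm tabs.word 25 1 66666 :=
  traceFix_extendF _ _ letSel perm_eq 25 1 44444 22222 66666 rfl perm_g10_upto1 perm_piece_10_2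
theorem perm_g10_upto3 : TraceFix ptabs.perm tabs.word 25 1 88888 :=
  traceFix_extendF _ _ letSel perm_eq 25 1 66666 22222 88888 rfl perm_g10_upto2 perm_piece_10_3
theorem perm_g10_upto4 : TraceFix ptabs.perm tabs.word 25 1 111110 :=
  traceFix_extendF _ _ letSel perm_eq 25 1 88888 22222 111110 rfl perm_g10_upto3 perm_piece_10_4
theorem perm_g10_upto5 : TraceFix ptabs.perm tabs.word 25 1 122760 :=
  traceFix_extendF _ _ letSel perm_eq 25 1 111110 11650 122760 rfl perm_g10_upto4 perm_piece_10_5
theorem perm_g10 : ∀ r, 25 ≤ r → r < 25 + 1 → relOk ptabs (tabs.word r) 0 ptabs.n = true :=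
  relOk_of_traceFix ptabs tabs.word 25 1 perm_g10_upto5
theorem perm_g11_upto0 : TraceFix ptabs.perm tabs.word 26 1 22222 :=
  traceFix_extendF _ _ letSel perm_eq 26 1 0 22222 22222 rfl (traceFix_zero _ _ 26 1) perm_piece_11_0
theorem perm_g11_upto1 : TraceFix ptabs.perm tabs.word 26 1 44444 :=
  traceFix_extendF _ _ letSel perm_eq 26 1 22222 22222 44444 rfl perm_g11_upto0 perm_piece_11_1
theorem perm_g11_upto2 : TraceFix ptabs.perm tabs.word 26 1 66666 :=
  traceFix_extendF _ _ letSel perm_eq 26 1 44444 22222 66666 rfl perm_g11_upto1 perm_piece_11_2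
theorem perm_g11_upto3 : TraceFix ptabs.perm tabs.word 26 1 88888 :=
  traceFix_extendF _ _ letSel perm_eq 26 1 66666 22222 88888 rfl perm_g11_upto2 perm_piece_11_3
theorem perm_g11_upto4 : TraceFix ptabs.perm tabs.word 26 1 111110 :=
  traceFix_extendF _ _ letSel perm_eq 26 1 88888 22222 111110 rfl perm_g11_upto3 perm_piece_11_4
theorem perm_g11_upto5 : TraceFix ptabs.perm tabs.word 26 1 122760 :=
  traceFix_extendF _ _ letSel perm_eq 26 1 111110 11650 122760 rfl perm_g11_upto4 perm_piece_11_5
theorem perm_g11 : ∀ r, 26 ≤ r → r < 26 + 1 → relOk ptabs (tabs.word r) 0 ptabs.n = true :=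
  relOk_of_traceFix ptabs tabs.word 26 1 perm_g11_upto5
theorem perm_g12_upto0 : TraceFix ptabs.perm tabs.word 27 2 22222 :=
  traceFix_extendF _ _ letSel perm_eq 27 2 0 22222 22222 rfl (traceFix_zero _ _ 27 2) perm_piece_12_0
theorem perm_g12_upto1 : TraceFix ptabs.perm tabs.word 27 2 44444 :=
  traceFix_extendF _ _ letSel perm_eq 27 2 22222 22222 44444 rfl perm_g12_upto0 perm_piece_12_1
theorem perm_g12_upto2 : TraceFix ptabs.perm tabs.word 27 2 66666 :=
  traceFix_extendF _ _ letSel perm_eq 27 2 44444 22222 66666 rfl perm_g12_upto1 perm_piece_12_2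
theorem perm_g12_upto3 : TraceFix ptabs.perm tabs.word 27 2 88888 :=
  traceFix_extendF _ _ letSel perm_eq 27 2 66666 22222 88888 rfl perm_g12_upto2 perm_piece_12_3
theorem perm_g12_upto4 : TraceFix ptabs.perm tabs.word 27 2 111110 :=
  traceFix_extendF _ _ letSel perm_eq 27 2 88888 22222 111110 rfl perm_g12_upto3 perm_piece_12_4
theorem perm_g12_upto5 : TraceFix ptabs.perm tabs.word 27 2 122760 :=
  traceFix_extendF _ _ letSel perm_eq 27 2 111110 11650 122760 rfl perm_g12_upto4 perm_piece_12_5
theorem perm_g12 : ∀ r, 27 ≤ r → r < 27 + 2 → relOk ptabs (tabs.word r) 0 ptabs.n = true :=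
  relOk_of_traceFix ptabs tabs.word 27 2 perm_g12_upto5
theorem perm_g13_upto0 : TraceFix ptabs.perm tabs.word 29 1 14814 :=
  traceFix_extendF _ _ letSel perm_eq 29 1 0 14814 14814 rfl (traceFix_zero _ _ 29 1) perm_piece_13_0
theorem perm_g13_upto1 : TraceFix ptabs.perm tabs.word 29 1 29628 :=
  traceFix_extendF _ _ letSel perm_eq 29 1 14814 14814 29628 rfl perm_g13_upto0 perm_piece_13_1
theorem perm_g13_upto2 : TraceFix ptabs.perm tabs.word 29 1 44442 :=
  traceFix_extendF _ _ letSel perm_eq 29 1 29628 14814 44442 rfl perm_g13_upto1 perm_piece_13_2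
theorem perm_g13_upto3 : TraceFix ptabs.perm tabs.word 29 1 59256 :=
  traceFix_extendF _ _ letSel perm_eq 29 1 44442 14814 59256 rfl perm_g13_upto2 perm_piece_13_3
theorem perm_g13_upto4 : TraceFix ptabs.perm tabs.word 29 1 74070 :=
  traceFix_extendF _ _ letSel perm_eq 29 1 59256 14814 74070 rfl perm_g13_upto3 perm_piece_13_4
theorem perm_g13_upto5 : TraceFix ptabs.perm tabs.word 29 1 88884 :=
  traceFix_extendF _ _ letSel perm_eq 29 1 74070 14814 88884 rfl perm_g13_upto4 perm_piece_13_5
theorem perm_g13_upto6 : TraceFix ptabs.perm tabs.word 29 1 103698 :=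
  traceFix_extendF _ _ letSel perm_eq 29 1 88884 14814 103698 rfl perm_g13_upto5 perm_piece_13_6
theorem perm_g13_upto7 : TraceFix ptabs.perm tabs.word 29 1 118512 :=
  traceFix_extendF _ _ letSel perm_eq 29 1 103698 14814 118512 rfl perm_g13_upto6 perm_piece_13_7
theorem perm_g13_upto8 : TraceFix ptabs.perm tabs.word 29 1 122760 :=
  traceFix_extendF _ _ letSel perm_eq 29 1 118512 4248 122760 rfl perm_g13_upto7 perm_piece_13_8
theorem perm_g13 : ∀ r, 29 ≤ r → r < 29 + 1 → relOk ptabs (tabs.word r) 0 ptabs.n = true :=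
  relOk_of_traceFix ptabs tabs.word 29 1 perm_g13_upto8
theorem perm_g14_upto0 : TraceFix ptabs.perm tabs.word 30 1 44444 :=
  traceFix_extendF _ _ letSel perm_eq 30 1 0 44444 44444 rfl (traceFix_zero _ _ 30 1) perm_piece_14_0
theorem perm_g14_upto1 : TraceFix ptabs.perm tabs.word 30 1 88888 :=
  traceFix_extendF _ _ letSel perm_eq 30 1 44444 44444 88888 rfl perm_g14_upto0 perm_piece_14_1
theorem perm_g14_upto2 : TraceFix ptabs.perm tabs.word 30 1 122760 :=
  traceFix_extendF _ _ letSel perm_eq 30 1 88888 33872 122760 rfl perm_g14_upto1 perm_piece_14_2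
theorem perm_g14 : ∀ r, 30 ≤ r → r < 30 + 1 → relOk ptabs (tabs.word r) 0 ptabs.n = true :=
  relOk_of_traceFix ptabs tabs.word 30 1 perm_g14_upto2
theorem perm_g15_upto0 : TraceFix ptabs.perm tabs.word 31 1 5555 :=
  traceFix_extendF _ _ letSel perm_eq 31 1 0 5555 5555 rfl (traceFix_zero _ _ 31 1) perm_piece_15_0
theorem perm_g15_upto1 : TraceFix ptabs.perm tabs.word 31 1 11110 :=
  traceFix_extendF _ _ letSel perm_eq 31 1 5555 5555 11110 rfl perm_g15_upto0 perm_piece_15_1
theorem perm_g15_upto2 : TraceFix ptabs.perm tabs.word 31 1 16665 :=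
  traceFix_extendF _ _ letSel perm_eq 31 1 11110 5555 16665 rfl perm_g15_upto1 perm_piece_15_2
theorem perm_g15_upto3 : TraceFix ptabs.perm tabs.word 31 1 22220 :=
  traceFix_extendF _ _ letSel perm_eq 31 1 16665 5555 22220 rfl perm_g15_upto2 perm_piece_15_3
theorem perm_g15_upto4 : TraceFix ptabs.perm tabs.word 31 1 27775 :=
  traceFix_extendF _ _ letSel perm_eq 31 1 22220 5555 27775 rfl perm_g15_upto3 perm_piece_15_4
theorem perm_g15_upto5 : TraceFix ptabs.perm tabs.word 31 1 33330 :=
  traceFix_extendF _ _ letSel perm_eq 31 1 27775 5555 33330 rfl perm_g15_upto4 perm_piece_15_5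
theorem perm_g15_upto6 : TraceFix ptabs.perm tabs.word 31 1 38885 :=
  traceFix_extendF _ _ letSel perm_eq 31 1 33330 5555 38885 rfl perm_g15_upto5 perm_piece_15_6
theorem perm_g15_upto7 : TraceFix ptabs.perm tabs.word 31 1 44440 :=
  traceFix_extendF _ _ letSel perm_eq 31 1 38885 5555 44440 rfl perm_g15_upto6 perm_piece_15_7
theorem perm_g15_upto8 : TraceFix ptabs.perm tabs.word 31 1 49995 :=
  traceFix_extendF _ _ letSel perm_eq 31 1 44440 5555 49995 rfl perm_g15_upto7 perm_piece_15_8
theorem perm_g15_upto9 : TraceFix ptabs.perm tabs.word 31 1 55550 :=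
  traceFix_extendF _ _ letSel perm_eq 31 1 49995 5555 55550 rfl perm_g15_upto8 perm_piece_15_9
theorem perm_g15_upto10 : TraceFix ptabs.perm tabs.word 31 1 61105 :=
  traceFix_extendF _ _ letSel perm_eq 31 1 55550 5555 61105 rfl perm_g15_upto9 perm_piece_15_10
theorem perm_g15_upto11 : TraceFix ptabs.perm tabs.word 31 1 66660 :=
  traceFix_extendF _ _ letSel perm_eq 31 1 61105 5555 66660 rfl perm_g15_upto10 perm_piece_15_11
theorem perm_g15_upto12 : TraceFix ptabs.perm tabs.word 31 1 72215 :=
  traceFix_extendF _ _ letSel perm_eq 31 1 66660 5555 72215 rfl perm_g15_upto11 perm_piece_15_12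
theorem perm_g15_upto13 : TraceFix ptabs.perm tabs.word 31 1 77770 :=
  traceFix_extendF _ _ letSel perm_eq 31 1 72215 5555 77770 rfl perm_g15_upto12 perm_piece_15_13
theorem perm_g15_upto14 : TraceFix ptabs.perm tabs.word 31 1 83325 :=
  traceFix_extendF _ _ letSel perm_eq 31 1 77770 5555 83325 rfl perm_g15_upto13 perm_piece_15_14
theorem perm_g15_upto15 : TraceFix ptabs.perm tabs.word 31 1 88880 :=
  traceFix_extendF _ _ letSel perm_eq 31 1 83325 5555 88880 rfl perm_g15_upto14 perm_piece_15_15
theorem perm_g15_upto16 : TraceFix ptabs.perm tabs.word 31 1 94435 :=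
  traceFix_extendF _ _ letSel perm_eq 31 1 88880 5555 94435 rfl perm_g15_upto15 perm_piece_15_16
theorem perm_g15_upto17 : TraceFix ptabs.perm tabs.word 31 1 99990 :=
  traceFix_extendF _ _ letSel perm_eq 31 1 94435 5555 99990 rfl perm_g15_upto16 perm_piece_15_17
theorem perm_g15_upto18 : TraceFix ptabs.perm tabs.word 31 1 105545 :=
  traceFix_extendF _ _ letSel perm_eq 31 1 99990 5555 105545 rfl perm_g15_upto17 perm_piece_15_18
theorem perm_g15_upto19 : TraceFix ptabs.perm tabs.word 31 1 111100 :=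
  traceFix_extendF _ _ letSel perm_eq 31 1 105545 5555 111100 rfl perm_g15_upto18 perm_piece_15_19
theorem perm_g15_upto20 : TraceFix ptabs.perm tabs.word 31 1 116655 :=
  traceFix_extendF _ _ letSel perm_eq 31 1 111100 5555 116655 rfl perm_g15_upto19 perm_piece_15_20
theorem perm_g15_upto21 : TraceFix ptabs.perm tabs.word 31 1 122210 :=
  traceFix_extendF _ _ letSel perm_eq 31 1 116655 5555 122210 rfl perm_g15_upto20 perm_piece_15_21
theorem perm_g15_upto22 : TraceFix ptabs.perm tabs.word 31 1 122760 :=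
  traceFix_extendF _ _ letSel perm_eq 31 1 122210 550 122760 rfl perm_g15_upto21 perm_piece_15_22
theorem perm_g15 : ∀ r, 31 ≤ r → r < 31 + 1 → relOk ptabs (tabs.word r) 0 ptabs.n = true :=
  relOk_of_traceFix ptabs tabs.word 31 1 perm_g15_upto22
theorem perm_g16_upto0 : TraceFix ptabs.perm tabs.word 32 1 22222 :=
  traceFix_extendF _ _ letSel perm_eq 32 1 0 22222 22222 rfl (traceFix_zero _ _ 32 1) perm_piece_16_0
theorem perm_g16_upto1 : TraceFix ptabs.perm tabs.word 32 1 44444 :=
  traceFix_extendF _ _ letSel perm_eq 32 1 22222 22222 44444 rfl perm_g16_upto0 perm_piece_16_1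
theorem perm_g16_upto2 : TraceFix ptabs.perm tabs.word 32 1 66666 :=
  traceFix_extendF _ _ letSel perm_eq 32 1 44444 22222 66666 rfl perm_g16_upto1 perm_piece_16_2
theorem perm_g16_upto3 : TraceFix ptabs.perm tabs.word 32 1 88888 :=
  traceFix_extendF _ _ letSel perm_eq 32 1 66666 22222 88888 rfl perm_g16_upto2 perm_piece_16_3
theorem perm_g16_upto4 : TraceFix ptabs.perm tabs.word 32 1 111110 :=
  traceFix_extendF _ _ letSel perm_eq 32 1 88888 22222 111110 rfl perm_g16_upto3 perm_piece_16_4
theorem perm_g16_upto5 : TraceFix ptabs.perm tabs.word 32 1 122760 :=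
  traceFix_extendF _ _ letSel perm_eq 32 1 111110 11650 122760 rfl perm_g16_upto4 perm_piece_16_5
theorem perm_g16 : ∀ r, 32 ≤ r → r < 32 + 1 → relOk ptabs (tabs.word r) 0 ptabs.n = true :=
  relOk_of_traceFix ptabs tabs.word 32 1 perm_g16_upto5
theorem perm_g17_upto0 : TraceFix ptabs.perm tabs.word 33 1 22222 :=
  traceFix_extendF _ _ letSel perm_eq 33 1 0 22222 22222 rfl (traceFix_zero _ _ 33 1) perm_piece_17_0
theorem perm_g17_upto1 : TraceFix ptabs.perm tabs.word 33 1 44444 :=
  traceFix_extendF _ _ letSel perm_eq 33 1 22222 22222 44444 rfl perm_g17_upto0 perm_piece_17_1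
theorem perm_g17_upto2 : TraceFix ptabs.perm tabs.word 33 1 66666 :=
  traceFix_extendF _ _ letSel perm_eq 33 1 44444 22222 66666 rfl perm_g17_upto1 perm_piece_17_2
theorem perm_g17_upto3 : TraceFix ptabs.perm tabs.word 33 1 88888 :=
  traceFix_extendF _ _ letSel perm_eq 33 1 66666 22222 88888 rfl perm_g17_upto2 perm_piece_17_3
theorem perm_g17_upto4 : TraceFix ptabs.perm tabs.word 33 1 111110 :=
  traceFix_extendF _ _ letSel perm_eq 33 1 88888 22222 111110 rfl perm_g17_upto3 perm_piece_17_4
theorem perm_g17_upto5 : TraceFix ptabs.perm tabs.word 33 1 122760 :=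
  traceFix_extendF _ _ letSel perm_eq 33 1 111110 11650 122760 rfl perm_g17_upto4 perm_piece_17_5
theorem perm_g17 : ∀ r, 33 ≤ r → r < 33 + 1 → relOk ptabs (tabs.word r) 0 ptabs.n = true :=
  relOk_of_traceFix ptabs tabs.word 33 1 perm_g17_upto5
theorem perm_g18_upto0 : TraceFix ptabs.perm tabs.word 34 2 22222 :=
  traceFix_extendF _ _ letSel perm_eq 34 2 0 22222 22222 rfl (traceFix_zero _ _ 34 2) perm_piece_18_0
theorem perm_g18_upto1 : TraceFix ptabs.perm tabs.word 34 2 44444 :=
  traceFix_extendF _ _ letSel perm_eq 34 2 22222 22222 44444 rfl perm_g18_upto0 perm_piece_18_1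
theorem perm_g18_upto2 : TraceFix ptabs.perm tabs.word 34 2 66666 :=
  traceFix_extendF _ _ letSel perm_eq 34 2 44444 22222 66666 rfl perm_g18_upto1 perm_piece_18_2
theorem perm_g18_upto3 : TraceFix ptabs.perm tabs.word 34 2 88888 :=
  traceFix_extendF _ _ letSel perm_eq 34 2 66666 22222 88888 rfl perm_g18_upto2 perm_piece_18_3
theorem perm_g18_upto4 : TraceFix ptabs.perm tabs.word 34 2 111110 :=
  traceFix_extendF _ _ letSel perm_eq 34 2 88888 22222 111110 rfl perm_g18_upto3 perm_piece_18_4
theorem perm_g18_upto5 : TraceFix ptabs.perm tabs.word 34 2 122760 :=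
  traceFix_extendF _ _ letSel perm_eq 34 2 111110 11650 122760 rfl perm_g18_upto4 perm_piece_18_5
theorem perm_g18 : ∀ r, 34 ≤ r → r < 34 + 2 → relOk ptabs (tabs.word r) 0 ptabs.n = true :=
  relOk_of_traceFix ptabs tabs.word 34 2 perm_g18_upto5
theorem perm_g19_upto0 : TraceFix ptabs.perm tabs.word 36 1 22222 :=
  traceFix_extendF _ _ letSel perm_eq 36 1 0 22222 22222 rfl (traceFix_zero _ _ 36 1) perm_piece_19_0
theorem perm_g19_upto1 : TraceFix ptabs.perm tabs.word 36 1 44444 :=
  traceFix_extendF _ _ letSel perm_eq 36 1 22222 22222 44444 rfl perm_g19_upto0 perm_piece_19_1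
theorem perm_g19_upto2 : TraceFix ptabs.perm tabs.word 36 1 66666 :=
  traceFix_extendF _ _ letSel perm_eq 36 1 44444 22222 66666 rfl perm_g19_upto1 perm_piece_19_2
theorem perm_g19_upto3 : TraceFix ptabs.perm tabs.word 36 1 88888 :=
  traceFix_extendF _ _ letSel perm_eq 36 1 66666 22222 88888 rfl perm_g19_upto2 perm_piece_19_3
theorem perm_g19_upto4 : TraceFix ptabs.perm tabs.word 36 1 111110 :=
  traceFix_extendF _ _ letSel perm_eq 36 1 88888 22222 111110 rfl perm_g19_upto3 perm_piece_19_4
theorem perm_g19_upto5 : TraceFix ptabs.perm tabs.word 36 1 122760 :=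
  traceFix_extendF _ _ letSel perm_eq 36 1 111110 11650 122760 rfl perm_g19_upto4 perm_piece_19_5
theorem perm_g19 : ∀ r, 36 ≤ r → r < 36 + 1 → relOk ptabs (tabs.word r) 0 ptabs.n = true :=
  relOk_of_traceFix ptabs tabs.word 36 1 perm_g19_upto5
theorem perm_g20_upto0 : TraceFix ptabs.perm tabs.word 37 1 5555 :=
  traceFix_extendF _ _ letSel perm_eq 37 1 0 5555 5555 rfl (traceFix_zero _ _ 37 1) perm_piece_20_0
theorem perm_g20_upto1 : TraceFix ptabs.perm tabs.word 37 1 11110 :=
  traceFix_extendF _ _ letSel perm_eq 37 1 5555 5555 11110 rfl perm_g20_upto0 perm_piece_20_1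
theorem perm_g20_upto2 : TraceFix ptabs.perm tabs.word 37 1 16665 :=
  traceFix_extendF _ _ letSel perm_eq 37 1 11110 5555 16665 rfl perm_g20_upto1 perm_piece_20_2
theorem perm_g20_upto3 : TraceFix ptabs.perm tabs.word 37 1 22220 :=
  traceFix_extendF _ _ letSel perm_eq 37 1 16665 5555 22220 rfl perm_g20_upto2 perm_piece_20_3
theorem perm_g20_upto4 : TraceFix ptabs.perm tabs.word 37 1 27775 :=
  traceFix_extendF _ _ letSel perm_eq 37 1 22220 5555 27775 rfl perm_g20_upto3 perm_piece_20_4
theorem perm_g20_upto5 : TraceFix ptabs.perm tabs.word 37 1 33330 :=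
  traceFix_extendF _ _ letSel perm_eq 37 1 27775 5555 33330 rfl perm_g20_upto4 perm_piece_20_5
theorem perm_g20_upto6 : TraceFix ptabs.perm tabs.word 37 1 38885 :=
  traceFix_extendF _ _ letSel perm_eq 37 1 33330 5555 38885 rfl perm_g20_upto5 perm_piece_20_6
theorem perm_g20_upto7 : TraceFix ptabs.perm tabs.word 37 1 44440 :=
  traceFix_extendF _ _ letSel perm_eq 37 1 38885 5555 44440 rfl perm_g20_upto6 perm_piece_20_7
theorem perm_g20_upto8 : TraceFix ptabs.perm tabs.word 37 1 49995 :=
  traceFix_extendF _ _ letSel perm_eq 37 1 44440 5555 49995 rfl perm_g20_upto7 perm_piece_20_8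
theorem perm_g20_upto9 : TraceFix ptabs.perm tabs.word 37 1 55550 :=
  traceFix_extendF _ _ letSel perm_eq 37 1 49995 5555 55550 rfl perm_g20_upto8 perm_piece_20_9
theorem perm_g20_upto10 : TraceFix ptabs.perm tabs.word 37 1 61105 :=
  traceFix_extendF _ _ letSel perm_eq 37 1 55550 5555 61105 rfl perm_g20_upto9 perm_piece_20_10
theorem perm_g20_upto11 : TraceFix ptabs.perm tabs.word 37 1 66660 :=
  traceFix_extendF _ _ letSel perm_eq 37 1 61105 5555 66660 rfl perm_g20_upto10 perm_piece_20_11
theorem perm_g20_upto12 : TraceFix ptabs.perm tabs.word 37 1 72215 :=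
  traceFix_extendF _ _ letSel perm_eq 37 1 66660 5555 72215 rfl perm_g20_upto11 perm_piece_20_12
theorem perm_g20_upto13 : TraceFix ptabs.perm tabs.word 37 1 77770 :=
  traceFix_extendF _ _ letSel perm_eq 37 1 72215 5555 77770 rfl perm_g20_upto12 perm_piece_20_13
theorem perm_g20_upto14 : TraceFix ptabs.perm tabs.word 37 1 83325 :=
  traceFix_extendF _ _ letSel perm_eq 37 1 77770 5555 83325 rfl perm_g20_upto13 perm_piece_20_14
theorem perm_g20_upto15 : TraceFix ptabs.perm tabs.word 37 1 88880 :=
  traceFix_extendF _ _ letSel perm_eq 37 1 83325 5555 88880 rfl perm_g20_upto14 perm_piece_20_15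
theorem perm_g20_upto16 : TraceFix ptabs.perm tabs.word 37 1 94435 :=
  traceFix_extendF _ _ letSel perm_eq 37 1 88880 5555 94435 rfl perm_g20_upto15 perm_piece_20_16
theorem perm_g20_upto17 : TraceFix ptabs.perm tabs.word 37 1 99990 :=
  traceFix_extendF _ _ letSel perm_eq 37 1 94435 5555 99990 rfl perm_g20_upto16 perm_piece_20_17
theorem perm_g20_upto18 : TraceFix ptabs.perm tabs.word 37 1 105545 :=
  traceFix_extendF _ _ letSel perm_eq 37 1 99990 5555 105545 rfl perm_g20_upto17 perm_piece_20_18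
theorem perm_g20_upto19 : TraceFix ptabs.perm tabs.word 37 1 111100 :=
  traceFix_extendF _ _ letSel perm_eq 37 1 105545 5555 111100 rfl perm_g20_upto18 perm_piece_20_19
theorem perm_g20_upto20 : TraceFix ptabs.perm tabs.word 37 1 116655 :=
  traceFix_extendF _ _ letSel perm_eq 37 1 111100 5555 116655 rfl perm_g20_upto19 perm_piece_20_20
theorem perm_g20_upto21 : TraceFix ptabs.perm tabs.word 37 1 122210 :=
  traceFix_extendF _ _ letSel perm_eq 37 1 116655 5555 122210 rfl perm_g20_upto20 perm_piece_20_21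
theorem perm_g20_upto22 : TraceFix ptabs.perm tabs.word 37 1 122760 :=
  traceFix_extendF _ _ letSel perm_eq 37 1 122210 550 122760 rfl perm_g20_upto21 perm_piece_20_22
theorem perm_g20 : ∀ r, 37 ≤ r → r < 37 + 1 → relOk ptabs (tabs.word r) 0 ptabs.n = true :=
  relOk_of_traceFix ptabs tabs.word 37 1 perm_g20_upto22
theorem perm_g21_upto0 : TraceFix ptabs.perm tabs.word 38 1 44444 :=
  traceFix_extendF _ _ letSel perm_eq 38 1 0 44444 44444 rfl (traceFix_zero _ _ 38 1) perm_piece_21_0
theorem perm_g21_upto1 : TraceFix ptabs.perm tabs.word 38 1 88888 :=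
  traceFix_extendF _ _ letSel perm_eq 38 1 44444 44444 88888 rfl perm_g21_upto0 perm_piece_21_1
theorem perm_g21_upto2 : TraceFix ptabs.perm tabs.word 38 1 122760 :=
  traceFix_extendF _ _ letSel perm_eq 38 1 88888 33872 122760 rfl perm_g21_upto1 perm_piece_21_2
theorem perm_g21 : ∀ r, 38 ≤ r → r < 38 + 1 → relOk ptabs (tabs.word r) 0 ptabs.n = true :=
  relOk_of_traceFix ptabs tabs.word 38 1 perm_g21_upto2
theorem perm_g22_upto0 : TraceFix ptabs.perm tabs.word 39 1 14814 :=
  traceFix_extendF _ _ letSel perm_eq 39 1 0 14814 14814 rfl (traceFix_zero _ _ 39 1) perm_piece_22_0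
theorem perm_g22_upto1 : TraceFix ptabs.perm tabs.word 39 1 29628 :=
  traceFix_extendF _ _ letSel perm_eq 39 1 14814 14814 29628 rfl perm_g22_upto0 perm_piece_22_1
theorem perm_g22_upto2 : TraceFix ptabs.perm tabs.word 39 1 44442 :=
  traceFix_extendF _ _ letSel perm_eq 39 1 29628 14814 44442 rfl perm_g22_upto1 perm_piece_22_2
theorem perm_g22_upto3 : TraceFix ptabs.perm tabs.word 39 1 59256 :=
  traceFix_extendF _ _ letSel perm_eq 39 1 44442 14814 59256 rfl perm_g22_upto2 perm_piece_22_3
theorem perm_g22_upto4 : TraceFix ptabs.perm tabs.word 39 1 74070 :=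
  traceFix_extendF _ _ letSel perm_eq 39 1 59256 14814 74070 rfl perm_g22_upto3 perm_piece_22_4
theorem perm_g22_upto5 : TraceFix ptabs.perm tabs.word 39 1 88884 :=
  traceFix_extendF _ _ letSel perm_eq 39 1 74070 14814 88884 rfl perm_g22_upto4 perm_piece_22_5
theorem perm_g22_upto6 : TraceFix ptabs.perm tabs.word 39 1 103698 :=
  traceFix_extendF _ _ letSel perm_eq 39 1 88884 14814 103698 rfl perm_g22_upto5 perm_piece_22_6
theorem perm_g22_upto7 : TraceFix ptabs.perm tabs.word 39 1 118512 :=
  traceFix_extendF _ _ letSel perm_eq 39 1 103698 14814 118512 rfl perm_g22_upto6 perm_piece_22_7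
theorem perm_g22_upto8 : TraceFix ptabs.perm tabs.word 39 1 122760 :=
  traceFix_extendF _ _ letSel perm_eq 39 1 118512 4248 122760 rfl perm_g22_upto7 perm_piece_22_8
theorem perm_g22 : ∀ r, 39 ≤ r → r < 39 + 1 → relOk ptabs (tabs.word r) 0 ptabs.n = true :=
  relOk_of_traceFix ptabs tabs.word 39 1 perm_g22_upto8
theorem perm_g23_upto0 : TraceFix ptabs.perm tabs.word 40 1 22222 :=
  traceFix_extendF _ _ letSel perm_eq 40 1 0 22222 22222 rfl (traceFix_zero _ _ 40 1) perm_piece_23_0
theorem perm_g23_upto1 : TraceFix ptabs.perm tabs.word 40 1 44444 :=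
  traceFix_extendF _ _ letSel perm_eq 40 1 22222 22222 44444 rfl perm_g23_upto0 perm_piece_23_1
theorem perm_g23_upto2 : TraceFix ptabs.perm tabs.word 40 1 66666 :=
  traceFix_extendF _ _ letSel perm_eq 40 1 44444 22222 66666 rfl perm_g23_upto1 perm_piece_23_2
theorem perm_g23_upto3 : TraceFix ptabs.perm tabs.word 40 1 88888 :=
  traceFix_extendF _ _ letSel perm_eq 40 1 66666 22222 88888 rfl perm_g23_upto2 perm_piece_23_3
theorem perm_g23_upto4 : TraceFix ptabs.perm tabs.word 40 1 111110 :=
  traceFix_extendF _ _ letSel perm_eq 40 1 88888 22222 111110 rfl perm_g23_upto3 perm_piece_23_4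
theorem perm_g23_upto5 : TraceFix ptabs.perm tabs.word 40 1 122760 :=
  traceFix_extendF _ _ letSel perm_eq 40 1 111110 11650 122760 rfl perm_g23_upto4 perm_piece_23_5
theorem perm_g23 : ∀ r, 40 ≤ r → r < 40 + 1 → relOk ptabs (tabs.word r) 0 ptabs.n = true :=
  relOk_of_traceFix ptabs tabs.word 40 1 perm_g23_upto5
theorem perm_g24_upto0 : TraceFix ptabs.perm tabs.word 41 2 22222 :=
  traceFix_extendF _ _ letSel perm_eq 41 2 0 22222 22222 rfl (traceFix_zero _ _ 41 2) perm_piece_24_0
theorem perm_g24_upto1 : TraceFix ptabs.perm tabs.word 41 2 44444 :=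
  traceFix_extendF _ _ letSel perm_eq 41 2 22222 22222 44444 rfl perm_g24_upto0 perm_piece_24_1
theorem perm_g24_upto2 : TraceFix ptabs.perm tabs.word 41 2 66666 :=
  traceFix_extendF _ _ letSel perm_eq 41 2 44444 22222 66666 rfl perm_g24_upto1 perm_piece_24_2
theorem perm_g24_upto3 : TraceFix ptabs.perm tabs.word 41 2 88888 :=
  traceFix_extendF _ _ letSel perm_eq 41 2 66666 22222 88888 rfl perm_g24_upto2 perm_piece_24_3
theorem perm_g24_upto4 : TraceFix ptabs.perm tabs.word 41 2 111110 :=
  traceFix_extendF _ _ letSel perm_eq 41 2 88888 22222 111110 rfl perm_g24_upto3 perm_piece_24_4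
theorem perm_g24_upto5 : TraceFix ptabs.perm tabs.word 41 2 122760 :=
  traceFix_extendF _ _ letSel perm_eq 41 2 111110 11650 122760 rfl perm_g24_upto4 perm_piece_24_5
theorem perm_g24 : ∀ r, 41 ≤ r → r < 41 + 2 → relOk ptabs (tabs.word r) 0 ptabs.n = true :=
  relOk_of_traceFix ptabs tabs.word 41 2 perm_g24_upto5
theorem perm_g25_upto0 : TraceFix ptabs.perm tabs.word 43 1 22222 :=
  traceFix_extendF _ _ letSel perm_eq 43 1 0 22222 22222 rfl (traceFix_zero _ _ 43 1) perm_piece_25_0
theorem perm_g25_upto1 : TraceFix ptabs.perm tabs.word 43 1 44444 :=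
  traceFix_extendF _ _ letSel perm_eq 43 1 22222 22222 44444 rfl perm_g25_upto0 perm_piece_25_1
theorem perm_g25_upto2 : TraceFix ptabs.perm tabs.word 43 1 66666 :=
  traceFix_extendF _ _ letSel perm_eq 43 1 44444 22222 66666 rfl perm_g25_upto1 perm_piece_25_2
theorem perm_g25_upto3 : TraceFix ptabs.perm tabs.word 43 1 88888 :=
  traceFix_extendF _ _ letSel perm_eq 43 1 66666 22222 88888 rfl perm_g25_upto2 perm_piece_25_3
theorem perm_g25_upto4 : TraceFix ptabs.perm tabs.word 43 1 111110 :=
  traceFix_extendF _ _ letSel perm_eq 43 1 88888 22222 111110 rfl perm_g25_upto3 perm_piece_25_4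
theorem perm_g25_upto5 : TraceFix ptabs.perm tabs.word 43 1 122760 :=
  traceFix_extendF _ _ letSel perm_eq 43 1 111110 11650 122760 rfl perm_g25_upto4 perm_piece_25_5
theorem perm_g25 : ∀ r, 43 ≤ r → r < 43 + 1 → relOk ptabs (tabs.word r) 0 ptabs.n = true :=
  relOk_of_traceFix ptabs tabs.word 43 1 perm_g25_upto5
theorem perm_g26_upto0 : TraceFix ptabs.perm tabs.word 44 1 22222 :=
  traceFix_extendF _ _ letSel perm_eq 44 1 0 22222 22222 rfl (traceFix_zero _ _ 44 1) perm_piece_26_0
theorem perm_g26_upto1 : TraceFix ptabs.perm tabs.word 44 1 44444 :=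
  traceFix_extendF _ _ letSel perm_eq 44 1 22222 22222 44444 rfl perm_g26_upto0 perm_piece_26_1
theorem perm_g26_upto2 : TraceFix ptabs.perm tabs.word 44 1 66666 :=
  traceFix_extendF _ _ letSel perm_eq 44 1 44444 22222 66666 rfl perm_g26_upto1 perm_piece_26_2
theorem perm_g26_upto3 : TraceFix ptabs.perm tabs.word 44 1 88888 :=
  traceFix_extendF _ _ letSel perm_eq 44 1 66666 22222 88888 rfl perm_g26_upto2 perm_piece_26_3
theorem perm_g26_upto4 : TraceFix ptabs.perm tabs.word 44 1 111110 :=
  traceFix_extendF _ _ letSel perm_eq 44 1 88888 22222 111110 rfl perm_g26_upto3 perm_piece_26_4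
theorem perm_g26_upto5 : TraceFix ptabs.perm tabs.word 44 1 122760 :=
  traceFix_extendF _ _ letSel perm_eq 44 1 111110 11650 122760 rfl perm_g26_upto4 perm_piece_26_5
theorem perm_g26 : ∀ r, 44 ≤ r → r < 44 + 1 → relOk ptabs (tabs.word r) 0 ptabs.n = true :=
  relOk_of_traceFix ptabs tabs.word 44 1 perm_g26_upto5
theorem perm_g27_upto0 : TraceFix ptabs.perm tabs.word 45 1 14814 :=
  traceFix_extendF _ _ letSel perm_eq 45 1 0 14814 14814 rfl (traceFix_zero _ _ 45 1) perm_piece_27_0
theorem perm_g27_upto1 : TraceFix ptabs.perm tabs.word 45 1 29628 :=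
  traceFix_extendF _ _ letSel perm_eq 45 1 14814 14814 29628 rfl perm_g27_upto0 perm_piece_27_1
theorem perm_g27_upto2 : TraceFix ptabs.perm tabs.word 45 1 44442 :=
  traceFix_extendF _ _ letSel perm_eq 45 1 29628 14814 44442 rfl perm_g27_upto1 perm_piece_27_2
theorem perm_g27_upto3 : TraceFix ptabs.perm tabs.word 45 1 59256 :=
  traceFix_extendF _ _ letSel perm_eq 45 1 44442 14814 59256 rfl perm_g27_upto2 perm_piece_27_3
theorem perm_g27_upto4 : TraceFix ptabs.perm tabs.word 45 1 74070 :=
  traceFix_extendF _ _ letSel perm_eq 45 1 59256 14814 74070 rfl perm_g27_upto3 perm_piece_27_4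
theorem perm_g27_upto5 : TraceFix ptabs.perm tabs.word 45 1 88884 :=
  traceFix_extendF _ _ letSel perm_eq 45 1 74070 14814 88884 rfl perm_g27_upto4 perm_piece_27_5
theorem perm_g27_upto6 : TraceFix ptabs.perm tabs.word 45 1 103698 :=
  traceFix_extendF _ _ letSel perm_eq 45 1 88884 14814 103698 rfl perm_g27_upto5 perm_piece_27_6
theorem perm_g27_upto7 : TraceFix ptabs.perm tabs.word 45 1 118512 :=
  traceFix_extendF _ _ letSel perm_eq 45 1 103698 14814 118512 rfl perm_g27_upto6 perm_piece_27_7
theorem perm_g27_upto8 : TraceFix ptabs.perm tabs.word 45 1 122760 :=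
  traceFix_extendF _ _ letSel perm_eq 45 1 118512 4248 122760 rfl perm_g27_upto7 perm_piece_27_8
theorem perm_g27 : ∀ r, 45 ≤ r → r < 45 + 1 → relOk ptabs (tabs.word r) 0 ptabs.n = true :=
  relOk_of_traceFix ptabs tabs.word 45 1 perm_g27_upto8
theorem perm_g28_upto0 : TraceFix ptabs.perm tabs.word 46 1 44444 :=
  traceFix_extendF _ _ letSel perm_eq 46 1 0 44444 44444 rfl (traceFix_zero _ _ 46 1) perm_piece_28_0
theorem perm_g28_upto1 : TraceFix ptabs.perm tabs.word 46 1 88888 :=
  traceFix_extendF _ _ letSel perm_eq 46 1 44444 44444 88888 rfl perm_g28_upto0 perm_piece_28_1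
theorem perm_g28_upto2 : TraceFix ptabs.perm tabs.word 46 1 122760 :=
  traceFix_extendF _ _ letSel perm_eq 46 1 88888 33872 122760 rfl perm_g28_upto1 perm_piece_28_2
theorem perm_g28 : ∀ r, 46 ≤ r → r < 46 + 1 → relOk ptabs (tabs.word r) 0 ptabs.n = true :=
  relOk_of_traceFix ptabs tabs.word 46 1 perm_g28_upto2
theorem perm_g29_upto0 : TraceFix ptabs.perm tabs.word 47 1 14814 :=
  traceFix_extendF _ _ letSel perm_eq 47 1 0 14814 14814 rfl (traceFix_zero _ _ 47 1) perm_piece_29_0
theorem perm_g29_upto1 : TraceFix ptabs.perm tabs.word 47 1 29628 :=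
  traceFix_extendF _ _ letSel perm_eq 47 1 14814 14814 29628 rfl perm_g29_upto0 perm_piece_29_1
theorem perm_g29_upto2 : TraceFix ptabs.perm tabs.word 47 1 44442 :=
  traceFix_extendF _ _ letSel perm_eq 47 1 29628 14814 44442 rfl perm_g29_upto1 perm_piece_29_2
theorem perm_g29_upto3 : TraceFix ptabs.perm tabs.word 47 1 59256 :=
  traceFix_extendF _ _ letSel perm_eq 47 1 44442 14814 59256 rfl perm_g29_upto2 perm_piece_29_3
theorem perm_g29_upto4 : TraceFix ptabs.perm tabs.word 47 1 74070 :=
  traceFix_extendF _ _ letSel perm_eq 47 1 59256 14814 74070 rfl perm_g29_upto3 perm_piece_29_4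
theorem perm_g29_upto5 : TraceFix ptabs.perm tabs.word 47 1 88884 :=
  traceFix_extendF _ _ letSel perm_eq 47 1 74070 14814 88884 rfl perm_g29_upto4 perm_piece_29_5
theorem perm_g29_upto6 : TraceFix ptabs.perm tabs.word 47 1 103698 :=
  traceFix_extendF _ _ letSel perm_eq 47 1 88884 14814 103698 rfl perm_g29_upto5 perm_piece_29_6
theorem perm_g29_upto7 : TraceFix ptabs.perm tabs.word 47 1 118512 :=
  traceFix_extendF _ _ letSel perm_eq 47 1 103698 14814 118512 rfl perm_g29_upto6 perm_piece_29_7
theorem perm_g29_upto8 : TraceFix ptabs.perm tabs.word 47 1 122760 :=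
  traceFix_extendF _ _ letSel perm_eq 47 1 118512 4248 122760 rfl perm_g29_upto7 perm_piece_29_8
theorem perm_g29 : ∀ r, 47 ≤ r → r < 47 + 1 → relOk ptabs (tabs.word r) 0 ptabs.n = true :=
  relOk_of_traceFix ptabs tabs.word 47 1 perm_g29_upto8
theorem perm_g30_upto0 : TraceFix ptabs.perm tabs.word 48 2 22222 :=
  traceFix_extendF _ _ letSel perm_eq 48 2 0 22222 22222 rfl (traceFix_zero _ _ 48 2) perm_piece_30_0
theorem perm_g30_upto1 : TraceFix ptabs.perm tabs.word 48 2 44444 :=
  traceFix_extendF _ _ letSel perm_eq 48 2 22222 22222 44444 rfl perm_g30_upto0 perm_piece_30_1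
theorem perm_g30_upto2 : TraceFix ptabs.perm tabs.word 48 2 66666 :=
  traceFix_extendF _ _ letSel perm_eq 48 2 44444 22222 66666 rfl perm_g30_upto1 perm_piece_30_2
theorem perm_g30_upto3 : TraceFix ptabs.perm tabs.word 48 2 88888 :=
  traceFix_extendF _ _ letSel perm_eq 48 2 66666 22222 88888 rfl perm_g30_upto2 perm_piece_30_3
theorem perm_g30_upto4 : TraceFix ptabs.perm tabs.word 48 2 111110 :=
  traceFix_extendF _ _ letSel perm_eq 48 2 88888 22222 111110 rfl perm_g30_upto3 perm_piece_30_4
theorem perm_g30_upto5 : TraceFix ptabs.perm tabs.word 48 2 122760 :=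
  traceFix_extendF _ _ letSel perm_eq 48 2 111110 11650 122760 rfl perm_g30_upto4 perm_piece_30_5
theorem perm_g30 : ∀ r, 48 ≤ r → r < 48 + 2 → relOk ptabs (tabs.word r) 0 ptabs.n = true :=
  relOk_of_traceFix ptabs tabs.word 48 2 perm_g30_upto5
theorem perm_g31_upto0 : TraceFix ptabs.perm tabs.word 50 1 22222 :=
  traceFix_extendF _ _ letSel perm_eq 50 1 0 22222 22222 rfl (traceFix_zero _ _ 50 1) perm_piece_31_0
theorem perm_g31_upto1 : TraceFix ptabs.perm tabs.word 50 1 44444 :=
  traceFix_extendF _ _ letSel perm_eq 50 1 22222 22222 44444 rfl perm_g31_upto0 perm_piece_31_1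
theorem perm_g31_upto2 : TraceFix ptabs.perm tabs.word 50 1 66666 :=
  traceFix_extendF _ _ letSel perm_eq 50 1 44444 22222 66666 rfl perm_g31_upto1 perm_piece_31_2
theorem perm_g31_upto3 : TraceFix ptabs.perm tabs.word 50 1 88888 :=
  traceFix_extendF _ _ letSel perm_eq 50 1 66666 22222 88888 rfl perm_g31_upto2 perm_piece_31_3
theorem perm_g31_upto4 : TraceFix ptabs.perm tabs.word 50 1 111110 :=
  traceFix_extendF _ _ letSel perm_eq 50 1 88888 22222 111110 rfl perm_g31_upto3 perm_piece_31_4
theorem perm_g31_upto5 : TraceFix ptabs.perm tabs.word 50 1 122760 :=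
  traceFix_extendF _ _ letSel perm_eq 50 1 111110 11650 122760 rfl perm_g31_upto4 perm_piece_31_5
theorem perm_g31 : ∀ r, 50 ≤ r → r < 50 + 1 → relOk ptabs (tabs.word r) 0 ptabs.n = true :=
  relOk_of_traceFix ptabs tabs.word 50 1 perm_g31_upto5
theorem perm_g32_upto0 : TraceFix ptabs.perm tabs.word 51 1 22222 :=
  traceFix_extendF _ _ letSel perm_eq 51 1 0 22222 22222 rfl (traceFix_zero _ _ 51 1) perm_piece_32_0
theorem perm_g32_upto1 : TraceFix ptabs.perm tabs.word 51 1 44444 :=
  traceFix_extendF _ _ letSel perm_eq 51 1 22222 22222 44444 rfl perm_g32_upto0 perm_piece_32_1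
theorem perm_g32_upto2 : TraceFix ptabs.perm tabs.word 51 1 66666 :=
  traceFix_extendF _ _ letSel perm_eq 51 1 44444 22222 66666 rfl perm_g32_upto1 perm_piece_32_2
theorem perm_g32_upto3 : TraceFix ptabs.perm tabs.word 51 1 88888 :=
  traceFix_extendF _ _ letSel perm_eq 51 1 66666 22222 88888 rfl perm_g32_upto2 perm_piece_32_3
theorem perm_g32_upto4 : TraceFix ptabs.perm tabs.word 51 1 111110 :=
  traceFix_extendF _ _ letSel perm_eq 51 1 88888 22222 111110 rfl perm_g32_upto3 perm_piece_32_4
theorem perm_g32_upto5 : TraceFix ptabs.perm tabs.word 51 1 122760 :=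
  traceFix_extendF _ _ letSel perm_eq 51 1 111110 11650 122760 rfl perm_g32_upto4 perm_piece_32_5
theorem perm_g32 : ∀ r, 51 ≤ r → r < 51 + 1 → relOk ptabs (tabs.word r) 0 ptabs.n = true :=
  relOk_of_traceFix ptabs tabs.word 51 1 perm_g32_upto5
theorem perm_g33_upto0 : TraceFix ptabs.perm tabs.word 52 1 22222 :=
  traceFix_extendF _ _ letSel perm_eq 52 1 0 22222 22222 rfl (traceFix_zero _ _ 52 1) perm_piece_33_0
theorem perm_g33_upto1 : TraceFix ptabs.perm tabs.word 52 1 44444 :=
  traceFix_extendF _ _ letSel perm_eq 52 1 22222 22222 44444 rfl perm_g33_upto0 perm_piece_33_1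
theorem perm_g33_upto2 : TraceFix ptabs.perm tabs.word 52 1 66666 :=
  traceFix_extendF _ _ letSel perm_eq 52 1 44444 22222 66666 rfl perm_g33_upto1 perm_piece_33_2
theorem perm_g33_upto3 : TraceFix ptabs.perm tabs.word 52 1 88888 :=
  traceFix_extendF _ _ letSel perm_eq 52 1 66666 22222 88888 rfl perm_g33_upto2 perm_piece_33_3
theorem perm_g33_upto4 : TraceFix ptabs.perm tabs.word 52 1 111110 :=
  traceFix_extendF _ _ letSel perm_eq 52 1 88888 22222 111110 rfl perm_g33_upto3 perm_piece_33_4
theorem perm_g33_upto5 : TraceFix ptabs.perm tabs.word 52 1 122760 :=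
  traceFix_extendF _ _ letSel perm_eq 52 1 111110 11650 122760 rfl perm_g33_upto4 perm_piece_33_5
theorem perm_g33 : ∀ r, 52 ≤ r → r < 52 + 1 → relOk ptabs (tabs.word r) 0 ptabs.n = true :=
  relOk_of_traceFix ptabs tabs.word 52 1 perm_g33_upto5
theorem perm_g34_upto0 : TraceFix ptabs.perm tabs.word 53 1 14814 :=
  traceFix_extendF _ _ letSel perm_eq 53 1 0 14814 14814 rfl (traceFix_zero _ _ 53 1) perm_piece_34_0
theorem perm_g34_upto1 : TraceFix ptabs.perm tabs.word 53 1 29628 :=
  traceFix_extendF _ _ letSel perm_eq 53 1 14814 14814 29628 rfl perm_g34_upto0 perm_piece_34_1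
theorem perm_g34_upto2 : TraceFix ptabs.perm tabs.word 53 1 44442 :=
  traceFix_extendF _ _ letSel perm_eq 53 1 29628 14814 44442 rfl perm_g34_upto1 perm_piece_34_2
theorem perm_g34_upto3 : TraceFix ptabs.perm tabs.word 53 1 59256 :=
  traceFix_extendF _ _ letSel perm_eq 53 1 44442 14814 59256 rfl perm_g34_upto2 perm_piece_34_3
theorem perm_g34_upto4 : TraceFix ptabs.perm tabs.word 53 1 74070 :=
  traceFix_extendF _ _ letSel perm_eq 53 1 59256 14814 74070 rfl perm_g34_upto3 perm_piece_34_4
theorem perm_g34_upto5 : TraceFix ptabs.perm tabs.word 53 1 88884 :=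
  traceFix_extendF _ _ letSel perm_eq 53 1 74070 14814 88884 rfl perm_g34_upto4 perm_piece_34_5
theorem perm_g34_upto6 : TraceFix ptabs.perm tabs.word 53 1 103698 :=
  traceFix_extendF _ _ letSel perm_eq 53 1 88884 14814 103698 rfl perm_g34_upto5 perm_piece_34_6
theorem perm_g34_upto7 : TraceFix ptabs.perm tabs.word 53 1 118512 :=
  traceFix_extendF _ _ letSel perm_eq 53 1 103698 14814 118512 rfl perm_g34_upto6 perm_piece_34_7
theorem perm_g34_upto8 : TraceFix ptabs.perm tabs.word 53 1 122760 :=
  traceFix_extendF _ _ letSel perm_eq 53 1 118512 4248 122760 rfl perm_g34_upto7 perm_piece_34_8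
theorem perm_g34 : ∀ r, 53 ≤ r → r < 53 + 1 → relOk ptabs (tabs.word r) 0 ptabs.n = true :=
  relOk_of_traceFix ptabs tabs.word 53 1 perm_g34_upto8
theorem perm_g35_upto0 : TraceFix ptabs.perm tabs.word 54 1 44444 :=
  traceFix_extendF _ _ letSel perm_eq 54 1 0 44444 44444 rfl (traceFix_zero _ _ 54 1) perm_piece_35_0
theorem perm_g35_upto1 : TraceFix ptabs.perm tabs.word 54 1 88888 :=
  traceFix_extendF _ _ letSel perm_eq 54 1 44444 44444 88888 rfl perm_g35_upto0 perm_piece_35_1
theorem perm_g35_upto2 : TraceFix ptabs.perm tabs.word 54 1 122760 :=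
  traceFix_extendF _ _ letSel perm_eq 54 1 88888 33872 122760 rfl perm_g35_upto1 perm_piece_35_2
theorem perm_g35 : ∀ r, 54 ≤ r → r < 54 + 1 → relOk ptabs (tabs.word r) 0 ptabs.n = true :=
  relOk_of_traceFix ptabs tabs.word 54 1 perm_g35_upto2
theorem perm_g36_upto0 : TraceFix ptabs.perm tabs.word 55 1 22222 :=
  traceFix_extendF _ _ letSel perm_eq 55 1 0 22222 22222 rfl (traceFix_zero _ _ 55 1) perm_piece_36_0
theorem perm_g36_upto1 : TraceFix ptabs.perm tabs.word 55 1 44444 :=
  traceFix_extendF _ _ letSel perm_eq 55 1 22222 22222 44444 rfl perm_g36_upto0 perm_piece_36_1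
theorem perm_g36_upto2 : TraceFix ptabs.perm tabs.word 55 1 66666 :=
  traceFix_extendF _ _ letSel perm_eq 55 1 44444 22222 66666 rfl perm_g36_upto1 perm_piece_36_2
theorem perm_g36_upto3 : TraceFix ptabs.perm tabs.word 55 1 88888 :=
  traceFix_extendF _ _ letSel perm_eq 55 1 66666 22222 88888 rfl perm_g36_upto2 perm_piece_36_3
theorem perm_g36_upto4 : TraceFix ptabs.perm tabs.word 55 1 111110 :=
  traceFix_extendF _ _ letSel perm_eq 55 1 88888 22222 111110 rfl perm_g36_upto3 perm_piece_36_4
theorem perm_g36_upto5 : TraceFix ptabs.perm tabs.word 55 1 122760 :=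
  traceFix_extendF _ _ letSel perm_eq 55 1 111110 11650 122760 rfl perm_g36_upto4 perm_piece_36_5
theorem perm_g36 : ∀ r, 55 ≤ r → r < 55 + 1 → relOk ptabs (tabs.word r) 0 ptabs.n = true :=
  relOk_of_traceFix ptabs tabs.word 55 1 perm_g36_upto5
theorem perm_g37_upto0 : TraceFix ptabs.perm tabs.word 56 1 8888 :=
  traceFix_extendF _ _ letSel perm_eq 56 1 0 8888 8888 rfl (traceFix_zero _ _ 56 1) perm_piece_37_0
theorem perm_g37_upto1 : TraceFix ptabs.perm tabs.word 56 1 17776 :=
  traceFix_extendF _ _ letSel perm_eq 56 1 8888 8888 17776 rfl perm_g37_upto0 perm_piece_37_1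
theorem perm_g37_upto2 : TraceFix ptabs.perm tabs.word 56 1 26664 :=
  traceFix_extendF _ _ letSel perm_eq 56 1 17776 8888 26664 rfl perm_g37_upto1 perm_piece_37_2
theorem perm_g37_upto3 : TraceFix ptabs.perm tabs.word 56 1 35552 :=
  traceFix_extendF _ _ letSel perm_eq 56 1 26664 8888 35552 rfl perm_g37_upto2 perm_piece_37_3
theorem perm_g37_upto4 : TraceFix ptabs.perm tabs.word 56 1 44440 :=
  traceFix_extendF _ _ letSel perm_eq 56 1 35552 8888 44440 rfl perm_g37_upto3 perm_piece_37_4
theorem perm_g37_upto5 : TraceFix ptabs.perm tabs.word 56 1 53328 :=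
  traceFix_extendF _ _ letSel perm_eq 56 1 44440 8888 53328 rfl perm_g37_upto4 perm_piece_37_5
theorem perm_g37_upto6 : TraceFix ptabs.perm tabs.word 56 1 62216 :=
  traceFix_extendF _ _ letSel perm_eq 56 1 53328 8888 62216 rfl perm_g37_upto5 perm_piece_37_6
theorem perm_g37_upto7 : TraceFix ptabs.perm tabs.word 56 1 71104 :=
  traceFix_extendF _ _ letSel perm_eq 56 1 62216 8888 71104 rfl perm_g37_upto6 perm_piece_37_7
theorem perm_g37_upto8 : TraceFix ptabs.perm tabs.word 56 1 79992 :=
  traceFix_extendF _ _ letSel perm_eq 56 1 71104 8888 79992 rfl perm_g37_upto7 perm_piece_37_8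
theorem perm_g37_upto9 : TraceFix ptabs.perm tabs.word 56 1 88880 :=
  traceFix_extendF _ _ letSel perm_eq 56 1 79992 8888 88880 rfl perm_g37_upto8 perm_piece_37_9
theorem perm_g37_upto10 : TraceFix ptabs.perm tabs.word 56 1 97768 :=
  traceFix_extendF _ _ letSel perm_eq 56 1 88880 8888 97768 rfl perm_g37_upto9 perm_piece_37_10
theorem perm_g37_upto11 : TraceFix ptabs.perm tabs.word 56 1 106656 :=
  traceFix_extendF _ _ letSel perm_eq 56 1 97768 8888 106656 rfl perm_g37_upto10 perm_piece_37_11
theorem perm_g37_upto12 : TraceFix ptabs.perm tabs.word 56 1 115544 :=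
  traceFix_extendF _ _ letSel perm_eq 56 1 106656 8888 115544 rfl perm_g37_upto11 perm_piece_37_12
theorem perm_g37_upto13 : TraceFix ptabs.perm tabs.word 56 1 122760 :=
  traceFix_extendF _ _ letSel perm_eq 56 1 115544 7216 122760 rfl perm_g37_upto12 perm_piece_37_13
theorem perm_g37 : ∀ r, 56 ≤ r → r < 56 + 1 → relOk ptabs (tabs.word r) 0 ptabs.n = true :=
  relOk_of_traceFix ptabs tabs.word 56 1 perm_g37_upto13
theorem perm_g38_upto0 : TraceFix ptabs.perm tabs.word 57 1 8888 :=
  traceFix_extendF _ _ letSel perm_eq 57 1 0 8888 8888 rfl (traceFix_zero _ _ 57 1) perm_piece_38_0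
theorem perm_g38_upto1 : TraceFix ptabs.perm tabs.word 57 1 17776 :=
  traceFix_extendF _ _ letSel perm_eq 57 1 8888 8888 17776 rfl perm_g38_upto0 perm_piece_38_1
theorem perm_g38_upto2 : TraceFix ptabs.perm tabs.word 57 1 26664 :=
  traceFix_extendF _ _ letSel perm_eq 57 1 17776 8888 26664 rfl perm_g38_upto1 perm_piece_38_2
theorem perm_g38_upto3 : TraceFix ptabs.perm tabs.word 57 1 35552 :=
  traceFix_extendF _ _ letSel perm_eq 57 1 26664 8888 35552 rfl perm_g38_upto2 perm_piece_38_3
theorem perm_g38_upto4 : TraceFix ptabs.perm tabs.word 57 1 44440 :=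
  traceFix_extendF _ _ letSel perm_eq 57 1 35552 8888 44440 rfl perm_g38_upto3 perm_piece_38_4
theorem perm_g38_upto5 : TraceFix ptabs.perm tabs.word 57 1 53328 :=
  traceFix_extendF _ _ letSel perm_eq 57 1 44440 8888 53328 rfl perm_g38_upto4 perm_piece_38_5
theorem perm_g38_upto6 : TraceFix ptabs.perm tabs.word 57 1 62216 :=
  traceFix_extendF _ _ letSel perm_eq 57 1 53328 8888 62216 rfl perm_g38_upto5 perm_piece_38_6
theorem perm_g38_upto7 : TraceFix ptabs.perm tabs.word 57 1 71104 :=
  traceFix_extendF _ _ letSel perm_eq 57 1 62216 8888 71104 rfl perm_g38_upto6 perm_piece_38_7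
theorem perm_g38_upto8 : TraceFix ptabs.perm tabs.word 57 1 79992 :=
  traceFix_extendF _ _ letSel perm_eq 57 1 71104 8888 79992 rfl perm_g38_upto7 perm_piece_38_8
theorem perm_g38_upto9 : TraceFix ptabs.perm tabs.word 57 1 88880 :=
  traceFix_extendF _ _ letSel perm_eq 57 1 79992 8888 88880 rfl perm_g38_upto8 perm_piece_38_9
theorem perm_g38_upto10 : TraceFix ptabs.perm tabs.word 57 1 97768 :=
  traceFix_extendF _ _ letSel perm_eq 57 1 88880 8888 97768 rfl perm_g38_upto9 perm_piece_38_10
theorem perm_g38_upto11 : TraceFix ptabs.perm tabs.word 57 1 106656 :=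
  traceFix_extendF _ _ letSel perm_eq 57 1 97768 8888 106656 rfl perm_g38_upto10 perm_piece_38_11
theorem perm_g38_upto12 : TraceFix ptabs.perm tabs.word 57 1 115544 :=
  traceFix_extendF _ _ letSel perm_eq 57 1 106656 8888 115544 rfl perm_g38_upto11 perm_piece_38_12
theorem perm_g38_upto13 : TraceFix ptabs.perm tabs.word 57 1 122760 :=
  traceFix_extendF _ _ letSel perm_eq 57 1 115544 7216 122760 rfl perm_g38_upto12 perm_piece_38_13
theorem perm_g38 : ∀ r, 57 ≤ r → r < 57 + 1 → relOk ptabs (tabs.word r) 0 ptabs.n = true :=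
  relOk_of_traceFix ptabs tabs.word 57 1 perm_g38_upto13
theorem perm_g39_upto0 : TraceFix ptabs.perm tabs.word 58 1 8888 :=
  traceFix_extendF _ _ letSel perm_eq 58 1 0 8888 8888 rfl (traceFix_zero _ _ 58 1) perm_piece_39_0
theorem perm_g39_upto1 : TraceFix ptabs.perm tabs.word 58 1 17776 :=
  traceFix_extendF _ _ letSel perm_eq 58 1 8888 8888 17776 rfl perm_g39_upto0 perm_piece_39_1
theorem perm_g39_upto2 : TraceFix ptabs.perm tabs.word 58 1 26664 :=
  traceFix_extendF _ _ letSel perm_eq 58 1 17776 8888 26664 rfl perm_g39_upto1 perm_piece_39_2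
theorem perm_g39_upto3 : TraceFix ptabs.perm tabs.word 58 1 35552 :=
  traceFix_extendF _ _ letSel perm_eq 58 1 26664 8888 35552 rfl perm_g39_upto2 perm_piece_39_3
theorem perm_g39_upto4 : TraceFix ptabs.perm tabs.word 58 1 44440 :=
  traceFix_extendF _ _ letSel perm_eq 58 1 35552 8888 44440 rfl perm_g39_upto3 perm_piece_39_4
theorem perm_g39_upto5 : TraceFix ptabs.perm tabs.word 58 1 53328 :=
  traceFix_extendF _ _ letSel perm_eq 58 1 44440 8888 53328 rfl perm_g39_upto4 perm_piece_39_5
theorem perm_g39_upto6 : TraceFix ptabs.perm tabs.word 58 1 62216 :=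
  traceFix_extendF _ _ letSel perm_eq 58 1 53328 8888 62216 rfl perm_g39_upto5 perm_piece_39_6
theorem perm_g39_upto7 : TraceFix ptabs.perm tabs.word 58 1 71104 :=
  traceFix_extendF _ _ letSel perm_eq 58 1 62216 8888 71104 rfl perm_g39_upto6 perm_piece_39_7
theorem perm_g39_upto8 : TraceFix ptabs.perm tabs.word 58 1 79992 :=
  traceFix_extendF _ _ letSel perm_eq 58 1 71104 8888 79992 rfl perm_g39_upto7 perm_piece_39_8
theorem perm_g39_upto9 : TraceFix ptabs.perm tabs.word 58 1 88880 :=
  traceFix_extendF _ _ letSel perm_eq 58 1 79992 8888 88880 rfl perm_g39_upto8 perm_piece_39_9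
theorem perm_g39_upto10 : TraceFix ptabs.perm tabs.word 58 1 97768 :=
  traceFix_extendF _ _ letSel perm_eq 58 1 88880 8888 97768 rfl perm_g39_upto9 perm_piece_39_10
theorem perm_g39_upto11 : TraceFix ptabs.perm tabs.word 58 1 106656 :=
  traceFix_extendF _ _ letSel perm_eq 58 1 97768 8888 106656 rfl perm_g39_upto10 perm_piece_39_11
theorem perm_g39_upto12 : TraceFix ptabs.perm tabs.word 58 1 115544 :=
  traceFix_extendF _ _ letSel perm_eq 58 1 106656 8888 115544 rfl perm_g39_upto11 perm_piece_39_12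
theorem perm_g39_upto13 : TraceFix ptabs.perm tabs.word 58 1 122760 :=
  traceFix_extendF _ _ letSel perm_eq 58 1 115544 7216 122760 rfl perm_g39_upto12 perm_piece_39_13
theorem perm_g39 : ∀ r, 58 ≤ r → r < 58 + 1 → relOk ptabs (tabs.word r) 0 ptabs.n = true :=
  relOk_of_traceFix ptabs tabs.word 58 1 perm_g39_upto13
theorem perm_g40_upto0 : TraceFix ptabs.perm tabs.word 59 1 4444 :=
  traceFix_extendF _ _ letSel perm_eq 59 1 0 4444 4444 rfl (traceFix_zero _ _ 59 1) perm_piece_40_0
theorem perm_g40_upto1 : TraceFix ptabs.perm tabs.word 59 1 8888 :=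
  traceFix_extendF _ _ letSel perm_eq 59 1 4444 4444 8888 rfl perm_g40_upto0 perm_piece_40_1
theorem perm_g40_upto2 : TraceFix ptabs.perm tabs.word 59 1 13332 :=
  traceFix_extendF _ _ letSel perm_eq 59 1 8888 4444 13332 rfl perm_g40_upto1 perm_piece_40_2
theorem perm_g40_upto3 : TraceFix ptabs.perm tabs.word 59 1 17776 :=
  traceFix_extendF _ _ letSel perm_eq 59 1 13332 4444 17776 rfl perm_g40_upto2 perm_piece_40_3
theorem perm_g40_upto4 : TraceFix ptabs.perm tabs.word 59 1 22220 :=
  traceFix_extendF _ _ letSel perm_eq 59 1 17776 4444 22220 rfl perm_g40_upto3 perm_piece_40_4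
theorem perm_g40_upto5 : TraceFix ptabs.perm tabs.word 59 1 26664 :=
  traceFix_extendF _ _ letSel perm_eq 59 1 22220 4444 26664 rfl perm_g40_upto4 perm_piece_40_5
theorem perm_g40_upto6 : TraceFix ptabs.perm tabs.word 59 1 31108 :=
  traceFix_extendF _ _ letSel perm_eq 59 1 26664 4444 31108 rfl perm_g40_upto5 perm_piece_40_6
theorem perm_g40_upto7 : TraceFix ptabs.perm tabs.word 59 1 35552 :=
  traceFix_extendF _ _ letSel perm_eq 59 1 31108 4444 35552 rfl perm_g40_upto6 perm_piece_40_7
theorem perm_g40_upto8 : TraceFix ptabs.perm tabs.word 59 1 39996 :=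
  traceFix_extendF _ _ letSel perm_eq 59 1 35552 4444 39996 rfl perm_g40_upto7 perm_piece_40_8
theorem perm_g40_upto9 : TraceFix ptabs.perm tabs.word 59 1 44440 :=
  traceFix_extendF _ _ letSel perm_eq 59 1 39996 4444 44440 rfl perm_g40_upto8 perm_piece_40_9
theorem perm_g40_upto10 : TraceFix ptabs.perm tabs.word 59 1 48884 :=
  traceFix_extendF _ _ letSel perm_eq 59 1 44440 4444 48884 rfl perm_g40_upto9 perm_piece_40_10
theorem perm_g40_upto11 : TraceFix ptabs.perm tabs.word 59 1 53328 :=
  traceFix_extendF _ _ letSel perm_eq 59 1 48884 4444 53328 rfl perm_g40_upto10 perm_piece_40_11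
theorem perm_g40_upto12 : TraceFix ptabs.perm tabs.word 59 1 57772 :=
  traceFix_extendF _ _ letSel perm_eq 59 1 53328 4444 57772 rfl perm_g40_upto11 perm_piece_40_12
theorem perm_g40_upto13 : TraceFix ptabs.perm tabs.word 59 1 62216 :=
  traceFix_extendF _ _ letSel perm_eq 59 1 57772 4444 62216 rfl perm_g40_upto12 perm_piece_40_13
theorem perm_g40_upto14 : TraceFix ptabs.perm tabs.word 59 1 66660 :=
  traceFix_extendF _ _ letSel perm_eq 59 1 62216 4444 66660 rfl perm_g40_upto13 perm_piece_40_14
theorem perm_g40_upto15 : TraceFix ptabs.perm tabs.word 59 1 71104 :=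
  traceFix_extendF _ _ letSel perm_eq 59 1 66660 4444 71104 rfl perm_g40_upto14 perm_piece_40_15
theorem perm_g40_upto16 : TraceFix ptabs.perm tabs.word 59 1 75548 :=
  traceFix_extendF _ _ letSel perm_eq 59 1 71104 4444 75548 rfl perm_g40_upto15 perm_piece_40_16
theorem perm_g40_upto17 : TraceFix ptabs.perm tabs.word 59 1 79992 :=
  traceFix_extendF _ _ letSel perm_eq 59 1 75548 4444 79992 rfl perm_g40_upto16 perm_piece_40_17
theorem perm_g40_upto18 : TraceFix ptabs.perm tabs.word 59 1 84436 :=
  traceFix_extendF _ _ letSel perm_eq 59 1 79992 4444 84436 rfl perm_g40_upto17 perm_piece_40_18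
theorem perm_g40_upto19 : TraceFix ptabs.perm tabs.word 59 1 88880 :=
  traceFix_extendF _ _ letSel perm_eq 59 1 84436 4444 88880 rfl perm_g40_upto18 perm_piece_40_19
theorem perm_g40_upto20 : TraceFix ptabs.perm tabs.word 59 1 93324 :=
  traceFix_extendF _ _ letSel perm_eq 59 1 88880 4444 93324 rfl perm_g40_upto19 perm_piece_40_20
theorem perm_g40_upto21 : TraceFix ptabs.perm tabs.word 59 1 97768 :=
  traceFix_extendF _ _ letSel perm_eq 59 1 93324 4444 97768 rfl perm_g40_upto20 perm_piece_40_21
theorem perm_g40_upto22 : TraceFix ptabs.perm tabs.word 59 1 102212 :=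
  traceFix_extendF _ _ letSel perm_eq 59 1 97768 4444 102212 rfl perm_g40_upto21 perm_piece_40_22
theorem perm_g40_upto23 : TraceFix ptabs.perm tabs.word 59 1 106656 :=
  traceFix_extendF _ _ letSel perm_eq 59 1 102212 4444 106656 rfl perm_g40_upto22 perm_piece_40_23
theorem perm_g40_upto24 : TraceFix ptabs.perm tabs.word 59 1 111100 :=
  traceFix_extendF _ _ letSel perm_eq 59 1 106656 4444 111100 rfl perm_g40_upto23 perm_piece_40_24
theorem perm_g40_upto25 : TraceFix ptabs.perm tabs.word 59 1 115544 :=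
  traceFix_extendF _ _ letSel perm_eq 59 1 111100 4444 115544 rfl perm_g40_upto24 perm_piece_40_25
theorem perm_g40_upto26 : TraceFix ptabs.perm tabs.word 59 1 119988 :=
  traceFix_extendF _ _ letSel perm_eq 59 1 115544 4444 119988 rfl perm_g40_upto25 perm_piece_40_26
theorem perm_g40_upto27 : TraceFix ptabs.perm tabs.word 59 1 122760 :=
  traceFix_extendF _ _ letSel perm_eq 59 1 119988 2772 122760 rfl perm_g40_upto26 perm_piece_40_27
theorem perm_g40 : ∀ r, 59 ≤ r → r < 59 + 1 → relOk ptabs (tabs.word r) 0 ptabs.n = true :=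
  relOk_of_traceFix ptabs tabs.word 59 1 perm_g40_upto27
theorem perm_g41_upto0 : TraceFix ptabs.perm tabs.word 60 1 8080 :=
  traceFix_extendF _ _ letSel perm_eq 60 1 0 8080 8080 rfl (traceFix_zero _ _ 60 1) perm_piece_41_0
theorem perm_g41_upto1 : TraceFix ptabs.perm tabs.word 60 1 16160 :=
  traceFix_extendF _ _ letSel perm_eq 60 1 8080 8080 16160 rfl perm_g41_upto0 perm_piece_41_1
theorem perm_g41_upto2 : TraceFix ptabs.perm tabs.word 60 1 24240 :=
  traceFix_extendF _ _ letSel perm_eq 60 1 16160 8080 24240 rfl perm_g41_upto1 perm_piece_41_2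
theorem perm_g41_upto3 : TraceFix ptabs.perm tabs.word 60 1 32320 :=
  traceFix_extendF _ _ letSel perm_eq 60 1 24240 8080 32320 rfl perm_g41_upto2 perm_piece_41_3
theorem perm_g41_upto4 : TraceFix ptabs.perm tabs.word 60 1 40400 :=
  traceFix_extendF _ _ letSel perm_eq 60 1 32320 8080 40400 rfl perm_g41_upto3 perm_piece_41_4
theorem perm_g41_upto5 : TraceFix ptabs.perm tabs.word 60 1 48480 :=
  traceFix_extendF _ _ letSel perm_eq 60 1 40400 8080 48480 rfl perm_g41_upto4 perm_piece_41_5
theorem perm_g41_upto6 : TraceFix ptabs.perm tabs.word 60 1 56560 :=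
  traceFix_extendF _ _ letSel perm_eq 60 1 48480 8080 56560 rfl perm_g41_upto5 perm_piece_41_6
theorem perm_g41_upto7 : TraceFix ptabs.perm tabs.word 60 1 64640 :=
  traceFix_extendF _ _ letSel perm_eq 60 1 56560 8080 64640 rfl perm_g41_upto6 perm_piece_41_7
theorem perm_g41_upto8 : TraceFix ptabs.perm tabs.word 60 1 72720 :=
  traceFix_extendF _ _ letSel perm_eq 60 1 64640 8080 72720 rfl perm_g41_upto7 perm_piece_41_8
theorem perm_g41_upto9 : TraceFix ptabs.perm tabs.word 60 1 80800 :=
  traceFix_extendF _ _ letSel perm_eq 60 1 72720 8080 80800 rfl perm_g41_upto8 perm_piece_41_9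
theorem perm_g41_upto10 : TraceFix ptabs.perm tabs.word 60 1 88880 :=
  traceFix_extendF _ _ letSel perm_eq 60 1 80800 8080 88880 rfl perm_g41_upto9 perm_piece_41_10
theorem perm_g41_upto11 : TraceFix ptabs.perm tabs.word 60 1 96960 :=
  traceFix_extendF _ _ letSel perm_eq 60 1 88880 8080 96960 rfl perm_g41_upto10 perm_piece_41_11
theorem perm_g41_upto12 : TraceFix ptabs.perm tabs.word 60 1 105040 :=
  traceFix_extendF _ _ letSel perm_eq 60 1 96960 8080 105040 rfl perm_g41_upto11 perm_piece_41_12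
theorem perm_g41_upto13 : TraceFix ptabs.perm tabs.word 60 1 113120 :=
  traceFix_extendF _ _ letSel perm_eq 60 1 105040 8080 113120 rfl perm_g41_upto12 perm_piece_41_13
theorem perm_g41_upto14 : TraceFix ptabs.perm tabs.word 60 1 121200 :=
  traceFix_extendF _ _ letSel perm_eq 60 1 113120 8080 121200 rfl perm_g41_upto13 perm_piece_41_14
theorem perm_g41_upto15 : TraceFix ptabs.perm tabs.word 60 1 122760 :=
  traceFix_extendF _ _ letSel perm_eq 60 1 121200 1560 122760 rfl perm_g41_upto14 perm_piece_41_15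
theorem perm_g41 : ∀ r, 60 ≤ r → r < 60 + 1 → relOk ptabs (tabs.word r) 0 ptabs.n = true :=
  relOk_of_traceFix ptabs tabs.word 60 1 perm_g41_upto15
theorem perm_g42_upto0 : TraceFix ptabs.perm tabs.word 61 1 8080 :=
  traceFix_extendF _ _ letSel perm_eq 61 1 0 8080 8080 rfl (traceFix_zero _ _ 61 1) perm_piece_42_0
theorem perm_g42_upto1 : TraceFix ptabs.perm tabs.word 61 1 16160 :=
  traceFix_extendF _ _ letSel perm_eq 61 1 8080 8080 16160 rfl perm_g42_upto0 perm_piece_42_1
theorem perm_g42_upto2 : TraceFix ptabs.perm tabs.word 61 1 24240 :=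
  traceFix_extendF _ _ letSel perm_eq 61 1 16160 8080 24240 rfl perm_g42_upto1 perm_piece_42_2
theorem perm_g42_upto3 : TraceFix ptabs.perm tabs.word 61 1 32320 :=
  traceFix_extendF _ _ letSel perm_eq 61 1 24240 8080 32320 rfl perm_g42_upto2 perm_piece_42_3
theorem perm_g42_upto4 : TraceFix ptabs.perm tabs.word 61 1 40400 :=
  traceFix_extendF _ _ letSel perm_eq 61 1 32320 8080 40400 rfl perm_g42_upto3 perm_piece_42_4
theorem perm_g42_upto5 : TraceFix ptabs.perm tabs.word 61 1 48480 :=
  traceFix_extendF _ _ letSel perm_eq 61 1 40400 8080 48480 rfl perm_g42_upto4 perm_piece_42_5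
theorem perm_g42_upto6 : TraceFix ptabs.perm tabs.word 61 1 56560 :=
  traceFix_extendF _ _ letSel perm_eq 61 1 48480 8080 56560 rfl perm_g42_upto5 perm_piece_42_6
theorem perm_g42_upto7 : TraceFix ptabs.perm tabs.word 61 1 64640 :=
  traceFix_extendF _ _ letSel perm_eq 61 1 56560 8080 64640 rfl perm_g42_upto6 perm_piece_42_7
theorem perm_g42_upto8 : TraceFix ptabs.perm tabs.word 61 1 72720 :=
  traceFix_extendF _ _ letSel perm_eq 61 1 64640 8080 72720 rfl perm_g42_upto7 perm_piece_42_8
theorem perm_g42_upto9 : TraceFix ptabs.perm tabs.word 61 1 80800 :=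
  traceFix_extendF _ _ letSel perm_eq 61 1 72720 8080 80800 rfl perm_g42_upto8 perm_piece_42_9
theorem perm_g42_upto10 : TraceFix ptabs.perm tabs.word 61 1 88880 :=
  traceFix_extendF _ _ letSel perm_eq 61 1 80800 8080 88880 rfl perm_g42_upto9 perm_piece_42_10
theorem perm_g42_upto11 : TraceFix ptabs.perm tabs.word 61 1 96960 :=
  traceFix_extendF _ _ letSel perm_eq 61 1 88880 8080 96960 rfl perm_g42_upto10 perm_piece_42_11
theorem perm_g42_upto12 : TraceFix ptabs.perm tabs.word 61 1 105040 :=
  traceFix_extendF _ _ letSel perm_eq 61 1 96960 8080 105040 rfl perm_g42_upto11 perm_piece_42_12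
theorem perm_g42_upto13 : TraceFix ptabs.perm tabs.word 61 1 113120 :=
  traceFix_extendF _ _ letSel perm_eq 61 1 105040 8080 113120 rfl perm_g42_upto12 perm_piece_42_13
theorem perm_g42_upto14 : TraceFix ptabs.perm tabs.word 61 1 121200 :=
  traceFix_extendF _ _ letSel perm_eq 61 1 113120 8080 121200 rfl perm_g42_upto13 perm_piece_42_14
theorem perm_g42_upto15 : TraceFix ptabs.perm tabs.word 61 1 122760 :=
  traceFix_extendF _ _ letSel perm_eq 61 1 121200 1560 122760 rfl perm_g42_upto14 perm_piece_42_15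
theorem perm_g42 : ∀ r, 61 ≤ r → r < 61 + 1 → relOk ptabs (tabs.word r) 0 ptabs.n = true :=
  relOk_of_traceFix ptabs tabs.word 61 1 perm_g42_upto15
theorem perm_all : ∀ r, 6 ≤ r → r < 62 → relOk ptabs (tabs.word r) 0 ptabs.n = true := by
  intro r h1 h2
  by_cases c0 : r < 15
  · exact perm_g0 r (by omega) (by omega)
  by_cases c1 : r < 16
  · exact perm_g1 r (by omega) (by omega)
  by_cases c2 : r < 17
  · exact perm_g2 r (by omega) (by omega)
  by_cases c3 : r < 18
  · exact perm_g3 r (by omega) (by omega)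
  by_cases c4 : r < 19
  · exact perm_g4 r (by omega) (by omega)
  by_cases c5 : r < 20
  · exact perm_g5 r (by omega) (by omega)
  by_cases c6 : r < 22
  · exact perm_g6 r (by omega) (by omega)
  by_cases c7 : r < 23
  · exact perm_g7 r (by omega) (by omega)
  by_cases c8 : r < 24
  · exact perm_g8 r (by omega) (by omega)
  by_cases c9 : r < 25
  · exact perm_g9 r (by omega) (by omega)
  by_cases c10 : r < 26
  · exact perm_g10 r (by omega) (by omega)
  by_cases c11 : r < 27
  · exact perm_g11 r (by omega) (by omega)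
  by_cases c12 : r < 29
  · exact perm_g12 r (by omega) (by omega)
  by_cases c13 : r < 30
  · exact perm_g13 r (by omega) (by omega)
  by_cases c14 : r < 31
  · exact perm_g14 r (by omega) (by omega)
  by_cases c15 : r < 32
  · exact perm_g15 r (by omega) (by omega)
  by_cases c16 : r < 33
  · exact perm_g16 r (by omega) (by omega)
  by_cases c17 : r < 34
  · exact perm_g17 r (by omega) (by omega)
  by_cases c18 : r < 36
  · exact perm_g18 r (by omega) (by omega)
  by_cases c19 : r < 37
  · exact perm_g19 r (by omega) (by omega)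
  by_cases c20 : r < 38
  · exact perm_g20 r (by omega) (by omega)
  by_cases c21 : r < 39
  · exact perm_g21 r (by omega) (by omega)
  by_cases c22 : r < 40
  · exact perm_g22 r (by omega) (by omega)
  by_cases c23 : r < 41
  · exact perm_g23 r (by omega) (by omega)
  by_cases c24 : r < 43
  · exact perm_g24 r (by omega) (by omega)
  by_cases c25 : r < 44
  · exact perm_g25 r (by omega) (by omega)
  by_cases c26 : r < 45
  · exact perm_g26 r (by omega) (by omega)
  by_cases c27 : r < 46
  · exact perm_g27 r (by omega) (by omega)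
  by_cases c28 : r < 47
  · exact perm_g28 r (by omega) (by omega)
  by_cases c29 : r < 48
  · exact perm_g29 r (by omega) (by omega)
  by_cases c30 : r < 50
  · exact perm_g30 r (by omega) (by omega)
  by_cases c31 : r < 51
  · exact perm_g31 r (by omega) (by omega)
  by_cases c32 : r < 52
  · exact perm_g32 r (by omega) (by omega)
  by_cases c33 : r < 53
  · exact perm_g33 r (by omega) (by omega)
  by_cases c34 : r < 54
  · exact perm_g34 r (by omega) (by omega)
  by_cases c35 : r < 55
  · exact perm_g35 r (by omega) (by omega)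
  by_cases c36 : r < 56
  · exact perm_g36 r (by omega) (by omega)
  by_cases c37 : r < 57
  · exact perm_g37 r (by omega) (by omega)
  by_cases c38 : r < 58
  · exact perm_g38 r (by omega) (by omega)
  by_cases c39 : r < 59
  · exact perm_g39 r (by omega) (by omega)
  by_cases c40 : r < 60
  · exact perm_g40 r (by omega) (by omega)
  by_cases c41 : r < 61
  · exact perm_g41 r (by omega) (by omega)
  by_cases c42 : r < 62
  · exact perm_g42 r (by omega) (by omega)
  omega
theorem subfix_all : ∀ r, r < 6 → relOk ptabs (tabs.word r) 0 1 = true := allLt_sound _ _ subfix_ok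
end Cfsg.Agent.Helper28.ON1
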