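import Cfsg.Agent.Helper28.ON1.D0
import Cfsg.Agent.Helper28.ON1.D1
import Cfsg.Agent.Helper28.ON1.D2
import Cfsg.Agent.Helper28.ON1.D3
import Cfsg.Agent.Helper28.ON1.D4
import Cfsg.Agent.Helper28.ON1.D5
import Cfsg.Agent.Helper28.ON1.D6
import Cfsg.Agent.Helper28.ON1.D7
import Cfsg.Agent.Helper28.ON1.D8
import Cfsg.Agent.Helper28.ON1.D9
import Cfsg.Agent.Helper28.ON1.D10
import Cfsg.Agent.Helper28.ON1.D11
import Cfsg.Agent.Helper28.ON1.D12
import Cfsg.Agent.Helper28.ON1.D13
import Cfsg.Agent.Helper28.ON1.D14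
import Cfsg.Agent.Helper28.ON1.D15
import Cfsg.Agent.Helper28.ON1.D16
import Cfsg.Agent.Helper28.ON1.D17
import Cfsg.Agent.Helper28.ON1.D18
import Cfsg.Agent.Helper28.ON1.D19
import Cfsg.Agent.Helper28.ON1.D20
import Cfsg.Agent.Helper28.ON1.D21
import Cfsg.Agent.Helper28.ON1.D22
set_option autoImplicit false
set_option maxRecDepth 1000000
namespace Cfsg.Agent.Helper28.ON1
open Cfsg.Agent.Helper28
noncomputable def nd4 (i : Nat) : Nat := (Bool.rec (motive := fun _ => Nat) (nl0 i) ((Bool.rec (motive := fun _ => Nat) (nl1 i) (nl2 i) (Nat.ble 2048 i))) (Nat.ble 1024 i))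
noncomputable def nd5 (i : Nat) : Nat := (Bool.rec (motive := fun _ => Nat) ((Bool.rec (motive := fun _ => Nat) (nl3 i) (nl4 i) (Nat.ble 4096 i))) ((Bool.rec (motive := fun _ => Nat) (nl5 i) (nl6 i) (Nat.ble 6144 i))) (Nat.ble 5120 i))
noncomputable def nd6 (i : Nat) : Nat := (Bool.rec (motive := fun _ => Nat) ((Bool.rec (motive := fun _ => Nat) (nl7 i) (nl8 i) (Nat.ble 8192 i))) ((Bool.rec (motive := fun _ => Nat) (nl9 i) (nl10 i) (Nat.ble 10240 i))) (Nat.ble 9216 i))
noncomputable def nd7 (i : Nat) : Nat := (Bool.rec (motive := fun _ => Nat) ((Bool.rec (motive := fun _ => Nat) (nl11 i) (nl12 i) (Nat.ble 12288 i))) ((Bool.rec (motive := fun _ => Nat) (nl13 i) (nl14 i) (Nat.ble 14336 i))) (Nat.ble 13312 i))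
noncomputable def nd3 (i : Nat) : Nat := (Bool.rec (motive := fun _ => Nat) ((Bool.rec (motive := fun _ => Nat) (nd4 i) (nd5 i) (Nat.ble 3072 i))) ((Bool.rec (motive := fun _ => Nat) (nd6 i) (nd7 i) (Nat.ble 11264 i))) (Nat.ble 7168 i))
noncomputable def nd9 (i : Nat) : Nat := (Bool.rec (motive := fun _ => Nat) ((Bool.rec (motive := fun _ => Nat) (nl15 i) (nl16 i) (Nat.ble 16384 i))) ((Bool.rec (motive := fun _ => Nat) (nl17 i) (nl18 i) (Nat.ble 18432 i))) (Nat.ble 17408 i))
noncomputable def nd10 (i : Nat) : Nat := (Bool.rec (motive := fun _ => Nat) ((Bool.rec (motive := fun _ => Nat) (nl19 i) (nl20 i) (Nat.ble 20480 i))) ((Bool.rec (motive := fun _ => Nat) (nl21 i) (nl22 i) (Nat.ble 22528 i))) (Nat.ble 21504 i))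
noncomputable def nd11 (i : Nat) : Nat := (Bool.rec (motive := fun _ => Nat) ((Bool.rec (motive := fun _ => Nat) (nl23 i) (nl24 i) (Nat.ble 24576 i))) ((Bool.rec (motive := fun _ => Nat) (nl25 i) (nl26 i) (Nat.ble 26624 i))) (Nat.ble 25600 i))
noncomputable def nd12 (i : Nat) : Nat := (Bool.rec (motive := fun _ => Nat) ((Bool.rec (motive := fun _ => Nat) (nl27 i) (nl28 i) (Nat.ble 28672 i))) ((Bool.rec (motive := fun _ => Nat) (nl29 i) (nl30 i) (Nat.ble 30720 i))) (Nat.ble 29696 i))
noncomputable def nd8 (i : Nat) : Nat := (Bool.rec (motive := fun _ => Nat) ((Bool.rec (motive := fun _ => Nat) (nd9 i) (nd10 i) (Nat.ble 19456 i))) ((Bool.rec (motive := fun _ => Nat) (nd11 i) (nd12 i) (Nat.ble 27648 i))) (Nat.ble 23552 i))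
noncomputable def nd14 (i : Nat) : Nat := (Bool.rec (motive := fun _ => Nat) ((Bool.rec (motive := fun _ => Nat) (nl31 i) (nl32 i) (Nat.ble 32768 i))) ((Bool.rec (motive := fun _ => Nat) (nl33 i) (nl34 i) (Nat.ble 34816 i))) (Nat.ble 33792 i))
noncomputable def nd15 (i : Nat) : Nat := (Bool.rec (motive := fun _ => Nat) ((Bool.rec (motive := fun _ => Nat) (nl35 i) (nl36 i) (Nat.ble 36864 i))) ((Bool.rec (motive := fun _ => Nat) (nl37 i) (nl38 i) (Nat.ble 38912 i))) (Nat.ble 37888 i))
noncomputable def nd16 (i : Nat) : Nat := (Bool.rec (motive := fun _ => Nat) ((Bool.rec (motive := fun _ => Nat) (nl39 i) (nl40 i) (Nat.ble 40960 i))) ((Bool.rec (motive := fun _ => Nat) (nl41 i) (nl42 i) (Nat.ble 43008 i))) (Nat.ble 41984 i))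
noncomputable def nd17 (i : Nat) : Nat := (Bool.rec (motive := fun _ => Nat) ((Bool.rec (motive := fun _ => Nat) (nl43 i) (nl44 i) (Nat.ble 45056 i))) ((Bool.rec (motive := fun _ => Nat) (nl45 i) (nl46 i) (Nat.ble 47104 i))) (Nat.ble 46080 i))
noncomputable def nd13 (i : Nat) : Nat := (Bool.rec (motive := fun _ => Nat) ((Bool.rec (motive := fun _ => Nat) (nd14 i) (nd15 i) (Nat.ble 35840 i))) ((Bool.rec (motive := fun _ => Nat) (nd16 i) (nd17 i) (Nat.ble 44032 i))) (Nat.ble 39936 i))
noncomputable def nd19 (i : Nat) : Nat := (Bool.rec (motive := fun _ => Nat) ((Bool.rec (motive := fun _ => Nat) (nl47 i) (nl48 i) (Nat.ble 49152 i))) ((Bool.rec (motive := fun _ => Nat) (nl49 i) (nl50 i) (Nat.ble 51200 i))) (Nat.ble 50176 i))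
noncomputable def nd20 (i : Nat) : Nat := (Bool.rec (motive := fun _ => Nat) ((Bool.rec (motive := fun _ => Nat) (nl51 i) (nl52 i) (Nat.ble 53248 i))) ((Bool.rec (motive := fun _ => Nat) (nl53 i) (nl54 i) (Nat.ble 55296 i))) (Nat.ble 54272 i))
noncomputable def nd21 (i : Nat) : Nat := (Bool.rec (motive := fun _ => Nat) ((Bool.rec (motive := fun _ => Nat) (nl55 i) (nl56 i) (Nat.ble 57344 i))) ((Bool.rec (motive := fun _ => Nat) (nl57 i) (nl58 i) (Nat.ble 59392 i))) (Nat.ble 58368 i))
noncomputable def nd22 (i : Nat) : Nat := (Bool.rec (motive := fun _ => Nat) ((Bool.rec (motive := fun _ => Nat) (nl59 i) (nl60 i) (Nat.ble 61440 i))) ((Bool.rec (motive := fun _ => Nat) (nl61 i) (nl62 i) (Nat.ble 63488 i))) (Nat.ble 62464 i))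
noncomputable def nd18 (i : Nat) : Nat := (Bool.rec (motive := fun _ => Nat) ((Bool.rec (motive := fun _ => Nat) (nd19 i) (nd20 i) (Nat.ble 52224 i))) ((Bool.rec (motive := fun _ => Nat) (nd21 i) (nd22 i) (Nat.ble 60416 i))) (Nat.ble 56320 i))
noncomputable def nd2 (i : Nat) : Nat := (Bool.rec (motive := fun _ => Nat) ((Bool.rec (motive := fun _ => Nat) (nd3 i) (nd8 i) (Nat.ble 15360 i))) ((Bool.rec (motive := fun _ => Nat) (nd13 i) (nd18 i) (Nat.ble 48128 i))) (Nat.ble 31744 i))
noncomputable def nd25 (i : Nat) : Nat := (Bool.rec (motive := fun _ => Nat) ((Bool.rec (motive := fun _ => Nat) (nl63 i) (nl64 i) (Nat.ble 65536 i))) ((Bool.rec (motive := fun _ => Nat) (nl65 i) (nl66 i) (Nat.ble 67584 i))) (Nat.ble 66560 i))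
noncomputable def nd26 (i : Nat) : Nat := (Bool.rec (motive := fun _ => Nat) ((Bool.rec (motive := fun _ => Nat) (nl67 i) (nl68 i) (Nat.ble 69632 i))) ((Bool.rec (motive := fun _ => Nat) (nl69 i) (nl70 i) (Nat.ble 71680 i))) (Nat.ble 70656 i))
noncomputable def nd27 (i : Nat) : Nat := (Bool.rec (motive := fun _ => Nat) ((Bool.rec (motive := fun _ => Nat) (nl71 i) (nl72 i) (Nat.ble 73728 i))) ((Bool.rec (motive := fun _ => Nat) (nl73 i) (nl74 i) (Nat.ble 75776 i))) (Nat.ble 74752 i))
noncomputable def nd28 (i : Nat) : Nat := (Bool.rec (motive := fun _ => Nat) ((Bool.rec (motive := fun _ => Nat) (nl75 i) (nl76 i) (Nat.ble 77824 i))) ((Bool.rec (motive := fun _ => Nat) (nl77 i) (nl78 i) (Nat.ble 79872 i))) (Nat.ble 78848 i))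
noncomputable def nd24 (i : Nat) : Nat := (Bool.rec (motive := fun _ => Nat) ((Bool.rec (motive := fun _ => Nat) (nd25 i) (nd26 i) (Nat.ble 68608 i))) ((Bool.rec (motive := fun _ => Nat) (nd27 i) (nd28 i) (Nat.ble 76800 i))) (Nat.ble 72704 i))
noncomputable def nd30 (i : Nat) : Nat := (Bool.rec (motive := fun _ => Nat) ((Bool.rec (motive := fun _ => Nat) (nl79 i) (nl80 i) (Nat.ble 81920 i))) ((Bool.rec (motive := fun _ => Nat) (nl81 i) (nl82 i) (Nat.ble 83968 i))) (Nat.ble 82944 i))
noncomputable def nd31 (i : Nat) : Nat := (Bool.rec (motive := fun _ => Nat) ((Bool.rec (motive := fun _ => Nat) (nl83 i) (nl84 i) (Nat.ble 86016 i))) ((Bool.rec (motive := fun _ => Nat) (nl85 i) (nl86 i) (Nat.ble 88064 i))) (Nat.ble 87040 i))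
noncomputable def nd32 (i : Nat) : Nat := (Bool.rec (motive := fun _ => Nat) ((Bool.rec (motive := fun _ => Nat) (nl87 i) (nl88 i) (Nat.ble 90112 i))) ((Bool.rec (motive := fun _ => Nat) (nl89 i) (nl90 i) (Nat.ble 92160 i))) (Nat.ble 91136 i))
noncomputable def nd33 (i : Nat) : Nat := (Bool.rec (motive := fun _ => Nat) ((Bool.rec (motive := fun _ => Nat) (nl91 i) (nl92 i) (Nat.ble 94208 i))) ((Bool.rec (motive := fun _ => Nat) (nl93 i) (nl94 i) (Nat.ble 96256 i))) (Nat.ble 95232 i))
noncomputable def nd29 (i : Nat) : Nat := (Bool.rec (motive := fun _ => Nat) ((Bool.rec (motive := fun _ => Nat) (nd30 i) (nd31 i) (Nat.ble 84992 i))) ((Bool.rec (motive := fun _ => Nat) (nd32 i) (nd33 i) (Nat.ble 93184 i))) (Nat.ble 89088 i))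
noncomputable def nd35 (i : Nat) : Nat := (Bool.rec (motive := fun _ => Nat) ((Bool.rec (motive := fun _ => Nat) (nl95 i) (nl96 i) (Nat.ble 98304 i))) ((Bool.rec (motive := fun _ => Nat) (nl97 i) (nl98 i) (Nat.ble 100352 i))) (Nat.ble 99328 i))
noncomputable def nd36 (i : Nat) : Nat := (Bool.rec (motive := fun _ => Nat) ((Bool.rec (motive := fun _ => Nat) (nl99 i) (nl100 i) (Nat.ble 102400 i))) ((Bool.rec (motive := fun _ => Nat) (nl101 i) (nl102 i) (Nat.ble 104448 i))) (Nat.ble 103424 i))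
noncomputable def nd37 (i : Nat) : Nat := (Bool.rec (motive := fun _ => Nat) ((Bool.rec (motive := fun _ => Nat) (nl103 i) (nl104 i) (Nat.ble 106496 i))) ((Bool.rec (motive := fun _ => Nat) (nl105 i) (nl106 i) (Nat.ble 108544 i))) (Nat.ble 107520 i))
noncomputable def nd38 (i : Nat) : Nat := (Bool.rec (motive := fun _ => Nat) ((Bool.rec (motive := fun _ => Nat) (nl107 i) (nl108 i) (Nat.ble 110592 i))) ((Bool.rec (motive := fun _ => Nat) (nl109 i) (nl110 i) (Nat.ble 112640 i))) (Nat.ble 111616 i))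
noncomputable def nd34 (i : Nat) : Nat := (Bool.rec (motive := fun _ => Nat) ((Bool.rec (motive := fun _ => Nat) (nd35 i) (nd36 i) (Nat.ble 101376 i))) ((Bool.rec (motive := fun _ => Nat) (nd37 i) (nd38 i) (Nat.ble 109568 i))) (Nat.ble 105472 i))
noncomputable def nd40 (i : Nat) : Nat := (Bool.rec (motive := fun _ => Nat) ((Bool.rec (motive := fun _ => Nat) (nl111 i) (nl112 i) (Nat.ble 114688 i))) ((Bool.rec (motive := fun _ => Nat) (nl113 i) (nl114 i) (Nat.ble 116736 i))) (Nat.ble 115712 i))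
noncomputable def nd41 (i : Nat) : Nat := (Bool.rec (motive := fun _ => Nat) ((Bool.rec (motive := fun _ => Nat) (nl115 i) (nl116 i) (Nat.ble 118784 i))) ((Bool.rec (motive := fun _ => Nat) (nl117 i) (nl118 i) (Nat.ble 120832 i))) (Nat.ble 119808 i))
noncomputable def nd42 (i : Nat) : Nat := (Bool.rec (motive := fun _ => Nat) ((Bool.rec (motive := fun _ => Nat) (nl119 i) (nl120 i) (Nat.ble 122880 i))) ((Bool.rec (motive := fun _ => Nat) (nl121 i) (nl122 i) (Nat.ble 124928 i))) (Nat.ble 123904 i))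
noncomputable def nd43 (i : Nat) : Nat := (Bool.rec (motive := fun _ => Nat) ((Bool.rec (motive := fun _ => Nat) (nl123 i) (nl124 i) (Nat.ble 126976 i))) ((Bool.rec (motive := fun _ => Nat) (nl125 i) (nl126 i) (Nat.ble 129024 i))) (Nat.ble 128000 i))
noncomputable def nd39 (i : Nat) : Nat := (Bool.rec (motive := fun _ => Nat) ((Bool.rec (motive := fun _ => Nat) (nd40 i) (nd41 i) (Nat.ble 117760 i))) ((Bool.rec (motive := fun _ => Nat) (nd42 i) (nd43 i) (Nat.ble 125952 i))) (Nat.ble 121856 i))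
noncomputable def nd23 (i : Nat) : Nat := (Bool.rec (motive := fun _ => Nat) ((Bool.rec (motive := fun _ => Nat) (nd24 i) (nd29 i) (Nat.ble 80896 i))) ((Bool.rec (motive := fun _ => Nat) (nd34 i) (nd39 i) (Nat.ble 113664 i))) (Nat.ble 97280 i))
noncomputable def nd46 (i : Nat) : Nat := (Bool.rec (motive := fun _ => Nat) ((Bool.rec (motive := fun _ => Nat) (nl127 i) (nl128 i) (Nat.ble 131072 i))) ((Bool.rec (motive := fun _ => Nat) (nl129 i) (nl130 i) (Nat.ble 133120 i))) (Nat.ble 132096 i))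
noncomputable def nd47 (i : Nat) : Nat := (Bool.rec (motive := fun _ => Nat) ((Bool.rec (motive := fun _ => Nat) (nl131 i) (nl132 i) (Nat.ble 135168 i))) ((Bool.rec (motive := fun _ => Nat) (nl133 i) (nl134 i) (Nat.ble 137216 i))) (Nat.ble 136192 i))
noncomputable def nd48 (i : Nat) : Nat := (Bool.rec (motive := fun _ => Nat) ((Bool.rec (motive := fun _ => Nat) (nl135 i) (nl136 i) (Nat.ble 139264 i))) ((Bool.rec (motive := fun _ => Nat) (nl137 i) (nl138 i) (Nat.ble 141312 i))) (Nat.ble 140288 i))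
noncomputable def nd49 (i : Nat) : Nat := (Bool.rec (motive := fun _ => Nat) ((Bool.rec (motive := fun _ => Nat) (nl139 i) (nl140 i) (Nat.ble 143360 i))) ((Bool.rec (motive := fun _ => Nat) (nl141 i) (nl142 i) (Nat.ble 145408 i))) (Nat.ble 144384 i))
noncomputable def nd45 (i : Nat) : Nat := (Bool.rec (motive := fun _ => Nat) ((Bool.rec (motive := fun _ => Nat) (nd46 i) (nd47 i) (Nat.ble 134144 i))) ((Bool.rec (motive := fun _ => Nat) (nd48 i) (nd49 i) (Nat.ble 142336 i))) (Nat.ble 138240 i))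
noncomputable def nd51 (i : Nat) : Nat := (Bool.rec (motive := fun _ => Nat) ((Bool.rec (motive := fun _ => Nat) (nl143 i) (nl144 i) (Nat.ble 147456 i))) ((Bool.rec (motive := fun _ => Nat) (nl145 i) (nl146 i) (Nat.ble 149504 i))) (Nat.ble 148480 i))
noncomputable def nd52 (i : Nat) : Nat := (Bool.rec (motive := fun _ => Nat) ((Bool.rec (motive := fun _ => Nat) (nl147 i) (nl148 i) (Nat.ble 151552 i))) ((Bool.rec (motive := fun _ => Nat) (nl149 i) (nl150 i) (Nat.ble 153600 i))) (Nat.ble 152576 i))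
noncomputable def nd53 (i : Nat) : Nat := (Bool.rec (motive := fun _ => Nat) ((Bool.rec (motive := fun _ => Nat) (nl151 i) (nl152 i) (Nat.ble 155648 i))) ((Bool.rec (motive := fun _ => Nat) (nl153 i) (nl154 i) (Nat.ble 157696 i))) (Nat.ble 156672 i))
noncomputable def nd54 (i : Nat) : Nat := (Bool.rec (motive := fun _ => Nat) ((Bool.rec (motive := fun _ => Nat) (nl155 i) (nl156 i) (Nat.ble 159744 i))) ((Bool.rec (motive := fun _ => Nat) (nl157 i) (nl158 i) (Nat.ble 161792 i))) (Nat.ble 160768 i))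
noncomputable def nd50 (i : Nat) : Nat := (Bool.rec (motive := fun _ => Nat) ((Bool.rec (motive := fun _ => Nat) (nd51 i) (nd52 i) (Nat.ble 150528 i))) ((Bool.rec (motive := fun _ => Nat) (nd53 i) (nd54 i) (Nat.ble 158720 i))) (Nat.ble 154624 i))
noncomputable def nd56 (i : Nat) : Nat := (Bool.rec (motive := fun _ => Nat) ((Bool.rec (motive := fun _ => Nat) (nl159 i) (nl160 i) (Nat.ble 163840 i))) ((Bool.rec (motive := fun _ => Nat) (nl161 i) (nl162 i) (Nat.ble 165888 i))) (Nat.ble 164864 i))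
noncomputable def nd57 (i : Nat) : Nat := (Bool.rec (motive := fun _ => Nat) ((Bool.rec (motive := fun _ => Nat) (nl163 i) (nl164 i) (Nat.ble 167936 i))) ((Bool.rec (motive := fun _ => Nat) (nl165 i) (nl166 i) (Nat.ble 169984 i))) (Nat.ble 168960 i))
noncomputable def nd58 (i : Nat) : Nat := (Bool.rec (motive := fun _ => Nat) ((Bool.rec (motive := fun _ => Nat) (nl167 i) (nl168 i) (Nat.ble 172032 i))) ((Bool.rec (motive := fun _ => Nat) (nl169 i) (nl170 i) (Nat.ble 174080 i))) (Nat.ble 173056 i))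
noncomputable def nd59 (i : Nat) : Nat := (Bool.rec (motive := fun _ => Nat) ((Bool.rec (motive := fun _ => Nat) (nl171 i) (nl172 i) (Nat.ble 176128 i))) ((Bool.rec (motive := fun _ => Nat) (nl173 i) (nl174 i) (Nat.ble 178176 i))) (Nat.ble 177152 i))
noncomputable def nd55 (i : Nat) : Nat := (Bool.rec (motive := fun _ => Nat) ((Bool.rec (motive := fun _ => Nat) (nd56 i) (nd57 i) (Nat.ble 166912 i))) ((Bool.rec (motive := fun _ => Nat) (nd58 i) (nd59 i) (Nat.ble 175104 i))) (Nat.ble 171008 i))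
noncomputable def nd61 (i : Nat) : Nat := (Bool.rec (motive := fun _ => Nat) ((Bool.rec (motive := fun _ => Nat) (nl175 i) (nl176 i) (Nat.ble 180224 i))) ((Bool.rec (motive := fun _ => Nat) (nl177 i) (nl178 i) (Nat.ble 182272 i))) (Nat.ble 181248 i))
noncomputable def nd62 (i : Nat) : Nat := (Bool.rec (motive := fun _ => Nat) ((Bool.rec (motive := fun _ => Nat) (nl179 i) (nl180 i) (Nat.ble 184320 i))) ((Bool.rec (motive := fun _ => Nat) (nl181 i) (nl182 i) (Nat.ble 186368 i))) (Nat.ble 185344 i))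
noncomputable def nd63 (i : Nat) : Nat := (Bool.rec (motive := fun _ => Nat) ((Bool.rec (motive := fun _ => Nat) (nl183 i) (nl184 i) (Nat.ble 188416 i))) ((Bool.rec (motive := fun _ => Nat) (nl185 i) (nl186 i) (Nat.ble 190464 i))) (Nat.ble 189440 i))
noncomputable def nd64 (i : Nat) : Nat := (Bool.rec (motive := fun _ => Nat) ((Bool.rec (motive := fun _ => Nat) (nl187 i) (nl188 i) (Nat.ble 192512 i))) ((Bool.rec (motive := fun _ => Nat) (nl189 i) (nl190 i) (Nat.ble 194560 i))) (Nat.ble 193536 i))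
noncomputable def nd60 (i : Nat) : Nat := (Bool.rec (motive := fun _ => Nat) ((Bool.rec (motive := fun _ => Nat) (nd61 i) (nd62 i) (Nat.ble 183296 i))) ((Bool.rec (motive := fun _ => Nat) (nd63 i) (nd64 i) (Nat.ble 191488 i))) (Nat.ble 187392 i))
noncomputable def nd44 (i : Nat) : Nat := (Bool.rec (motive := fun _ => Nat) ((Bool.rec (motive := fun _ => Nat) (nd45 i) (nd50 i) (Nat.ble 146432 i))) ((Bool.rec (motive := fun _ => Nat) (nd55 i) (nd60 i) (Nat.ble 179200 i))) (Nat.ble 162816 i))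
noncomputable def nd67 (i : Nat) : Nat := (Bool.rec (motive := fun _ => Nat) ((Bool.rec (motive := fun _ => Nat) (nl191 i) (nl192 i) (Nat.ble 196608 i))) ((Bool.rec (motive := fun _ => Nat) (nl193 i) (nl194 i) (Nat.ble 198656 i))) (Nat.ble 197632 i))
noncomputable def nd68 (i : Nat) : Nat := (Bool.rec (motive := fun _ => Nat) ((Bool.rec (motive := fun _ => Nat) (nl195 i) (nl196 i) (Nat.ble 200704 i))) ((Bool.rec (motive := fun _ => Nat) (nl197 i) (nl198 i) (Nat.ble 202752 i))) (Nat.ble 201728 i))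
noncomputable def nd69 (i : Nat) : Nat := (Bool.rec (motive := fun _ => Nat) ((Bool.rec (motive := fun _ => Nat) (nl199 i) (nl200 i) (Nat.ble 204800 i))) ((Bool.rec (motive := fun _ => Nat) (nl201 i) (nl202 i) (Nat.ble 206848 i))) (Nat.ble 205824 i))
noncomputable def nd70 (i : Nat) : Nat := (Bool.rec (motive := fun _ => Nat) ((Bool.rec (motive := fun _ => Nat) (nl203 i) (nl204 i) (Nat.ble 208896 i))) ((Bool.rec (motive := fun _ => Nat) (nl205 i) (nl206 i) (Nat.ble 210944 i))) (Nat.ble 209920 i))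
noncomputable def nd66 (i : Nat) : Nat := (Bool.rec (motive := fun _ => Nat) ((Bool.rec (motive := fun _ => Nat) (nd67 i) (nd68 i) (Nat.ble 199680 i))) ((Bool.rec (motive := fun _ => Nat) (nd69 i) (nd70 i) (Nat.ble 207872 i))) (Nat.ble 203776 i))
noncomputable def nd72 (i : Nat) : Nat := (Bool.rec (motive := fun _ => Nat) ((Bool.rec (motive := fun _ => Nat) (nl207 i) (nl208 i) (Nat.ble 212992 i))) ((Bool.rec (motive := fun _ => Nat) (nl209 i) (nl210 i) (Nat.ble 215040 i))) (Nat.ble 214016 i))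
noncomputable def nd73 (i : Nat) : Nat := (Bool.rec (motive := fun _ => Nat) ((Bool.rec (motive := fun _ => Nat) (nl211 i) (nl212 i) (Nat.ble 217088 i))) ((Bool.rec (motive := fun _ => Nat) (nl213 i) (nl214 i) (Nat.ble 219136 i))) (Nat.ble 218112 i))
noncomputable def nd74 (i : Nat) : Nat := (Bool.rec (motive := fun _ => Nat) ((Bool.rec (motive := fun _ => Nat) (nl215 i) (nl216 i) (Nat.ble 221184 i))) ((Bool.rec (motive := fun _ => Nat) (nl217 i) (nl218 i) (Nat.ble 223232 i))) (Nat.ble 222208 i))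
noncomputable def nd75 (i : Nat) : Nat := (Bool.rec (motive := fun _ => Nat) ((Bool.rec (motive := fun _ => Nat) (nl219 i) (nl220 i) (Nat.ble 225280 i))) ((Bool.rec (motive := fun _ => Nat) (nl221 i) (nl222 i) (Nat.ble 227328 i))) (Nat.ble 226304 i))
noncomputable def nd71 (i : Nat) : Nat := (Bool.rec (motive := fun _ => Nat) ((Bool.rec (motive := fun _ => Nat) (nd72 i) (nd73 i) (Nat.ble 216064 i))) ((Bool.rec (motive := fun _ => Nat) (nd74 i) (nd75 i) (Nat.ble 224256 i))) (Nat.ble 220160 i))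
noncomputable def nd77 (i : Nat) : Nat := (Bool.rec (motive := fun _ => Nat) ((Bool.rec (motive := fun _ => Nat) (nl223 i) (nl224 i) (Nat.ble 229376 i))) ((Bool.rec (motive := fun _ => Nat) (nl225 i) (nl226 i) (Nat.ble 231424 i))) (Nat.ble 230400 i))
noncomputable def nd78 (i : Nat) : Nat := (Bool.rec (motive := fun _ => Nat) ((Bool.rec (motive := fun _ => Nat) (nl227 i) (nl228 i) (Nat.ble 233472 i))) ((Bool.rec (motive := fun _ => Nat) (nl229 i) (nl230 i) (Nat.ble 235520 i))) (Nat.ble 234496 i))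
noncomputable def nd79 (i : Nat) : Nat := (Bool.rec (motive := fun _ => Nat) ((Bool.rec (motive := fun _ => Nat) (nl231 i) (nl232 i) (Nat.ble 237568 i))) ((Bool.rec (motive := fun _ => Nat) (nl233 i) (nl234 i) (Nat.ble 239616 i))) (Nat.ble 238592 i))
noncomputable def nd80 (i : Nat) : Nat := (Bool.rec (motive := fun _ => Nat) ((Bool.rec (motive := fun _ => Nat) (nl235 i) (nl236 i) (Nat.ble 241664 i))) ((Bool.rec (motive := fun _ => Nat) (nl237 i) (nl238 i) (Nat.ble 243712 i))) (Nat.ble 242688 i))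
noncomputable def nd76 (i : Nat) : Nat := (Bool.rec (motive := fun _ => Nat) ((Bool.rec (motive := fun _ => Nat) (nd77 i) (nd78 i) (Nat.ble 232448 i))) ((Bool.rec (motive := fun _ => Nat) (nd79 i) (nd80 i) (Nat.ble 240640 i))) (Nat.ble 236544 i))
noncomputable def nd82 (i : Nat) : Nat := (Bool.rec (motive := fun _ => Nat) ((Bool.rec (motive := fun _ => Nat) (nl239 i) (nl240 i) (Nat.ble 245760 i))) ((Bool.rec (motive := fun _ => Nat) (nl241 i) (nl242 i) (Nat.ble 247808 i))) (Nat.ble 246784 i))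
noncomputable def nd83 (i : Nat) : Nat := (Bool.rec (motive := fun _ => Nat) ((Bool.rec (motive := fun _ => Nat) (nl243 i) (nl244 i) (Nat.ble 249856 i))) ((Bool.rec (motive := fun _ => Nat) (nl245 i) (nl246 i) (Nat.ble 251904 i))) (Nat.ble 250880 i))
noncomputable def nd84 (i : Nat) : Nat := (Bool.rec (motive := fun _ => Nat) ((Bool.rec (motive := fun _ => Nat) (nl247 i) (nl248 i) (Nat.ble 253952 i))) ((Bool.rec (motive := fun _ => Nat) (nl249 i) (nl250 i) (Nat.ble 256000 i))) (Nat.ble 254976 i))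
noncomputable def nd85 (i : Nat) : Nat := (Bool.rec (motive := fun _ => Nat) ((Bool.rec (motive := fun _ => Nat) (nl251 i) (nl252 i) (Nat.ble 258048 i))) ((Bool.rec (motive := fun _ => Nat) (nl253 i) (nl254 i) (Nat.ble 260096 i))) (Nat.ble 259072 i))
noncomputable def nd81 (i : Nat) : Nat := (Bool.rec (motive := fun _ => Nat) ((Bool.rec (motive := fun _ => Nat) (nd82 i) (nd83 i) (Nat.ble 248832 i))) ((Bool.rec (motive := fun _ => Nat) (nd84 i) (nd85 i) (Nat.ble 257024 i))) (Nat.ble 252928 i))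
noncomputable def nd65 (i : Nat) : Nat := (Bool.rec (motive := fun _ => Nat) ((Bool.rec (motive := fun _ => Nat) (nd66 i) (nd71 i) (Nat.ble 211968 i))) ((Bool.rec (motive := fun _ => Nat) (nd76 i) (nd81 i) (Nat.ble 244736 i))) (Nat.ble 228352 i))
noncomputable def nd1 (i : Nat) : Nat := (Bool.rec (motive := fun _ => Nat) ((Bool.rec (motive := fun _ => Nat) (nd2 i) (nd23 i) (Nat.ble 64512 i))) ((Bool.rec (motive := fun _ => Nat) (nd44 i) (nd65 i) (Nat.ble 195584 i))) (Nat.ble 130048 i))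
noncomputable def nd89 (i : Nat) : Nat := (Bool.rec (motive := fun _ => Nat) (nl255 i) ((Bool.rec (motive := fun _ => Nat) (nl256 i) (nl257 i) (Nat.ble 263168 i))) (Nat.ble 262144 i))
noncomputable def nd90 (i : Nat) : Nat := (Bool.rec (motive := fun _ => Nat) ((Bool.rec (motive := fun _ => Nat) (nl258 i) (nl259 i) (Nat.ble 265216 i))) ((Bool.rec (motive := fun _ => Nat) (nl260 i) (nl261 i) (Nat.ble 267264 i))) (Nat.ble 266240 i))
noncomputable def nd91 (i : Nat) : Nat := (Bool.rec (motive := fun _ => Nat) ((Bool.rec (motive := fun _ => Nat) (nl262 i) (nl263 i) (Nat.ble 269312 i))) ((Bool.rec (motive := fun _ => Nat) (nl264 i) (nl265 i) (Nat.ble 271360 i))) (Nat.ble 270336 i))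
noncomputable def nd92 (i : Nat) : Nat := (Bool.rec (motive := fun _ => Nat) ((Bool.rec (motive := fun _ => Nat) (nl266 i) (nl267 i) (Nat.ble 273408 i))) ((Bool.rec (motive := fun _ => Nat) (nl268 i) (nl269 i) (Nat.ble 275456 i))) (Nat.ble 274432 i))
noncomputable def nd88 (i : Nat) : Nat := (Bool.rec (motive := fun _ => Nat) ((Bool.rec (motive := fun _ => Nat) (nd89 i) (nd90 i) (Nat.ble 264192 i))) ((Bool.rec (motive := fun _ => Nat) (nd91 i) (nd92 i) (Nat.ble 272384 i))) (Nat.ble 268288 i))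
noncomputable def nd94 (i : Nat) : Nat := (Bool.rec (motive := fun _ => Nat) ((Bool.rec (motive := fun _ => Nat) (nl270 i) (nl271 i) (Nat.ble 277504 i))) ((Bool.rec (motive := fun _ => Nat) (nl272 i) (nl273 i) (Nat.ble 279552 i))) (Nat.ble 278528 i))
noncomputable def nd95 (i : Nat) : Nat := (Bool.rec (motive := fun _ => Nat) ((Bool.rec (motive := fun _ => Nat) (nl274 i) (nl275 i) (Nat.ble 281600 i))) ((Bool.rec (motive := fun _ => Nat) (nl276 i) (nl277 i) (Nat.ble 283648 i))) (Nat.ble 282624 i))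
noncomputable def nd96 (i : Nat) : Nat := (Bool.rec (motive := fun _ => Nat) ((Bool.rec (motive := fun _ => Nat) (nl278 i) (nl279 i) (Nat.ble 285696 i))) ((Bool.rec (motive := fun _ => Nat) (nl280 i) (nl281 i) (Nat.ble 287744 i))) (Nat.ble 286720 i))
noncomputable def nd97 (i : Nat) : Nat := (Bool.rec (motive := fun _ => Nat) ((Bool.rec (motive := fun _ => Nat) (nl282 i) (nl283 i) (Nat.ble 289792 i))) ((Bool.rec (motive := fun _ => Nat) (nl284 i) (nl285 i) (Nat.ble 291840 i))) (Nat.ble 290816 i))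
noncomputable def nd93 (i : Nat) : Nat := (Bool.rec (motive := fun _ => Nat) ((Bool.rec (motive := fun _ => Nat) (nd94 i) (nd95 i) (Nat.ble 280576 i))) ((Bool.rec (motive := fun _ => Nat) (nd96 i) (nd97 i) (Nat.ble 288768 i))) (Nat.ble 284672 i))
noncomputable def nd99 (i : Nat) : Nat := (Bool.rec (motive := fun _ => Nat) ((Bool.rec (motive := fun _ => Nat) (nl286 i) (nl287 i) (Nat.ble 293888 i))) ((Bool.rec (motive := fun _ => Nat) (nl288 i) (nl289 i) (Nat.ble 295936 i))) (Nat.ble 294912 i))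
noncomputable def nd100 (i : Nat) : Nat := (Bool.rec (motive := fun _ => Nat) ((Bool.rec (motive := fun _ => Nat) (nl290 i) (nl291 i) (Nat.ble 297984 i))) ((Bool.rec (motive := fun _ => Nat) (nl292 i) (nl293 i) (Nat.ble 300032 i))) (Nat.ble 299008 i))
noncomputable def nd101 (i : Nat) : Nat := (Bool.rec (motive := fun _ => Nat) ((Bool.rec (motive := fun _ => Nat) (nl294 i) (nl295 i) (Nat.ble 302080 i))) ((Bool.rec (motive := fun _ => Nat) (nl296 i) (nl297 i) (Nat.ble 304128 i))) (Nat.ble 303104 i))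
noncomputable def nd102 (i : Nat) : Nat := (Bool.rec (motive := fun _ => Nat) ((Bool.rec (motive := fun _ => Nat) (nl298 i) (nl299 i) (Nat.ble 306176 i))) ((Bool.rec (motive := fun _ => Nat) (nl300 i) (nl301 i) (Nat.ble 308224 i))) (Nat.ble 307200 i))
noncomputable def nd98 (i : Nat) : Nat := (Bool.rec (motive := fun _ => Nat) ((Bool.rec (motive := fun _ => Nat) (nd99 i) (nd100 i) (Nat.ble 296960 i))) ((Bool.rec (motive := fun _ => Nat) (nd101 i) (nd102 i) (Nat.ble 305152 i))) (Nat.ble 301056 i))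
noncomputable def nd104 (i : Nat) : Nat := (Bool.rec (motive := fun _ => Nat) ((Bool.rec (motive := fun _ => Nat) (nl302 i) (nl303 i) (Nat.ble 310272 i))) ((Bool.rec (motive := fun _ => Nat) (nl304 i) (nl305 i) (Nat.ble 312320 i))) (Nat.ble 311296 i))
noncomputable def nd105 (i : Nat) : Nat := (Bool.rec (motive := fun _ => Nat) ((Bool.rec (motive := fun _ => Nat) (nl306 i) (nl307 i) (Nat.ble 314368 i))) ((Bool.rec (motive := fun _ => Nat) (nl308 i) (nl309 i) (Nat.ble 316416 i))) (Nat.ble 315392 i))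
noncomputable def nd106 (i : Nat) : Nat := (Bool.rec (motive := fun _ => Nat) ((Bool.rec (motive := fun _ => Nat) (nl310 i) (nl311 i) (Nat.ble 318464 i))) ((Bool.rec (motive := fun _ => Nat) (nl312 i) (nl313 i) (Nat.ble 320512 i))) (Nat.ble 319488 i))
noncomputable def nd107 (i : Nat) : Nat := (Bool.rec (motive := fun _ => Nat) ((Bool.rec (motive := fun _ => Nat) (nl314 i) (nl315 i) (Nat.ble 322560 i))) ((Bool.rec (motive := fun _ => Nat) (nl316 i) (nl317 i) (Nat.ble 324608 i))) (Nat.ble 323584 i))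
noncomputable def nd103 (i : Nat) : Nat := (Bool.rec (motive := fun _ => Nat) ((Bool.rec (motive := fun _ => Nat) (nd104 i) (nd105 i) (Nat.ble 313344 i))) ((Bool.rec (motive := fun _ => Nat) (nd106 i) (nd107 i) (Nat.ble 321536 i))) (Nat.ble 317440 i))
noncomputable def nd87 (i : Nat) : Nat := (Bool.rec (motive := fun _ => Nat) ((Bool.rec (motive := fun _ => Nat) (nd88 i) (nd93 i) (Nat.ble 276480 i))) ((Bool.rec (motive := fun _ => Nat) (nd98 i) (nd103 i) (Nat.ble 309248 i))) (Nat.ble 292864 i))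
noncomputable def nd110 (i : Nat) : Nat := (Bool.rec (motive := fun _ => Nat) ((Bool.rec (motive := fun _ => Nat) (nl318 i) (nl319 i) (Nat.ble 326656 i))) ((Bool.rec (motive := fun _ => Nat) (nl320 i) (nl321 i) (Nat.ble 328704 i))) (Nat.ble 327680 i))
noncomputable def nd111 (i : Nat) : Nat := (Bool.rec (motive := fun _ => Nat) ((Bool.rec (motive := fun _ => Nat) (nl322 i) (nl323 i) (Nat.ble 330752 i))) ((Bool.rec (motive := fun _ => Nat) (nl324 i) (nl325 i) (Nat.ble 332800 i))) (Nat.ble 331776 i))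
noncomputable def nd112 (i : Nat) : Nat := (Bool.rec (motive := fun _ => Nat) ((Bool.rec (motive := fun _ => Nat) (nl326 i) (nl327 i) (Nat.ble 334848 i))) ((Bool.rec (motive := fun _ => Nat) (nl328 i) (nl329 i) (Nat.ble 336896 i))) (Nat.ble 335872 i))
noncomputable def nd113 (i : Nat) : Nat := (Bool.rec (motive := fun _ => Nat) ((Bool.rec (motive := fun _ => Nat) (nl330 i) (nl331 i) (Nat.ble 338944 i))) ((Bool.rec (motive := fun _ => Nat) (nl332 i) (nl333 i) (Nat.ble 340992 i))) (Nat.ble 339968 i))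
noncomputable def nd109 (i : Nat) : Nat := (Bool.rec (motive := fun _ => Nat) ((Bool.rec (motive := fun _ => Nat) (nd110 i) (nd111 i) (Nat.ble 329728 i))) ((Bool.rec (motive := fun _ => Nat) (nd112 i) (nd113 i) (Nat.ble 337920 i))) (Nat.ble 333824 i))
noncomputable def nd115 (i : Nat) : Nat := (Bool.rec (motive := fun _ => Nat) ((Bool.rec (motive := fun _ => Nat) (nl334 i) (nl335 i) (Nat.ble 343040 i))) ((Bool.rec (motive := fun _ => Nat) (nl336 i) (nl337 i) (Nat.ble 345088 i))) (Nat.ble 344064 i))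
noncomputable def nd116 (i : Nat) : Nat := (Bool.rec (motive := fun _ => Nat) ((Bool.rec (motive := fun _ => Nat) (nl338 i) (nl339 i) (Nat.ble 347136 i))) ((Bool.rec (motive := fun _ => Nat) (nl340 i) (nl341 i) (Nat.ble 349184 i))) (Nat.ble 348160 i))
noncomputable def nd117 (i : Nat) : Nat := (Bool.rec (motive := fun _ => Nat) ((Bool.rec (motive := fun _ => Nat) (nl342 i) (nl343 i) (Nat.ble 351232 i))) ((Bool.rec (motive := fun _ => Nat) (nl344 i) (nl345 i) (Nat.ble 353280 i))) (Nat.ble 352256 i))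
noncomputable def nd118 (i : Nat) : Nat := (Bool.rec (motive := fun _ => Nat) ((Bool.rec (motive := fun _ => Nat) (nl346 i) (nl347 i) (Nat.ble 355328 i))) ((Bool.rec (motive := fun _ => Nat) (nl348 i) (nl349 i) (Nat.ble 357376 i))) (Nat.ble 356352 i))
noncomputable def nd114 (i : Nat) : Nat := (Bool.rec (motive := fun _ => Nat) ((Bool.rec (motive := fun _ => Nat) (nd115 i) (nd116 i) (Nat.ble 346112 i))) ((Bool.rec (motive := fun _ => Nat) (nd117 i) (nd118 i) (Nat.ble 354304 i))) (Nat.ble 350208 i))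
noncomputable def nd120 (i : Nat) : Nat := (Bool.rec (motive := fun _ => Nat) ((Bool.rec (motive := fun _ => Nat) (nl350 i) (nl351 i) (Nat.ble 359424 i))) ((Bool.rec (motive := fun _ => Nat) (nl352 i) (nl353 i) (Nat.ble 361472 i))) (Nat.ble 360448 i))
noncomputable def nd121 (i : Nat) : Nat := (Bool.rec (motive := fun _ => Nat) ((Bool.rec (motive := fun _ => Nat) (nl354 i) (nl355 i) (Nat.ble 363520 i))) ((Bool.rec (motive := fun _ => Nat) (nl356 i) (nl357 i) (Nat.ble 365568 i))) (Nat.ble 364544 i))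
noncomputable def nd122 (i : Nat) : Nat := (Bool.rec (motive := fun _ => Nat) ((Bool.rec (motive := fun _ => Nat) (nl358 i) (nl359 i) (Nat.ble 367616 i))) ((Bool.rec (motive := fun _ => Nat) (nl360 i) (nl361 i) (Nat.ble 369664 i))) (Nat.ble 368640 i))
noncomputable def nd123 (i : Nat) : Nat := (Bool.rec (motive := fun _ => Nat) ((Bool.rec (motive := fun _ => Nat) (nl362 i) (nl363 i) (Nat.ble 371712 i))) ((Bool.rec (motive := fun _ => Nat) (nl364 i) (nl365 i) (Nat.ble 373760 i))) (Nat.ble 372736 i))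
noncomputable def nd119 (i : Nat) : Nat := (Bool.rec (motive := fun _ => Nat) ((Bool.rec (motive := fun _ => Nat) (nd120 i) (nd121 i) (Nat.ble 362496 i))) ((Bool.rec (motive := fun _ => Nat) (nd122 i) (nd123 i) (Nat.ble 370688 i))) (Nat.ble 366592 i))
noncomputable def nd125 (i : Nat) : Nat := (Bool.rec (motive := fun _ => Nat) ((Bool.rec (motive := fun _ => Nat) (nl366 i) (nl367 i) (Nat.ble 375808 i))) ((Bool.rec (motive := fun _ => Nat) (nl368 i) (nl369 i) (Nat.ble 377856 i))) (Nat.ble 376832 i))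
noncomputable def nd126 (i : Nat) : Nat := (Bool.rec (motive := fun _ => Nat) ((Bool.rec (motive := fun _ => Nat) (nl370 i) (nl371 i) (Nat.ble 379904 i))) ((Bool.rec (motive := fun _ => Nat) (nl372 i) (nl373 i) (Nat.ble 381952 i))) (Nat.ble 380928 i))
noncomputable def nd127 (i : Nat) : Nat := (Bool.rec (motive := fun _ => Nat) ((Bool.rec (motive := fun _ => Nat) (nl374 i) (nl375 i) (Nat.ble 384000 i))) ((Bool.rec (motive := fun _ => Nat) (nl376 i) (nl377 i) (Nat.ble 386048 i))) (Nat.ble 385024 i))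
noncomputable def nd128 (i : Nat) : Nat := (Bool.rec (motive := fun _ => Nat) ((Bool.rec (motive := fun _ => Nat) (nl378 i) (nl379 i) (Nat.ble 388096 i))) ((Bool.rec (motive := fun _ => Nat) (nl380 i) (nl381 i) (Nat.ble 390144 i))) (Nat.ble 389120 i))
noncomputable def nd124 (i : Nat) : Nat := (Bool.rec (motive := fun _ => Nat) ((Bool.rec (motive := fun _ => Nat) (nd125 i) (nd126 i) (Nat.ble 378880 i))) ((Bool.rec (motive := fun _ => Nat) (nd127 i) (nd128 i) (Nat.ble 387072 i))) (Nat.ble 382976 i))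
noncomputable def nd108 (i : Nat) : Nat := (Bool.rec (motive := fun _ => Nat) ((Bool.rec (motive := fun _ => Nat) (nd109 i) (nd114 i) (Nat.ble 342016 i))) ((Bool.rec (motive := fun _ => Nat) (nd119 i) (nd124 i) (Nat.ble 374784 i))) (Nat.ble 358400 i))
noncomputable def nd131 (i : Nat) : Nat := (Bool.rec (motive := fun _ => Nat) ((Bool.rec (motive := fun _ => Nat) (nl382 i) (nl383 i) (Nat.ble 392192 i))) ((Bool.rec (motive := fun _ => Nat) (nl384 i) (nl385 i) (Nat.ble 394240 i))) (Nat.ble 393216 i))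
noncomputable def nd132 (i : Nat) : Nat := (Bool.rec (motive := fun _ => Nat) ((Bool.rec (motive := fun _ => Nat) (nl386 i) (nl387 i) (Nat.ble 396288 i))) ((Bool.rec (motive := fun _ => Nat) (nl388 i) (nl389 i) (Nat.ble 398336 i))) (Nat.ble 397312 i))
noncomputable def nd133 (i : Nat) : Nat := (Bool.rec (motive := fun _ => Nat) ((Bool.rec (motive := fun _ => Nat) (nl390 i) (nl391 i) (Nat.ble 400384 i))) ((Bool.rec (motive := fun _ => Nat) (nl392 i) (nl393 i) (Nat.ble 402432 i))) (Nat.ble 401408 i))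
noncomputable def nd134 (i : Nat) : Nat := (Bool.rec (motive := fun _ => Nat) ((Bool.rec (motive := fun _ => Nat) (nl394 i) (nl395 i) (Nat.ble 404480 i))) ((Bool.rec (motive := fun _ => Nat) (nl396 i) (nl397 i) (Nat.ble 406528 i))) (Nat.ble 405504 i))
noncomputable def nd130 (i : Nat) : Nat := (Bool.rec (motive := fun _ => Nat) ((Bool.rec (motive := fun _ => Nat) (nd131 i) (nd132 i) (Nat.ble 395264 i))) ((Bool.rec (motive := fun _ => Nat) (nd133 i) (nd134 i) (Nat.ble 403456 i))) (Nat.ble 399360 i))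
noncomputable def nd136 (i : Nat) : Nat := (Bool.rec (motive := fun _ => Nat) ((Bool.rec (motive := fun _ => Nat) (nl398 i) (nl399 i) (Nat.ble 408576 i))) ((Bool.rec (motive := fun _ => Nat) (nl400 i) (nl401 i) (Nat.ble 410624 i))) (Nat.ble 409600 i))
noncomputable def nd137 (i : Nat) : Nat := (Bool.rec (motive := fun _ => Nat) ((Bool.rec (motive := fun _ => Nat) (nl402 i) (nl403 i) (Nat.ble 412672 i))) ((Bool.rec (motive := fun _ => Nat) (nl404 i) (nl405 i) (Nat.ble 414720 i))) (Nat.ble 413696 i))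
noncomputable def nd138 (i : Nat) : Nat := (Bool.rec (motive := fun _ => Nat) ((Bool.rec (motive := fun _ => Nat) (nl406 i) (nl407 i) (Nat.ble 416768 i))) ((Bool.rec (motive := fun _ => Nat) (nl408 i) (nl409 i) (Nat.ble 418816 i))) (Nat.ble 417792 i))
noncomputable def nd139 (i : Nat) : Nat := (Bool.rec (motive := fun _ => Nat) ((Bool.rec (motive := fun _ => Nat) (nl410 i) (nl411 i) (Nat.ble 420864 i))) ((Bool.rec (motive := fun _ => Nat) (nl412 i) (nl413 i) (Nat.ble 422912 i))) (Nat.ble 421888 i))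
noncomputable def nd135 (i : Nat) : Nat := (Bool.rec (motive := fun _ => Nat) ((Bool.rec (motive := fun _ => Nat) (nd136 i) (nd137 i) (Nat.ble 411648 i))) ((Bool.rec (motive := fun _ => Nat) (nd138 i) (nd139 i) (Nat.ble 419840 i))) (Nat.ble 415744 i))
noncomputable def nd141 (i : Nat) : Nat := (Bool.rec (motive := fun _ => Nat) ((Bool.rec (motive := fun _ => Nat) (nl414 i) (nl415 i) (Nat.ble 424960 i))) ((Bool.rec (motive := fun _ => Nat) (nl416 i) (nl417 i) (Nat.ble 427008 i))) (Nat.ble 425984 i))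
noncomputable def nd142 (i : Nat) : Nat := (Bool.rec (motive := fun _ => Nat) ((Bool.rec (motive := fun _ => Nat) (nl418 i) (nl419 i) (Nat.ble 429056 i))) ((Bool.rec (motive := fun _ => Nat) (nl420 i) (nl421 i) (Nat.ble 431104 i))) (Nat.ble 430080 i))
noncomputable def nd143 (i : Nat) : Nat := (Bool.rec (motive := fun _ => Nat) ((Bool.rec (motive := fun _ => Nat) (nl422 i) (nl423 i) (Nat.ble 433152 i))) ((Bool.rec (motive := fun _ => Nat) (nl424 i) (nl425 i) (Nat.ble 435200 i))) (Nat.ble 434176 i))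
noncomputable def nd144 (i : Nat) : Nat := (Bool.rec (motive := fun _ => Nat) ((Bool.rec (motive := fun _ => Nat) (nl426 i) (nl427 i) (Nat.ble 437248 i))) ((Bool.rec (motive := fun _ => Nat) (nl428 i) (nl429 i) (Nat.ble 439296 i))) (Nat.ble 438272 i))
noncomputable def nd140 (i : Nat) : Nat := (Bool.rec (motive := fun _ => Nat) ((Bool.rec (motive := fun _ => Nat) (nd141 i) (nd142 i) (Nat.ble 428032 i))) ((Bool.rec (motive := fun _ => Nat) (nd143 i) (nd144 i) (Nat.ble 436224 i))) (Nat.ble 432128 i))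
noncomputable def nd146 (i : Nat) : Nat := (Bool.rec (motive := fun _ => Nat) ((Bool.rec (motive := fun _ => Nat) (nl430 i) (nl431 i) (Nat.ble 441344 i))) ((Bool.rec (motive := fun _ => Nat) (nl432 i) (nl433 i) (Nat.ble 443392 i))) (Nat.ble 442368 i))
noncomputable def nd147 (i : Nat) : Nat := (Bool.rec (motive := fun _ => Nat) ((Bool.rec (motive := fun _ => Nat) (nl434 i) (nl435 i) (Nat.ble 445440 i))) ((Bool.rec (motive := fun _ => Nat) (nl436 i) (nl437 i) (Nat.ble 447488 i))) (Nat.ble 446464 i))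
noncomputable def nd148 (i : Nat) : Nat := (Bool.rec (motive := fun _ => Nat) ((Bool.rec (motive := fun _ => Nat) (nl438 i) (nl439 i) (Nat.ble 449536 i))) ((Bool.rec (motive := fun _ => Nat) (nl440 i) (nl441 i) (Nat.ble 451584 i))) (Nat.ble 450560 i))
noncomputable def nd149 (i : Nat) : Nat := (Bool.rec (motive := fun _ => Nat) ((Bool.rec (motive := fun _ => Nat) (nl442 i) (nl443 i) (Nat.ble 453632 i))) ((Bool.rec (motive := fun _ => Nat) (nl444 i) (nl445 i) (Nat.ble 455680 i))) (Nat.ble 454656 i))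
noncomputable def nd145 (i : Nat) : Nat := (Bool.rec (motive := fun _ => Nat) ((Bool.rec (motive := fun _ => Nat) (nd146 i) (nd147 i) (Nat.ble 444416 i))) ((Bool.rec (motive := fun _ => Nat) (nd148 i) (nd149 i) (Nat.ble 452608 i))) (Nat.ble 448512 i))
noncomputable def nd129 (i : Nat) : Nat := (Bool.rec (motive := fun _ => Nat) ((Bool.rec (motive := fun _ => Nat) (nd130 i) (nd135 i) (Nat.ble 407552 i))) ((Bool.rec (motive := fun _ => Nat) (nd140 i) (nd145 i) (Nat.ble 440320 i))) (Nat.ble 423936 i))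
noncomputable def nd152 (i : Nat) : Nat := (Bool.rec (motive := fun _ => Nat) ((Bool.rec (motive := fun _ => Nat) (nl446 i) (nl447 i) (Nat.ble 457728 i))) ((Bool.rec (motive := fun _ => Nat) (nl448 i) (nl449 i) (Nat.ble 459776 i))) (Nat.ble 458752 i))
noncomputable def nd153 (i : Nat) : Nat := (Bool.rec (motive := fun _ => Nat) ((Bool.rec (motive := fun _ => Nat) (nl450 i) (nl451 i) (Nat.ble 461824 i))) ((Bool.rec (motive := fun _ => Nat) (nl452 i) (nl453 i) (Nat.ble 463872 i))) (Nat.ble 462848 i))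
noncomputable def nd154 (i : Nat) : Nat := (Bool.rec (motive := fun _ => Nat) ((Bool.rec (motive := fun _ => Nat) (nl454 i) (nl455 i) (Nat.ble 465920 i))) ((Bool.rec (motive := fun _ => Nat) (nl456 i) (nl457 i) (Nat.ble 467968 i))) (Nat.ble 466944 i))
noncomputable def nd155 (i : Nat) : Nat := (Bool.rec (motive := fun _ => Nat) ((Bool.rec (motive := fun _ => Nat) (nl458 i) (nl459 i) (Nat.ble 470016 i))) ((Bool.rec (motive := fun _ => Nat) (nl460 i) (nl461 i) (Nat.ble 472064 i))) (Nat.ble 471040 i))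
noncomputable def nd151 (i : Nat) : Nat := (Bool.rec (motive := fun _ => Nat) ((Bool.rec (motive := fun _ => Nat) (nd152 i) (nd153 i) (Nat.ble 460800 i))) ((Bool.rec (motive := fun _ => Nat) (nd154 i) (nd155 i) (Nat.ble 468992 i))) (Nat.ble 464896 i))
noncomputable def nd157 (i : Nat) : Nat := (Bool.rec (motive := fun _ => Nat) ((Bool.rec (motive := fun _ => Nat) (nl462 i) (nl463 i) (Nat.ble 474112 i))) ((Bool.rec (motive := fun _ => Nat) (nl464 i) (nl465 i) (Nat.ble 476160 i))) (Nat.ble 475136 i))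
noncomputable def nd158 (i : Nat) : Nat := (Bool.rec (motive := fun _ => Nat) ((Bool.rec (motive := fun _ => Nat) (nl466 i) (nl467 i) (Nat.ble 478208 i))) ((Bool.rec (motive := fun _ => Nat) (nl468 i) (nl469 i) (Nat.ble 480256 i))) (Nat.ble 479232 i))
noncomputable def nd159 (i : Nat) : Nat := (Bool.rec (motive := fun _ => Nat) ((Bool.rec (motive := fun _ => Nat) (nl470 i) (nl471 i) (Nat.ble 482304 i))) ((Bool.rec (motive := fun _ => Nat) (nl472 i) (nl473 i) (Nat.ble 484352 i))) (Nat.ble 483328 i))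
noncomputable def nd160 (i : Nat) : Nat := (Bool.rec (motive := fun _ => Nat) ((Bool.rec (motive := fun _ => Nat) (nl474 i) (nl475 i) (Nat.ble 486400 i))) ((Bool.rec (motive := fun _ => Nat) (nl476 i) (nl477 i) (Nat.ble 488448 i))) (Nat.ble 487424 i))
noncomputable def nd156 (i : Nat) : Nat := (Bool.rec (motive := fun _ => Nat) ((Bool.rec (motive := fun _ => Nat) (nd157 i) (nd158 i) (Nat.ble 477184 i))) ((Bool.rec (motive := fun _ => Nat) (nd159 i) (nd160 i) (Nat.ble 485376 i))) (Nat.ble 481280 i))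
noncomputable def nd162 (i : Nat) : Nat := (Bool.rec (motive := fun _ => Nat) ((Bool.rec (motive := fun _ => Nat) (nl478 i) (nl479 i) (Nat.ble 490496 i))) ((Bool.rec (motive := fun _ => Nat) (nl480 i) (nl481 i) (Nat.ble 492544 i))) (Nat.ble 491520 i))
noncomputable def nd163 (i : Nat) : Nat := (Bool.rec (motive := fun _ => Nat) ((Bool.rec (motive := fun _ => Nat) (nl482 i) (nl483 i) (Nat.ble 494592 i))) ((Bool.rec (motive := fun _ => Nat) (nl484 i) (nl485 i) (Nat.ble 496640 i))) (Nat.ble 495616 i))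
noncomputable def nd164 (i : Nat) : Nat := (Bool.rec (motive := fun _ => Nat) ((Bool.rec (motive := fun _ => Nat) (nl486 i) (nl487 i) (Nat.ble 498688 i))) ((Bool.rec (motive := fun _ => Nat) (nl488 i) (nl489 i) (Nat.ble 500736 i))) (Nat.ble 499712 i))
noncomputable def nd165 (i : Nat) : Nat := (Bool.rec (motive := fun _ => Nat) ((Bool.rec (motive := fun _ => Nat) (nl490 i) (nl491 i) (Nat.ble 502784 i))) ((Bool.rec (motive := fun _ => Nat) (nl492 i) (nl493 i) (Nat.ble 504832 i))) (Nat.ble 503808 i))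
noncomputable def nd161 (i : Nat) : Nat := (Bool.rec (motive := fun _ => Nat) ((Bool.rec (motive := fun _ => Nat) (nd162 i) (nd163 i) (Nat.ble 493568 i))) ((Bool.rec (motive := fun _ => Nat) (nd164 i) (nd165 i) (Nat.ble 501760 i))) (Nat.ble 497664 i))
noncomputable def nd167 (i : Nat) : Nat := (Bool.rec (motive := fun _ => Nat) ((Bool.rec (motive := fun _ => Nat) (nl494 i) (nl495 i) (Nat.ble 506880 i))) ((Bool.rec (motive := fun _ => Nat) (nl496 i) (nl497 i) (Nat.ble 508928 i))) (Nat.ble 507904 i))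
noncomputable def nd168 (i : Nat) : Nat := (Bool.rec (motive := fun _ => Nat) ((Bool.rec (motive := fun _ => Nat) (nl498 i) (nl499 i) (Nat.ble 510976 i))) ((Bool.rec (motive := fun _ => Nat) (nl500 i) (nl501 i) (Nat.ble 513024 i))) (Nat.ble 512000 i))
noncomputable def nd169 (i : Nat) : Nat := (Bool.rec (motive := fun _ => Nat) ((Bool.rec (motive := fun _ => Nat) (nl502 i) (nl503 i) (Nat.ble 515072 i))) ((Bool.rec (motive := fun _ => Nat) (nl504 i) (nl505 i) (Nat.ble 517120 i))) (Nat.ble 516096 i))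
noncomputable def nd170 (i : Nat) : Nat := (Bool.rec (motive := fun _ => Nat) ((Bool.rec (motive := fun _ => Nat) (nl506 i) (nl507 i) (Nat.ble 519168 i))) ((Bool.rec (motive := fun _ => Nat) (nl508 i) (nl509 i) (Nat.ble 521216 i))) (Nat.ble 520192 i))
noncomputable def nd166 (i : Nat) : Nat := (Bool.rec (motive := fun _ => Nat) ((Bool.rec (motive := fun _ => Nat) (nd167 i) (nd168 i) (Nat.ble 509952 i))) ((Bool.rec (motive := fun _ => Nat) (nd169 i) (nd170 i) (Nat.ble 518144 i))) (Nat.ble 514048 i))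
noncomputable def nd150 (i : Nat) : Nat := (Bool.rec (motive := fun _ => Nat) ((Bool.rec (motive := fun _ => Nat) (nd151 i) (nd156 i) (Nat.ble 473088 i))) ((Bool.rec (motive := fun _ => Nat) (nd161 i) (nd166 i) (Nat.ble 505856 i))) (Nat.ble 489472 i))
noncomputable def nd86 (i : Nat) : Nat := (Bool.rec (motive := fun _ => Nat) ((Bool.rec (motive := fun _ => Nat) (nd87 i) (nd108 i) (Nat.ble 325632 i))) ((Bool.rec (motive := fun _ => Nat) (nd129 i) (nd150 i) (Nat.ble 456704 i))) (Nat.ble 391168 i))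
noncomputable def nd174 (i : Nat) : Nat := (Bool.rec (motive := fun _ => Nat) (nl510 i) ((Bool.rec (motive := fun _ => Nat) (nl511 i) (nl512 i) (Nat.ble 524288 i))) (Nat.ble 523264 i))
noncomputable def nd175 (i : Nat) : Nat := (Bool.rec (motive := fun _ => Nat) ((Bool.rec (motive := fun _ => Nat) (nl513 i) (nl514 i) (Nat.ble 526336 i))) ((Bool.rec (motive := fun _ => Nat) (nl515 i) (nl516 i) (Nat.ble 528384 i))) (Nat.ble 527360 i))
noncomputable def nd176 (i : Nat) : Nat := (Bool.rec (motive := fun _ => Nat) ((Bool.rec (motive := fun _ => Nat) (nl517 i) (nl518 i) (Nat.ble 530432 i))) ((Bool.rec (motive := fun _ => Nat) (nl519 i) (nl520 i) (Nat.ble 532480 i))) (Nat.ble 531456 i))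
noncomputable def nd177 (i : Nat) : Nat := (Bool.rec (motive := fun _ => Nat) ((Bool.rec (motive := fun _ => Nat) (nl521 i) (nl522 i) (Nat.ble 534528 i))) ((Bool.rec (motive := fun _ => Nat) (nl523 i) (nl524 i) (Nat.ble 536576 i))) (Nat.ble 535552 i))
noncomputable def nd173 (i : Nat) : Nat := (Bool.rec (motive := fun _ => Nat) ((Bool.rec (motive := fun _ => Nat) (nd174 i) (nd175 i) (Nat.ble 525312 i))) ((Bool.rec (motive := fun _ => Nat) (nd176 i) (nd177 i) (Nat.ble 533504 i))) (Nat.ble 529408 i))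
noncomputable def nd179 (i : Nat) : Nat := (Bool.rec (motive := fun _ => Nat) ((Bool.rec (motive := fun _ => Nat) (nl525 i) (nl526 i) (Nat.ble 538624 i))) ((Bool.rec (motive := fun _ => Nat) (nl527 i) (nl528 i) (Nat.ble 540672 i))) (Nat.ble 539648 i))
noncomputable def nd180 (i : Nat) : Nat := (Bool.rec (motive := fun _ => Nat) ((Bool.rec (motive := fun _ => Nat) (nl529 i) (nl530 i) (Nat.ble 542720 i))) ((Bool.rec (motive := fun _ => Nat) (nl531 i) (nl532 i) (Nat.ble 544768 i))) (Nat.ble 543744 i))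
noncomputable def nd181 (i : Nat) : Nat := (Bool.rec (motive := fun _ => Nat) ((Bool.rec (motive := fun _ => Nat) (nl533 i) (nl534 i) (Nat.ble 546816 i))) ((Bool.rec (motive := fun _ => Nat) (nl535 i) (nl536 i) (Nat.ble 548864 i))) (Nat.ble 547840 i))
noncomputable def nd182 (i : Nat) : Nat := (Bool.rec (motive := fun _ => Nat) ((Bool.rec (motive := fun _ => Nat) (nl537 i) (nl538 i) (Nat.ble 550912 i))) ((Bool.rec (motive := fun _ => Nat) (nl539 i) (nl540 i) (Nat.ble 552960 i))) (Nat.ble 551936 i))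
noncomputable def nd178 (i : Nat) : Nat := (Bool.rec (motive := fun _ => Nat) ((Bool.rec (motive := fun _ => Nat) (nd179 i) (nd180 i) (Nat.ble 541696 i))) ((Bool.rec (motive := fun _ => Nat) (nd181 i) (nd182 i) (Nat.ble 549888 i))) (Nat.ble 545792 i))
noncomputable def nd184 (i : Nat) : Nat := (Bool.rec (motive := fun _ => Nat) ((Bool.rec (motive := fun _ => Nat) (nl541 i) (nl542 i) (Nat.ble 555008 i))) ((Bool.rec (motive := fun _ => Nat) (nl543 i) (nl544 i) (Nat.ble 557056 i))) (Nat.ble 556032 i))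
noncomputable def nd185 (i : Nat) : Nat := (Bool.rec (motive := fun _ => Nat) ((Bool.rec (motive := fun _ => Nat) (nl545 i) (nl546 i) (Nat.ble 559104 i))) ((Bool.rec (motive := fun _ => Nat) (nl547 i) (nl548 i) (Nat.ble 561152 i))) (Nat.ble 560128 i))
noncomputable def nd186 (i : Nat) : Nat := (Bool.rec (motive := fun _ => Nat) ((Bool.rec (motive := fun _ => Nat) (nl549 i) (nl550 i) (Nat.ble 563200 i))) ((Bool.rec (motive := fun _ => Nat) (nl551 i) (nl552 i) (Nat.ble 565248 i))) (Nat.ble 564224 i))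
noncomputable def nd187 (i : Nat) : Nat := (Bool.rec (motive := fun _ => Nat) ((Bool.rec (motive := fun _ => Nat) (nl553 i) (nl554 i) (Nat.ble 567296 i))) ((Bool.rec (motive := fun _ => Nat) (nl555 i) (nl556 i) (Nat.ble 569344 i))) (Nat.ble 568320 i))
noncomputable def nd183 (i : Nat) : Nat := (Bool.rec (motive := fun _ => Nat) ((Bool.rec (motive := fun _ => Nat) (nd184 i) (nd185 i) (Nat.ble 558080 i))) ((Bool.rec (motive := fun _ => Nat) (nd186 i) (nd187 i) (Nat.ble 566272 i))) (Nat.ble 562176 i))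
noncomputable def nd189 (i : Nat) : Nat := (Bool.rec (motive := fun _ => Nat) ((Bool.rec (motive := fun _ => Nat) (nl557 i) (nl558 i) (Nat.ble 571392 i))) ((Bool.rec (motive := fun _ => Nat) (nl559 i) (nl560 i) (Nat.ble 573440 i))) (Nat.ble 572416 i))
noncomputable def nd190 (i : Nat) : Nat := (Bool.rec (motive := fun _ => Nat) ((Bool.rec (motive := fun _ => Nat) (nl561 i) (nl562 i) (Nat.ble 575488 i))) ((Bool.rec (motive := fun _ => Nat) (nl563 i) (nl564 i) (Nat.ble 577536 i))) (Nat.ble 576512 i))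
noncomputable def nd191 (i : Nat) : Nat := (Bool.rec (motive := fun _ => Nat) ((Bool.rec (motive := fun _ => Nat) (nl565 i) (nl566 i) (Nat.ble 579584 i))) ((Bool.rec (motive := fun _ => Nat) (nl567 i) (nl568 i) (Nat.ble 581632 i))) (Nat.ble 580608 i))
noncomputable def nd192 (i : Nat) : Nat := (Bool.rec (motive := fun _ => Nat) ((Bool.rec (motive := fun _ => Nat) (nl569 i) (nl570 i) (Nat.ble 583680 i))) ((Bool.rec (motive := fun _ => Nat) (nl571 i) (nl572 i) (Nat.ble 585728 i))) (Nat.ble 584704 i))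
noncomputable def nd188 (i : Nat) : Nat := (Bool.rec (motive := fun _ => Nat) ((Bool.rec (motive := fun _ => Nat) (nd189 i) (nd190 i) (Nat.ble 574464 i))) ((Bool.rec (motive := fun _ => Nat) (nd191 i) (nd192 i) (Nat.ble 582656 i))) (Nat.ble 578560 i))
noncomputable def nd172 (i : Nat) : Nat := (Bool.rec (motive := fun _ => Nat) ((Bool.rec (motive := fun _ => Nat) (nd173 i) (nd178 i) (Nat.ble 537600 i))) ((Bool.rec (motive := fun _ => Nat) (nd183 i) (nd188 i) (Nat.ble 570368 i))) (Nat.ble 553984 i))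
noncomputable def nd195 (i : Nat) : Nat := (Bool.rec (motive := fun _ => Nat) ((Bool.rec (motive := fun _ => Nat) (nl573 i) (nl574 i) (Nat.ble 587776 i))) ((Bool.rec (motive := fun _ => Nat) (nl575 i) (nl576 i) (Nat.ble 589824 i))) (Nat.ble 588800 i))
noncomputable def nd196 (i : Nat) : Nat := (Bool.rec (motive := fun _ => Nat) ((Bool.rec (motive := fun _ => Nat) (nl577 i) (nl578 i) (Nat.ble 591872 i))) ((Bool.rec (motive := fun _ => Nat) (nl579 i) (nl580 i) (Nat.ble 593920 i))) (Nat.ble 592896 i))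
noncomputable def nd197 (i : Nat) : Nat := (Bool.rec (motive := fun _ => Nat) ((Bool.rec (motive := fun _ => Nat) (nl581 i) (nl582 i) (Nat.ble 595968 i))) ((Bool.rec (motive := fun _ => Nat) (nl583 i) (nl584 i) (Nat.ble 598016 i))) (Nat.ble 596992 i))
noncomputable def nd198 (i : Nat) : Nat := (Bool.rec (motive := fun _ => Nat) ((Bool.rec (motive := fun _ => Nat) (nl585 i) (nl586 i) (Nat.ble 600064 i))) ((Bool.rec (motive := fun _ => Nat) (nl587 i) (nl588 i) (Nat.ble 602112 i))) (Nat.ble 601088 i))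
noncomputable def nd194 (i : Nat) : Nat := (Bool.rec (motive := fun _ => Nat) ((Bool.rec (motive := fun _ => Nat) (nd195 i) (nd196 i) (Nat.ble 590848 i))) ((Bool.rec (motive := fun _ => Nat) (nd197 i) (nd198 i) (Nat.ble 599040 i))) (Nat.ble 594944 i))
noncomputable def nd200 (i : Nat) : Nat := (Bool.rec (motive := fun _ => Nat) ((Bool.rec (motive := fun _ => Nat) (nl589 i) (nl590 i) (Nat.ble 604160 i))) ((Bool.rec (motive := fun _ => Nat) (nl591 i) (nl592 i) (Nat.ble 606208 i))) (Nat.ble 605184 i))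
noncomputable def nd201 (i : Nat) : Nat := (Bool.rec (motive := fun _ => Nat) ((Bool.rec (motive := fun _ => Nat) (nl593 i) (nl594 i) (Nat.ble 608256 i))) ((Bool.rec (motive := fun _ => Nat) (nl595 i) (nl596 i) (Nat.ble 610304 i))) (Nat.ble 609280 i))
noncomputable def nd202 (i : Nat) : Nat := (Bool.rec (motive := fun _ => Nat) ((Bool.rec (motive := fun _ => Nat) (nl597 i) (nl598 i) (Nat.ble 612352 i))) ((Bool.rec (motive := fun _ => Nat) (nl599 i) (nl600 i) (Nat.ble 614400 i))) (Nat.ble 613376 i))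
noncomputable def nd203 (i : Nat) : Nat := (Bool.rec (motive := fun _ => Nat) ((Bool.rec (motive := fun _ => Nat) (nl601 i) (nl602 i) (Nat.ble 616448 i))) ((Bool.rec (motive := fun _ => Nat) (nl603 i) (nl604 i) (Nat.ble 618496 i))) (Nat.ble 617472 i))
noncomputable def nd199 (i : Nat) : Nat := (Bool.rec (motive := fun _ => Nat) ((Bool.rec (motive := fun _ => Nat) (nd200 i) (nd201 i) (Nat.ble 607232 i))) ((Bool.rec (motive := fun _ => Nat) (nd202 i) (nd203 i) (Nat.ble 615424 i))) (Nat.ble 611328 i))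
noncomputable def nd205 (i : Nat) : Nat := (Bool.rec (motive := fun _ => Nat) ((Bool.rec (motive := fun _ => Nat) (nl605 i) (nl606 i) (Nat.ble 620544 i))) ((Bool.rec (motive := fun _ => Nat) (nl607 i) (nl608 i) (Nat.ble 622592 i))) (Nat.ble 621568 i))
noncomputable def nd206 (i : Nat) : Nat := (Bool.rec (motive := fun _ => Nat) ((Bool.rec (motive := fun _ => Nat) (nl609 i) (nl610 i) (Nat.ble 624640 i))) ((Bool.rec (motive := fun _ => Nat) (nl611 i) (nl612 i) (Nat.ble 626688 i))) (Nat.ble 625664 i))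
noncomputable def nd207 (i : Nat) : Nat := (Bool.rec (motive := fun _ => Nat) ((Bool.rec (motive := fun _ => Nat) (nl613 i) (nl614 i) (Nat.ble 628736 i))) ((Bool.rec (motive := fun _ => Nat) (nl615 i) (nl616 i) (Nat.ble 630784 i))) (Nat.ble 629760 i))
noncomputable def nd208 (i : Nat) : Nat := (Bool.rec (motive := fun _ => Nat) ((Bool.rec (motive := fun _ => Nat) (nl617 i) (nl618 i) (Nat.ble 632832 i))) ((Bool.rec (motive := fun _ => Nat) (nl619 i) (nl620 i) (Nat.ble 634880 i))) (Nat.ble 633856 i))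
noncomputable def nd204 (i : Nat) : Nat := (Bool.rec (motive := fun _ => Nat) ((Bool.rec (motive := fun _ => Nat) (nd205 i) (nd206 i) (Nat.ble 623616 i))) ((Bool.rec (motive := fun _ => Nat) (nd207 i) (nd208 i) (Nat.ble 631808 i))) (Nat.ble 627712 i))
noncomputable def nd210 (i : Nat) : Nat := (Bool.rec (motive := fun _ => Nat) ((Bool.rec (motive := fun _ => Nat) (nl621 i) (nl622 i) (Nat.ble 636928 i))) ((Bool.rec (motive := fun _ => Nat) (nl623 i) (nl624 i) (Nat.ble 638976 i))) (Nat.ble 637952 i))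
noncomputable def nd211 (i : Nat) : Nat := (Bool.rec (motive := fun _ => Nat) ((Bool.rec (motive := fun _ => Nat) (nl625 i) (nl626 i) (Nat.ble 641024 i))) ((Bool.rec (motive := fun _ => Nat) (nl627 i) (nl628 i) (Nat.ble 643072 i))) (Nat.ble 642048 i))
noncomputable def nd212 (i : Nat) : Nat := (Bool.rec (motive := fun _ => Nat) ((Bool.rec (motive := fun _ => Nat) (nl629 i) (nl630 i) (Nat.ble 645120 i))) ((Bool.rec (motive := fun _ => Nat) (nl631 i) (nl632 i) (Nat.ble 647168 i))) (Nat.ble 646144 i))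
noncomputable def nd213 (i : Nat) : Nat := (Bool.rec (motive := fun _ => Nat) ((Bool.rec (motive := fun _ => Nat) (nl633 i) (nl634 i) (Nat.ble 649216 i))) ((Bool.rec (motive := fun _ => Nat) (nl635 i) (nl636 i) (Nat.ble 651264 i))) (Nat.ble 650240 i))
noncomputable def nd209 (i : Nat) : Nat := (Bool.rec (motive := fun _ => Nat) ((Bool.rec (motive := fun _ => Nat) (nd210 i) (nd211 i) (Nat.ble 640000 i))) ((Bool.rec (motive := fun _ => Nat) (nd212 i) (nd213 i) (Nat.ble 648192 i))) (Nat.ble 644096 i))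
noncomputable def nd193 (i : Nat) : Nat := (Bool.rec (motive := fun _ => Nat) ((Bool.rec (motive := fun _ => Nat) (nd194 i) (nd199 i) (Nat.ble 603136 i))) ((Bool.rec (motive := fun _ => Nat) (nd204 i) (nd209 i) (Nat.ble 635904 i))) (Nat.ble 619520 i))
noncomputable def nd216 (i : Nat) : Nat := (Bool.rec (motive := fun _ => Nat) ((Bool.rec (motive := fun _ => Nat) (nl637 i) (nl638 i) (Nat.ble 653312 i))) ((Bool.rec (motive := fun _ => Nat) (nl639 i) (nl640 i) (Nat.ble 655360 i))) (Nat.ble 654336 i))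
noncomputable def nd217 (i : Nat) : Nat := (Bool.rec (motive := fun _ => Nat) ((Bool.rec (motive := fun _ => Nat) (nl641 i) (nl642 i) (Nat.ble 657408 i))) ((Bool.rec (motive := fun _ => Nat) (nl643 i) (nl644 i) (Nat.ble 659456 i))) (Nat.ble 658432 i))
noncomputable def nd218 (i : Nat) : Nat := (Bool.rec (motive := fun _ => Nat) ((Bool.rec (motive := fun _ => Nat) (nl645 i) (nl646 i) (Nat.ble 661504 i))) ((Bool.rec (motive := fun _ => Nat) (nl647 i) (nl648 i) (Nat.ble 663552 i))) (Nat.ble 662528 i))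
noncomputable def nd219 (i : Nat) : Nat := (Bool.rec (motive := fun _ => Nat) ((Bool.rec (motive := fun _ => Nat) (nl649 i) (nl650 i) (Nat.ble 665600 i))) ((Bool.rec (motive := fun _ => Nat) (nl651 i) (nl652 i) (Nat.ble 667648 i))) (Nat.ble 666624 i))
noncomputable def nd215 (i : Nat) : Nat := (Bool.rec (motive := fun _ => Nat) ((Bool.rec (motive := fun _ => Nat) (nd216 i) (nd217 i) (Nat.ble 656384 i))) ((Bool.rec (motive := fun _ => Nat) (nd218 i) (nd219 i) (Nat.ble 664576 i))) (Nat.ble 660480 i))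
noncomputable def nd221 (i : Nat) : Nat := (Bool.rec (motive := fun _ => Nat) ((Bool.rec (motive := fun _ => Nat) (nl653 i) (nl654 i) (Nat.ble 669696 i))) ((Bool.rec (motive := fun _ => Nat) (nl655 i) (nl656 i) (Nat.ble 671744 i))) (Nat.ble 670720 i))
noncomputable def nd222 (i : Nat) : Nat := (Bool.rec (motive := fun _ => Nat) ((Bool.rec (motive := fun _ => Nat) (nl657 i) (nl658 i) (Nat.ble 673792 i))) ((Bool.rec (motive := fun _ => Nat) (nl659 i) (nl660 i) (Nat.ble 675840 i))) (Nat.ble 674816 i))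
noncomputable def nd223 (i : Nat) : Nat := (Bool.rec (motive := fun _ => Nat) ((Bool.rec (motive := fun _ => Nat) (nl661 i) (nl662 i) (Nat.ble 677888 i))) ((Bool.rec (motive := fun _ => Nat) (nl663 i) (nl664 i) (Nat.ble 679936 i))) (Nat.ble 678912 i))
noncomputable def nd224 (i : Nat) : Nat := (Bool.rec (motive := fun _ => Nat) ((Bool.rec (motive := fun _ => Nat) (nl665 i) (nl666 i) (Nat.ble 681984 i))) ((Bool.rec (motive := fun _ => Nat) (nl667 i) (nl668 i) (Nat.ble 684032 i))) (Nat.ble 683008 i))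
noncomputable def nd220 (i : Nat) : Nat := (Bool.rec (motive := fun _ => Nat) ((Bool.rec (motive := fun _ => Nat) (nd221 i) (nd222 i) (Nat.ble 672768 i))) ((Bool.rec (motive := fun _ => Nat) (nd223 i) (nd224 i) (Nat.ble 680960 i))) (Nat.ble 676864 i))
noncomputable def nd226 (i : Nat) : Nat := (Bool.rec (motive := fun _ => Nat) ((Bool.rec (motive := fun _ => Nat) (nl669 i) (nl670 i) (Nat.ble 686080 i))) ((Bool.rec (motive := fun _ => Nat) (nl671 i) (nl672 i) (Nat.ble 688128 i))) (Nat.ble 687104 i))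
noncomputable def nd227 (i : Nat) : Nat := (Bool.rec (motive := fun _ => Nat) ((Bool.rec (motive := fun _ => Nat) (nl673 i) (nl674 i) (Nat.ble 690176 i))) ((Bool.rec (motive := fun _ => Nat) (nl675 i) (nl676 i) (Nat.ble 692224 i))) (Nat.ble 691200 i))
noncomputable def nd228 (i : Nat) : Nat := (Bool.rec (motive := fun _ => Nat) ((Bool.rec (motive := fun _ => Nat) (nl677 i) (nl678 i) (Nat.ble 694272 i))) ((Bool.rec (motive := fun _ => Nat) (nl679 i) (nl680 i) (Nat.ble 696320 i))) (Nat.ble 695296 i))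
noncomputable def nd229 (i : Nat) : Nat := (Bool.rec (motive := fun _ => Nat) ((Bool.rec (motive := fun _ => Nat) (nl681 i) (nl682 i) (Nat.ble 698368 i))) ((Bool.rec (motive := fun _ => Nat) (nl683 i) (nl684 i) (Nat.ble 700416 i))) (Nat.ble 699392 i))
noncomputable def nd225 (i : Nat) : Nat := (Bool.rec (motive := fun _ => Nat) ((Bool.rec (motive := fun _ => Nat) (nd226 i) (nd227 i) (Nat.ble 689152 i))) ((Bool.rec (motive := fun _ => Nat) (nd228 i) (nd229 i) (Nat.ble 697344 i))) (Nat.ble 693248 i))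
noncomputable def nd231 (i : Nat) : Nat := (Bool.rec (motive := fun _ => Nat) ((Bool.rec (motive := fun _ => Nat) (nl685 i) (nl686 i) (Nat.ble 702464 i))) ((Bool.rec (motive := fun _ => Nat) (nl687 i) (nl688 i) (Nat.ble 704512 i))) (Nat.ble 703488 i))
noncomputable def nd232 (i : Nat) : Nat := (Bool.rec (motive := fun _ => Nat) ((Bool.rec (motive := fun _ => Nat) (nl689 i) (nl690 i) (Nat.ble 706560 i))) ((Bool.rec (motive := fun _ => Nat) (nl691 i) (nl692 i) (Nat.ble 708608 i))) (Nat.ble 707584 i))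
noncomputable def nd233 (i : Nat) : Nat := (Bool.rec (motive := fun _ => Nat) ((Bool.rec (motive := fun _ => Nat) (nl693 i) (nl694 i) (Nat.ble 710656 i))) ((Bool.rec (motive := fun _ => Nat) (nl695 i) (nl696 i) (Nat.ble 712704 i))) (Nat.ble 711680 i))
noncomputable def nd234 (i : Nat) : Nat := (Bool.rec (motive := fun _ => Nat) ((Bool.rec (motive := fun _ => Nat) (nl697 i) (nl698 i) (Nat.ble 714752 i))) ((Bool.rec (motive := fun _ => Nat) (nl699 i) (nl700 i) (Nat.ble 716800 i))) (Nat.ble 715776 i))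
noncomputable def nd230 (i : Nat) : Nat := (Bool.rec (motive := fun _ => Nat) ((Bool.rec (motive := fun _ => Nat) (nd231 i) (nd232 i) (Nat.ble 705536 i))) ((Bool.rec (motive := fun _ => Nat) (nd233 i) (nd234 i) (Nat.ble 713728 i))) (Nat.ble 709632 i))
noncomputable def nd214 (i : Nat) : Nat := (Bool.rec (motive := fun _ => Nat) ((Bool.rec (motive := fun _ => Nat) (nd215 i) (nd220 i) (Nat.ble 668672 i))) ((Bool.rec (motive := fun _ => Nat) (nd225 i) (nd230 i) (Nat.ble 701440 i))) (Nat.ble 685056 i))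
noncomputable def nd237 (i : Nat) : Nat := (Bool.rec (motive := fun _ => Nat) ((Bool.rec (motive := fun _ => Nat) (nl701 i) (nl702 i) (Nat.ble 718848 i))) ((Bool.rec (motive := fun _ => Nat) (nl703 i) (nl704 i) (Nat.ble 720896 i))) (Nat.ble 719872 i))
noncomputable def nd238 (i : Nat) : Nat := (Bool.rec (motive := fun _ => Nat) ((Bool.rec (motive := fun _ => Nat) (nl705 i) (nl706 i) (Nat.ble 722944 i))) ((Bool.rec (motive := fun _ => Nat) (nl707 i) (nl708 i) (Nat.ble 724992 i))) (Nat.ble 723968 i))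
noncomputable def nd239 (i : Nat) : Nat := (Bool.rec (motive := fun _ => Nat) ((Bool.rec (motive := fun _ => Nat) (nl709 i) (nl710 i) (Nat.ble 727040 i))) ((Bool.rec (motive := fun _ => Nat) (nl711 i) (nl712 i) (Nat.ble 729088 i))) (Nat.ble 728064 i))
noncomputable def nd240 (i : Nat) : Nat := (Bool.rec (motive := fun _ => Nat) ((Bool.rec (motive := fun _ => Nat) (nl713 i) (nl714 i) (Nat.ble 731136 i))) ((Bool.rec (motive := fun _ => Nat) (nl715 i) (nl716 i) (Nat.ble 733184 i))) (Nat.ble 732160 i))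
noncomputable def nd236 (i : Nat) : Nat := (Bool.rec (motive := fun _ => Nat) ((Bool.rec (motive := fun _ => Nat) (nd237 i) (nd238 i) (Nat.ble 721920 i))) ((Bool.rec (motive := fun _ => Nat) (nd239 i) (nd240 i) (Nat.ble 730112 i))) (Nat.ble 726016 i))
noncomputable def nd242 (i : Nat) : Nat := (Bool.rec (motive := fun _ => Nat) ((Bool.rec (motive := fun _ => Nat) (nl717 i) (nl718 i) (Nat.ble 735232 i))) ((Bool.rec (motive := fun _ => Nat) (nl719 i) (nl720 i) (Nat.ble 737280 i))) (Nat.ble 736256 i))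
noncomputable def nd243 (i : Nat) : Nat := (Bool.rec (motive := fun _ => Nat) ((Bool.rec (motive := fun _ => Nat) (nl721 i) (nl722 i) (Nat.ble 739328 i))) ((Bool.rec (motive := fun _ => Nat) (nl723 i) (nl724 i) (Nat.ble 741376 i))) (Nat.ble 740352 i))
noncomputable def nd244 (i : Nat) : Nat := (Bool.rec (motive := fun _ => Nat) ((Bool.rec (motive := fun _ => Nat) (nl725 i) (nl726 i) (Nat.ble 743424 i))) ((Bool.rec (motive := fun _ => Nat) (nl727 i) (nl728 i) (Nat.ble 745472 i))) (Nat.ble 744448 i))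
noncomputable def nd245 (i : Nat) : Nat := (Bool.rec (motive := fun _ => Nat) ((Bool.rec (motive := fun _ => Nat) (nl729 i) (nl730 i) (Nat.ble 747520 i))) ((Bool.rec (motive := fun _ => Nat) (nl731 i) (nl732 i) (Nat.ble 749568 i))) (Nat.ble 748544 i))
noncomputable def nd241 (i : Nat) : Nat := (Bool.rec (motive := fun _ => Nat) ((Bool.rec (motive := fun _ => Nat) (nd242 i) (nd243 i) (Nat.ble 738304 i))) ((Bool.rec (motive := fun _ => Nat) (nd244 i) (nd245 i) (Nat.ble 746496 i))) (Nat.ble 742400 i))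
noncomputable def nd247 (i : Nat) : Nat := (Bool.rec (motive := fun _ => Nat) ((Bool.rec (motive := fun _ => Nat) (nl733 i) (nl734 i) (Nat.ble 751616 i))) ((Bool.rec (motive := fun _ => Nat) (nl735 i) (nl736 i) (Nat.ble 753664 i))) (Nat.ble 752640 i))
noncomputable def nd248 (i : Nat) : Nat := (Bool.rec (motive := fun _ => Nat) ((Bool.rec (motive := fun _ => Nat) (nl737 i) (nl738 i) (Nat.ble 755712 i))) ((Bool.rec (motive := fun _ => Nat) (nl739 i) (nl740 i) (Nat.ble 757760 i))) (Nat.ble 756736 i))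
noncomputable def nd249 (i : Nat) : Nat := (Bool.rec (motive := fun _ => Nat) ((Bool.rec (motive := fun _ => Nat) (nl741 i) (nl742 i) (Nat.ble 759808 i))) ((Bool.rec (motive := fun _ => Nat) (nl743 i) (nl744 i) (Nat.ble 761856 i))) (Nat.ble 760832 i))
noncomputable def nd250 (i : Nat) : Nat := (Bool.rec (motive := fun _ => Nat) ((Bool.rec (motive := fun _ => Nat) (nl745 i) (nl746 i) (Nat.ble 763904 i))) ((Bool.rec (motive := fun _ => Nat) (nl747 i) (nl748 i) (Nat.ble 765952 i))) (Nat.ble 764928 i))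
noncomputable def nd246 (i : Nat) : Nat := (Bool.rec (motive := fun _ => Nat) ((Bool.rec (motive := fun _ => Nat) (nd247 i) (nd248 i) (Nat.ble 754688 i))) ((Bool.rec (motive := fun _ => Nat) (nd249 i) (nd250 i) (Nat.ble 762880 i))) (Nat.ble 758784 i))
noncomputable def nd252 (i : Nat) : Nat := (Bool.rec (motive := fun _ => Nat) ((Bool.rec (motive := fun _ => Nat) (nl749 i) (nl750 i) (Nat.ble 768000 i))) ((Bool.rec (motive := fun _ => Nat) (nl751 i) (nl752 i) (Nat.ble 770048 i))) (Nat.ble 769024 i))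
noncomputable def nd253 (i : Nat) : Nat := (Bool.rec (motive := fun _ => Nat) ((Bool.rec (motive := fun _ => Nat) (nl753 i) (nl754 i) (Nat.ble 772096 i))) ((Bool.rec (motive := fun _ => Nat) (nl755 i) (nl756 i) (Nat.ble 774144 i))) (Nat.ble 773120 i))
noncomputable def nd254 (i : Nat) : Nat := (Bool.rec (motive := fun _ => Nat) ((Bool.rec (motive := fun _ => Nat) (nl757 i) (nl758 i) (Nat.ble 776192 i))) ((Bool.rec (motive := fun _ => Nat) (nl759 i) (nl760 i) (Nat.ble 778240 i))) (Nat.ble 777216 i))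
noncomputable def nd255 (i : Nat) : Nat := (Bool.rec (motive := fun _ => Nat) ((Bool.rec (motive := fun _ => Nat) (nl761 i) (nl762 i) (Nat.ble 780288 i))) ((Bool.rec (motive := fun _ => Nat) (nl763 i) (nl764 i) (Nat.ble 782336 i))) (Nat.ble 781312 i))
noncomputable def nd251 (i : Nat) : Nat := (Bool.rec (motive := fun _ => Nat) ((Bool.rec (motive := fun _ => Nat) (nd252 i) (nd253 i) (Nat.ble 771072 i))) ((Bool.rec (motive := fun _ => Nat) (nd254 i) (nd255 i) (Nat.ble 779264 i))) (Nat.ble 775168 i))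
noncomputable def nd235 (i : Nat) : Nat := (Bool.rec (motive := fun _ => Nat) ((Bool.rec (motive := fun _ => Nat) (nd236 i) (nd241 i) (Nat.ble 734208 i))) ((Bool.rec (motive := fun _ => Nat) (nd246 i) (nd251 i) (Nat.ble 766976 i))) (Nat.ble 750592 i))
noncomputable def nd171 (i : Nat) : Nat := (Bool.rec (motive := fun _ => Nat) ((Bool.rec (motive := fun _ => Nat) (nd172 i) (nd193 i) (Nat.ble 586752 i))) ((Bool.rec (motive := fun _ => Nat) (nd214 i) (nd235 i) (Nat.ble 717824 i))) (Nat.ble 652288 i))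
noncomputable def nd259 (i : Nat) : Nat := (Bool.rec (motive := fun _ => Nat) (nl765 i) ((Bool.rec (motive := fun _ => Nat) (nl766 i) (nl767 i) (Nat.ble 785408 i))) (Nat.ble 784384 i))
noncomputable def nd260 (i : Nat) : Nat := (Bool.rec (motive := fun _ => Nat) ((Bool.rec (motive := fun _ => Nat) (nl768 i) (nl769 i) (Nat.ble 787456 i))) ((Bool.rec (motive := fun _ => Nat) (nl770 i) (nl771 i) (Nat.ble 789504 i))) (Nat.ble 788480 i))
noncomputable def nd261 (i : Nat) : Nat := (Bool.rec (motive := fun _ => Nat) ((Bool.rec (motive := fun _ => Nat) (nl772 i) (nl773 i) (Nat.ble 791552 i))) ((Bool.rec (motive := fun _ => Nat) (nl774 i) (nl775 i) (Nat.ble 793600 i))) (Nat.ble 792576 i))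
noncomputable def nd262 (i : Nat) : Nat := (Bool.rec (motive := fun _ => Nat) ((Bool.rec (motive := fun _ => Nat) (nl776 i) (nl777 i) (Nat.ble 795648 i))) ((Bool.rec (motive := fun _ => Nat) (nl778 i) (nl779 i) (Nat.ble 797696 i))) (Nat.ble 796672 i))
noncomputable def nd258 (i : Nat) : Nat := (Bool.rec (motive := fun _ => Nat) ((Bool.rec (motive := fun _ => Nat) (nd259 i) (nd260 i) (Nat.ble 786432 i))) ((Bool.rec (motive := fun _ => Nat) (nd261 i) (nd262 i) (Nat.ble 794624 i))) (Nat.ble 790528 i))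
noncomputable def nd264 (i : Nat) : Nat := (Bool.rec (motive := fun _ => Nat) ((Bool.rec (motive := fun _ => Nat) (nl780 i) (nl781 i) (Nat.ble 799744 i))) ((Bool.rec (motive := fun _ => Nat) (nl782 i) (nl783 i) (Nat.ble 801792 i))) (Nat.ble 800768 i))
noncomputable def nd265 (i : Nat) : Nat := (Bool.rec (motive := fun _ => Nat) ((Bool.rec (motive := fun _ => Nat) (nl784 i) (nl785 i) (Nat.ble 803840 i))) ((Bool.rec (motive := fun _ => Nat) (nl786 i) (nl787 i) (Nat.ble 805888 i))) (Nat.ble 804864 i))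
noncomputable def nd266 (i : Nat) : Nat := (Bool.rec (motive := fun _ => Nat) ((Bool.rec (motive := fun _ => Nat) (nl788 i) (nl789 i) (Nat.ble 807936 i))) ((Bool.rec (motive := fun _ => Nat) (nl790 i) (nl791 i) (Nat.ble 809984 i))) (Nat.ble 808960 i))
noncomputable def nd267 (i : Nat) : Nat := (Bool.rec (motive := fun _ => Nat) ((Bool.rec (motive := fun _ => Nat) (nl792 i) (nl793 i) (Nat.ble 812032 i))) ((Bool.rec (motive := fun _ => Nat) (nl794 i) (nl795 i) (Nat.ble 814080 i))) (Nat.ble 813056 i))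
noncomputable def nd263 (i : Nat) : Nat := (Bool.rec (motive := fun _ => Nat) ((Bool.rec (motive := fun _ => Nat) (nd264 i) (nd265 i) (Nat.ble 802816 i))) ((Bool.rec (motive := fun _ => Nat) (nd266 i) (nd267 i) (Nat.ble 811008 i))) (Nat.ble 806912 i))
noncomputable def nd269 (i : Nat) : Nat := (Bool.rec (motive := fun _ => Nat) ((Bool.rec (motive := fun _ => Nat) (nl796 i) (nl797 i) (Nat.ble 816128 i))) ((Bool.rec (motive := fun _ => Nat) (nl798 i) (nl799 i) (Nat.ble 818176 i))) (Nat.ble 817152 i))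
noncomputable def nd270 (i : Nat) : Nat := (Bool.rec (motive := fun _ => Nat) ((Bool.rec (motive := fun _ => Nat) (nl800 i) (nl801 i) (Nat.ble 820224 i))) ((Bool.rec (motive := fun _ => Nat) (nl802 i) (nl803 i) (Nat.ble 822272 i))) (Nat.ble 821248 i))
noncomputable def nd271 (i : Nat) : Nat := (Bool.rec (motive := fun _ => Nat) ((Bool.rec (motive := fun _ => Nat) (nl804 i) (nl805 i) (Nat.ble 824320 i))) ((Bool.rec (motive := fun _ => Nat) (nl806 i) (nl807 i) (Nat.ble 826368 i))) (Nat.ble 825344 i))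
noncomputable def nd272 (i : Nat) : Nat := (Bool.rec (motive := fun _ => Nat) ((Bool.rec (motive := fun _ => Nat) (nl808 i) (nl809 i) (Nat.ble 828416 i))) ((Bool.rec (motive := fun _ => Nat) (nl810 i) (nl811 i) (Nat.ble 830464 i))) (Nat.ble 829440 i))
noncomputable def nd268 (i : Nat) : Nat := (Bool.rec (motive := fun _ => Nat) ((Bool.rec (motive := fun _ => Nat) (nd269 i) (nd270 i) (Nat.ble 819200 i))) ((Bool.rec (motive := fun _ => Nat) (nd271 i) (nd272 i) (Nat.ble 827392 i))) (Nat.ble 823296 i))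
noncomputable def nd274 (i : Nat) : Nat := (Bool.rec (motive := fun _ => Nat) ((Bool.rec (motive := fun _ => Nat) (nl812 i) (nl813 i) (Nat.ble 832512 i))) ((Bool.rec (motive := fun _ => Nat) (nl814 i) (nl815 i) (Nat.ble 834560 i))) (Nat.ble 833536 i))
noncomputable def nd275 (i : Nat) : Nat := (Bool.rec (motive := fun _ => Nat) ((Bool.rec (motive := fun _ => Nat) (nl816 i) (nl817 i) (Nat.ble 836608 i))) ((Bool.rec (motive := fun _ => Nat) (nl818 i) (nl819 i) (Nat.ble 838656 i))) (Nat.ble 837632 i))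
noncomputable def nd276 (i : Nat) : Nat := (Bool.rec (motive := fun _ => Nat) ((Bool.rec (motive := fun _ => Nat) (nl820 i) (nl821 i) (Nat.ble 840704 i))) ((Bool.rec (motive := fun _ => Nat) (nl822 i) (nl823 i) (Nat.ble 842752 i))) (Nat.ble 841728 i))
noncomputable def nd277 (i : Nat) : Nat := (Bool.rec (motive := fun _ => Nat) ((Bool.rec (motive := fun _ => Nat) (nl824 i) (nl825 i) (Nat.ble 844800 i))) ((Bool.rec (motive := fun _ => Nat) (nl826 i) (nl827 i) (Nat.ble 846848 i))) (Nat.ble 845824 i))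
noncomputable def nd273 (i : Nat) : Nat := (Bool.rec (motive := fun _ => Nat) ((Bool.rec (motive := fun _ => Nat) (nd274 i) (nd275 i) (Nat.ble 835584 i))) ((Bool.rec (motive := fun _ => Nat) (nd276 i) (nd277 i) (Nat.ble 843776 i))) (Nat.ble 839680 i))
noncomputable def nd257 (i : Nat) : Nat := (Bool.rec (motive := fun _ => Nat) ((Bool.rec (motive := fun _ => Nat) (nd258 i) (nd263 i) (Nat.ble 798720 i))) ((Bool.rec (motive := fun _ => Nat) (nd268 i) (nd273 i) (Nat.ble 831488 i))) (Nat.ble 815104 i))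
noncomputable def nd280 (i : Nat) : Nat := (Bool.rec (motive := fun _ => Nat) ((Bool.rec (motive := fun _ => Nat) (nl828 i) (nl829 i) (Nat.ble 848896 i))) ((Bool.rec (motive := fun _ => Nat) (nl830 i) (nl831 i) (Nat.ble 850944 i))) (Nat.ble 849920 i))
noncomputable def nd281 (i : Nat) : Nat := (Bool.rec (motive := fun _ => Nat) ((Bool.rec (motive := fun _ => Nat) (nl832 i) (nl833 i) (Nat.ble 852992 i))) ((Bool.rec (motive := fun _ => Nat) (nl834 i) (nl835 i) (Nat.ble 855040 i))) (Nat.ble 854016 i))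
noncomputable def nd282 (i : Nat) : Nat := (Bool.rec (motive := fun _ => Nat) ((Bool.rec (motive := fun _ => Nat) (nl836 i) (nl837 i) (Nat.ble 857088 i))) ((Bool.rec (motive := fun _ => Nat) (nl838 i) (nl839 i) (Nat.ble 859136 i))) (Nat.ble 858112 i))
noncomputable def nd283 (i : Nat) : Nat := (Bool.rec (motive := fun _ => Nat) ((Bool.rec (motive := fun _ => Nat) (nl840 i) (nl841 i) (Nat.ble 861184 i))) ((Bool.rec (motive := fun _ => Nat) (nl842 i) (nl843 i) (Nat.ble 863232 i))) (Nat.ble 862208 i))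
noncomputable def nd279 (i : Nat) : Nat := (Bool.rec (motive := fun _ => Nat) ((Bool.rec (motive := fun _ => Nat) (nd280 i) (nd281 i) (Nat.ble 851968 i))) ((Bool.rec (motive := fun _ => Nat) (nd282 i) (nd283 i) (Nat.ble 860160 i))) (Nat.ble 856064 i))
noncomputable def nd285 (i : Nat) : Nat := (Bool.rec (motive := fun _ => Nat) ((Bool.rec (motive := fun _ => Nat) (nl844 i) (nl845 i) (Nat.ble 865280 i))) ((Bool.rec (motive := fun _ => Nat) (nl846 i) (nl847 i) (Nat.ble 867328 i))) (Nat.ble 866304 i))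
noncomputable def nd286 (i : Nat) : Nat := (Bool.rec (motive := fun _ => Nat) ((Bool.rec (motive := fun _ => Nat) (nl848 i) (nl849 i) (Nat.ble 869376 i))) ((Bool.rec (motive := fun _ => Nat) (nl850 i) (nl851 i) (Nat.ble 871424 i))) (Nat.ble 870400 i))
noncomputable def nd287 (i : Nat) : Nat := (Bool.rec (motive := fun _ => Nat) ((Bool.rec (motive := fun _ => Nat) (nl852 i) (nl853 i) (Nat.ble 873472 i))) ((Bool.rec (motive := fun _ => Nat) (nl854 i) (nl855 i) (Nat.ble 875520 i))) (Nat.ble 874496 i))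
noncomputable def nd288 (i : Nat) : Nat := (Bool.rec (motive := fun _ => Nat) ((Bool.rec (motive := fun _ => Nat) (nl856 i) (nl857 i) (Nat.ble 877568 i))) ((Bool.rec (motive := fun _ => Nat) (nl858 i) (nl859 i) (Nat.ble 879616 i))) (Nat.ble 878592 i))
noncomputable def nd284 (i : Nat) : Nat := (Bool.rec (motive := fun _ => Nat) ((Bool.rec (motive := fun _ => Nat) (nd285 i) (nd286 i) (Nat.ble 868352 i))) ((Bool.rec (motive := fun _ => Nat) (nd287 i) (nd288 i) (Nat.ble 876544 i))) (Nat.ble 872448 i))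
noncomputable def nd290 (i : Nat) : Nat := (Bool.rec (motive := fun _ => Nat) ((Bool.rec (motive := fun _ => Nat) (nl860 i) (nl861 i) (Nat.ble 881664 i))) ((Bool.rec (motive := fun _ => Nat) (nl862 i) (nl863 i) (Nat.ble 883712 i))) (Nat.ble 882688 i))
noncomputable def nd291 (i : Nat) : Nat := (Bool.rec (motive := fun _ => Nat) ((Bool.rec (motive := fun _ => Nat) (nl864 i) (nl865 i) (Nat.ble 885760 i))) ((Bool.rec (motive := fun _ => Nat) (nl866 i) (nl867 i) (Nat.ble 887808 i))) (Nat.ble 886784 i))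
noncomputable def nd292 (i : Nat) : Nat := (Bool.rec (motive := fun _ => Nat) ((Bool.rec (motive := fun _ => Nat) (nl868 i) (nl869 i) (Nat.ble 889856 i))) ((Bool.rec (motive := fun _ => Nat) (nl870 i) (nl871 i) (Nat.ble 891904 i))) (Nat.ble 890880 i))
noncomputable def nd293 (i : Nat) : Nat := (Bool.rec (motive := fun _ => Nat) ((Bool.rec (motive := fun _ => Nat) (nl872 i) (nl873 i) (Nat.ble 893952 i))) ((Bool.rec (motive := fun _ => Nat) (nl874 i) (nl875 i) (Nat.ble 896000 i))) (Nat.ble 894976 i))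
noncomputable def nd289 (i : Nat) : Nat := (Bool.rec (motive := fun _ => Nat) ((Bool.rec (motive := fun _ => Nat) (nd290 i) (nd291 i) (Nat.ble 884736 i))) ((Bool.rec (motive := fun _ => Nat) (nd292 i) (nd293 i) (Nat.ble 892928 i))) (Nat.ble 888832 i))
noncomputable def nd295 (i : Nat) : Nat := (Bool.rec (motive := fun _ => Nat) ((Bool.rec (motive := fun _ => Nat) (nl876 i) (nl877 i) (Nat.ble 898048 i))) ((Bool.rec (motive := fun _ => Nat) (nl878 i) (nl879 i) (Nat.ble 900096 i))) (Nat.ble 899072 i))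
noncomputable def nd296 (i : Nat) : Nat := (Bool.rec (motive := fun _ => Nat) ((Bool.rec (motive := fun _ => Nat) (nl880 i) (nl881 i) (Nat.ble 902144 i))) ((Bool.rec (motive := fun _ => Nat) (nl882 i) (nl883 i) (Nat.ble 904192 i))) (Nat.ble 903168 i))
noncomputable def nd297 (i : Nat) : Nat := (Bool.rec (motive := fun _ => Nat) ((Bool.rec (motive := fun _ => Nat) (nl884 i) (nl885 i) (Nat.ble 906240 i))) ((Bool.rec (motive := fun _ => Nat) (nl886 i) (nl887 i) (Nat.ble 908288 i))) (Nat.ble 907264 i))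
noncomputable def nd298 (i : Nat) : Nat := (Bool.rec (motive := fun _ => Nat) ((Bool.rec (motive := fun _ => Nat) (nl888 i) (nl889 i) (Nat.ble 910336 i))) ((Bool.rec (motive := fun _ => Nat) (nl890 i) (nl891 i) (Nat.ble 912384 i))) (Nat.ble 911360 i))
noncomputable def nd294 (i : Nat) : Nat := (Bool.rec (motive := fun _ => Nat) ((Bool.rec (motive := fun _ => Nat) (nd295 i) (nd296 i) (Nat.ble 901120 i))) ((Bool.rec (motive := fun _ => Nat) (nd297 i) (nd298 i) (Nat.ble 909312 i))) (Nat.ble 905216 i))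
noncomputable def nd278 (i : Nat) : Nat := (Bool.rec (motive := fun _ => Nat) ((Bool.rec (motive := fun _ => Nat) (nd279 i) (nd284 i) (Nat.ble 864256 i))) ((Bool.rec (motive := fun _ => Nat) (nd289 i) (nd294 i) (Nat.ble 897024 i))) (Nat.ble 880640 i))
noncomputable def nd301 (i : Nat) : Nat := (Bool.rec (motive := fun _ => Nat) ((Bool.rec (motive := fun _ => Nat) (nl892 i) (nl893 i) (Nat.ble 914432 i))) ((Bool.rec (motive := fun _ => Nat) (nl894 i) (nl895 i) (Nat.ble 916480 i))) (Nat.ble 915456 i))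
noncomputable def nd302 (i : Nat) : Nat := (Bool.rec (motive := fun _ => Nat) ((Bool.rec (motive := fun _ => Nat) (nl896 i) (nl897 i) (Nat.ble 918528 i))) ((Bool.rec (motive := fun _ => Nat) (nl898 i) (nl899 i) (Nat.ble 920576 i))) (Nat.ble 919552 i))
noncomputable def nd303 (i : Nat) : Nat := (Bool.rec (motive := fun _ => Nat) ((Bool.rec (motive := fun _ => Nat) (nl900 i) (nl901 i) (Nat.ble 922624 i))) ((Bool.rec (motive := fun _ => Nat) (nl902 i) (nl903 i) (Nat.ble 924672 i))) (Nat.ble 923648 i))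
noncomputable def nd304 (i : Nat) : Nat := (Bool.rec (motive := fun _ => Nat) ((Bool.rec (motive := fun _ => Nat) (nl904 i) (nl905 i) (Nat.ble 926720 i))) ((Bool.rec (motive := fun _ => Nat) (nl906 i) (nl907 i) (Nat.ble 928768 i))) (Nat.ble 927744 i))
noncomputable def nd300 (i : Nat) : Nat := (Bool.rec (motive := fun _ => Nat) ((Bool.rec (motive := fun _ => Nat) (nd301 i) (nd302 i) (Nat.ble 917504 i))) ((Bool.rec (motive := fun _ => Nat) (nd303 i) (nd304 i) (Nat.ble 925696 i))) (Nat.ble 921600 i))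
noncomputable def nd306 (i : Nat) : Nat := (Bool.rec (motive := fun _ => Nat) ((Bool.rec (motive := fun _ => Nat) (nl908 i) (nl909 i) (Nat.ble 930816 i))) ((Bool.rec (motive := fun _ => Nat) (nl910 i) (nl911 i) (Nat.ble 932864 i))) (Nat.ble 931840 i))
noncomputable def nd307 (i : Nat) : Nat := (Bool.rec (motive := fun _ => Nat) ((Bool.rec (motive := fun _ => Nat) (nl912 i) (nl913 i) (Nat.ble 934912 i))) ((Bool.rec (motive := fun _ => Nat) (nl914 i) (nl915 i) (Nat.ble 936960 i))) (Nat.ble 935936 i))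
noncomputable def nd308 (i : Nat) : Nat := (Bool.rec (motive := fun _ => Nat) ((Bool.rec (motive := fun _ => Nat) (nl916 i) (nl917 i) (Nat.ble 939008 i))) ((Bool.rec (motive := fun _ => Nat) (nl918 i) (nl919 i) (Nat.ble 941056 i))) (Nat.ble 940032 i))
noncomputable def nd309 (i : Nat) : Nat := (Bool.rec (motive := fun _ => Nat) ((Bool.rec (motive := fun _ => Nat) (nl920 i) (nl921 i) (Nat.ble 943104 i))) ((Bool.rec (motive := fun _ => Nat) (nl922 i) (nl923 i) (Nat.ble 945152 i))) (Nat.ble 944128 i))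
noncomputable def nd305 (i : Nat) : Nat := (Bool.rec (motive := fun _ => Nat) ((Bool.rec (motive := fun _ => Nat) (nd306 i) (nd307 i) (Nat.ble 933888 i))) ((Bool.rec (motive := fun _ => Nat) (nd308 i) (nd309 i) (Nat.ble 942080 i))) (Nat.ble 937984 i))
noncomputable def nd311 (i : Nat) : Nat := (Bool.rec (motive := fun _ => Nat) ((Bool.rec (motive := fun _ => Nat) (nl924 i) (nl925 i) (Nat.ble 947200 i))) ((Bool.rec (motive := fun _ => Nat) (nl926 i) (nl927 i) (Nat.ble 949248 i))) (Nat.ble 948224 i))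
noncomputable def nd312 (i : Nat) : Nat := (Bool.rec (motive := fun _ => Nat) ((Bool.rec (motive := fun _ => Nat) (nl928 i) (nl929 i) (Nat.ble 951296 i))) ((Bool.rec (motive := fun _ => Nat) (nl930 i) (nl931 i) (Nat.ble 953344 i))) (Nat.ble 952320 i))
noncomputable def nd313 (i : Nat) : Nat := (Bool.rec (motive := fun _ => Nat) ((Bool.rec (motive := fun _ => Nat) (nl932 i) (nl933 i) (Nat.ble 955392 i))) ((Bool.rec (motive := fun _ => Nat) (nl934 i) (nl935 i) (Nat.ble 957440 i))) (Nat.ble 956416 i))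
noncomputable def nd314 (i : Nat) : Nat := (Bool.rec (motive := fun _ => Nat) ((Bool.rec (motive := fun _ => Nat) (nl936 i) (nl937 i) (Nat.ble 959488 i))) ((Bool.rec (motive := fun _ => Nat) (nl938 i) (nl939 i) (Nat.ble 961536 i))) (Nat.ble 960512 i))
noncomputable def nd310 (i : Nat) : Nat := (Bool.rec (motive := fun _ => Nat) ((Bool.rec (motive := fun _ => Nat) (nd311 i) (nd312 i) (Nat.ble 950272 i))) ((Bool.rec (motive := fun _ => Nat) (nd313 i) (nd314 i) (Nat.ble 958464 i))) (Nat.ble 954368 i))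
noncomputable def nd316 (i : Nat) : Nat := (Bool.rec (motive := fun _ => Nat) ((Bool.rec (motive := fun _ => Nat) (nl940 i) (nl941 i) (Nat.ble 963584 i))) ((Bool.rec (motive := fun _ => Nat) (nl942 i) (nl943 i) (Nat.ble 965632 i))) (Nat.ble 964608 i))
noncomputable def nd317 (i : Nat) : Nat := (Bool.rec (motive := fun _ => Nat) ((Bool.rec (motive := fun _ => Nat) (nl944 i) (nl945 i) (Nat.ble 967680 i))) ((Bool.rec (motive := fun _ => Nat) (nl946 i) (nl947 i) (Nat.ble 969728 i))) (Nat.ble 968704 i))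
noncomputable def nd318 (i : Nat) : Nat := (Bool.rec (motive := fun _ => Nat) ((Bool.rec (motive := fun _ => Nat) (nl948 i) (nl949 i) (Nat.ble 971776 i))) ((Bool.rec (motive := fun _ => Nat) (nl950 i) (nl951 i) (Nat.ble 973824 i))) (Nat.ble 972800 i))
noncomputable def nd319 (i : Nat) : Nat := (Bool.rec (motive := fun _ => Nat) ((Bool.rec (motive := fun _ => Nat) (nl952 i) (nl953 i) (Nat.ble 975872 i))) ((Bool.rec (motive := fun _ => Nat) (nl954 i) (nl955 i) (Nat.ble 977920 i))) (Nat.ble 976896 i))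
noncomputable def nd315 (i : Nat) : Nat := (Bool.rec (motive := fun _ => Nat) ((Bool.rec (motive := fun _ => Nat) (nd316 i) (nd317 i) (Nat.ble 966656 i))) ((Bool.rec (motive := fun _ => Nat) (nd318 i) (nd319 i) (Nat.ble 974848 i))) (Nat.ble 970752 i))
noncomputable def nd299 (i : Nat) : Nat := (Bool.rec (motive := fun _ => Nat) ((Bool.rec (motive := fun _ => Nat) (nd300 i) (nd305 i) (Nat.ble 929792 i))) ((Bool.rec (motive := fun _ => Nat) (nd310 i) (nd315 i) (Nat.ble 962560 i))) (Nat.ble 946176 i))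
noncomputable def nd322 (i : Nat) : Nat := (Bool.rec (motive := fun _ => Nat) ((Bool.rec (motive := fun _ => Nat) (nl956 i) (nl957 i) (Nat.ble 979968 i))) ((Bool.rec (motive := fun _ => Nat) (nl958 i) (nl959 i) (Nat.ble 982016 i))) (Nat.ble 980992 i))
noncomputable def nd323 (i : Nat) : Nat := (Bool.rec (motive := fun _ => Nat) ((Bool.rec (motive := fun _ => Nat) (nl960 i) (nl961 i) (Nat.ble 984064 i))) ((Bool.rec (motive := fun _ => Nat) (nl962 i) (nl963 i) (Nat.ble 986112 i))) (Nat.ble 985088 i))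
noncomputable def nd324 (i : Nat) : Nat := (Bool.rec (motive := fun _ => Nat) ((Bool.rec (motive := fun _ => Nat) (nl964 i) (nl965 i) (Nat.ble 988160 i))) ((Bool.rec (motive := fun _ => Nat) (nl966 i) (nl967 i) (Nat.ble 990208 i))) (Nat.ble 989184 i))
noncomputable def nd325 (i : Nat) : Nat := (Bool.rec (motive := fun _ => Nat) ((Bool.rec (motive := fun _ => Nat) (nl968 i) (nl969 i) (Nat.ble 992256 i))) ((Bool.rec (motive := fun _ => Nat) (nl970 i) (nl971 i) (Nat.ble 994304 i))) (Nat.ble 993280 i))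
noncomputable def nd321 (i : Nat) : Nat := (Bool.rec (motive := fun _ => Nat) ((Bool.rec (motive := fun _ => Nat) (nd322 i) (nd323 i) (Nat.ble 983040 i))) ((Bool.rec (motive := fun _ => Nat) (nd324 i) (nd325 i) (Nat.ble 991232 i))) (Nat.ble 987136 i))
noncomputable def nd327 (i : Nat) : Nat := (Bool.rec (motive := fun _ => Nat) ((Bool.rec (motive := fun _ => Nat) (nl972 i) (nl973 i) (Nat.ble 996352 i))) ((Bool.rec (motive := fun _ => Nat) (nl974 i) (nl975 i) (Nat.ble 998400 i))) (Nat.ble 997376 i))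
noncomputable def nd328 (i : Nat) : Nat := (Bool.rec (motive := fun _ => Nat) ((Bool.rec (motive := fun _ => Nat) (nl976 i) (nl977 i) (Nat.ble 1000448 i))) ((Bool.rec (motive := fun _ => Nat) (nl978 i) (nl979 i) (Nat.ble 1002496 i))) (Nat.ble 1001472 i))
noncomputable def nd329 (i : Nat) : Nat := (Bool.rec (motive := fun _ => Nat) ((Bool.rec (motive := fun _ => Nat) (nl980 i) (nl981 i) (Nat.ble 1004544 i))) ((Bool.rec (motive := fun _ => Nat) (nl982 i) (nl983 i) (Nat.ble 1006592 i))) (Nat.ble 1005568 i))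
noncomputable def nd330 (i : Nat) : Nat := (Bool.rec (motive := fun _ => Nat) ((Bool.rec (motive := fun _ => Nat) (nl984 i) (nl985 i) (Nat.ble 1008640 i))) ((Bool.rec (motive := fun _ => Nat) (nl986 i) (nl987 i) (Nat.ble 1010688 i))) (Nat.ble 1009664 i))
noncomputable def nd326 (i : Nat) : Nat := (Bool.rec (motive := fun _ => Nat) ((Bool.rec (motive := fun _ => Nat) (nd327 i) (nd328 i) (Nat.ble 999424 i))) ((Bool.rec (motive := fun _ => Nat) (nd329 i) (nd330 i) (Nat.ble 1007616 i))) (Nat.ble 1003520 i))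
noncomputable def nd332 (i : Nat) : Nat := (Bool.rec (motive := fun _ => Nat) ((Bool.rec (motive := fun _ => Nat) (nl988 i) (nl989 i) (Nat.ble 1012736 i))) ((Bool.rec (motive := fun _ => Nat) (nl990 i) (nl991 i) (Nat.ble 1014784 i))) (Nat.ble 1013760 i))
noncomputable def nd333 (i : Nat) : Nat := (Bool.rec (motive := fun _ => Nat) ((Bool.rec (motive := fun _ => Nat) (nl992 i) (nl993 i) (Nat.ble 1016832 i))) ((Bool.rec (motive := fun _ => Nat) (nl994 i) (nl995 i) (Nat.ble 1018880 i))) (Nat.ble 1017856 i))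
noncomputable def nd334 (i : Nat) : Nat := (Bool.rec (motive := fun _ => Nat) ((Bool.rec (motive := fun _ => Nat) (nl996 i) (nl997 i) (Nat.ble 1020928 i))) ((Bool.rec (motive := fun _ => Nat) (nl998 i) (nl999 i) (Nat.ble 1022976 i))) (Nat.ble 1021952 i))
noncomputable def nd335 (i : Nat) : Nat := (Bool.rec (motive := fun _ => Nat) ((Bool.rec (motive := fun _ => Nat) (nl1000 i) (nl1001 i) (Nat.ble 1025024 i))) ((Bool.rec (motive := fun _ => Nat) (nl1002 i) (nl1003 i) (Nat.ble 1027072 i))) (Nat.ble 1026048 i))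
noncomputable def nd331 (i : Nat) : Nat := (Bool.rec (motive := fun _ => Nat) ((Bool.rec (motive := fun _ => Nat) (nd332 i) (nd333 i) (Nat.ble 1015808 i))) ((Bool.rec (motive := fun _ => Nat) (nd334 i) (nd335 i) (Nat.ble 1024000 i))) (Nat.ble 1019904 i))
noncomputable def nd337 (i : Nat) : Nat := (Bool.rec (motive := fun _ => Nat) ((Bool.rec (motive := fun _ => Nat) (nl1004 i) (nl1005 i) (Nat.ble 1029120 i))) ((Bool.rec (motive := fun _ => Nat) (nl1006 i) (nl1007 i) (Nat.ble 1031168 i))) (Nat.ble 1030144 i))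
noncomputable def nd338 (i : Nat) : Nat := (Bool.rec (motive := fun _ => Nat) ((Bool.rec (motive := fun _ => Nat) (nl1008 i) (nl1009 i) (Nat.ble 1033216 i))) ((Bool.rec (motive := fun _ => Nat) (nl1010 i) (nl1011 i) (Nat.ble 1035264 i))) (Nat.ble 1034240 i))
noncomputable def nd339 (i : Nat) : Nat := (Bool.rec (motive := fun _ => Nat) ((Bool.rec (motive := fun _ => Nat) (nl1012 i) (nl1013 i) (Nat.ble 1037312 i))) ((Bool.rec (motive := fun _ => Nat) (nl1014 i) (nl1015 i) (Nat.ble 1039360 i))) (Nat.ble 1038336 i))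
noncomputable def nd340 (i : Nat) : Nat := (Bool.rec (motive := fun _ => Nat) ((Bool.rec (motive := fun _ => Nat) (nl1016 i) (nl1017 i) (Nat.ble 1041408 i))) ((Bool.rec (motive := fun _ => Nat) (nl1018 i) (nl1019 i) (Nat.ble 1043456 i))) (Nat.ble 1042432 i))
noncomputable def nd336 (i : Nat) : Nat := (Bool.rec (motive := fun _ => Nat) ((Bool.rec (motive := fun _ => Nat) (nd337 i) (nd338 i) (Nat.ble 1032192 i))) ((Bool.rec (motive := fun _ => Nat) (nd339 i) (nd340 i) (Nat.ble 1040384 i))) (Nat.ble 1036288 i))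
noncomputable def nd320 (i : Nat) : Nat := (Bool.rec (motive := fun _ => Nat) ((Bool.rec (motive := fun _ => Nat) (nd321 i) (nd326 i) (Nat.ble 995328 i))) ((Bool.rec (motive := fun _ => Nat) (nd331 i) (nd336 i) (Nat.ble 1028096 i))) (Nat.ble 1011712 i))
noncomputable def nd256 (i : Nat) : Nat := (Bool.rec (motive := fun _ => Nat) ((Bool.rec (motive := fun _ => Nat) (nd257 i) (nd278 i) (Nat.ble 847872 i))) ((Bool.rec (motive := fun _ => Nat) (nd299 i) (nd320 i) (Nat.ble 978944 i))) (Nat.ble 913408 i))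
noncomputable def nd0 (i : Nat) : Nat := (Bool.rec (motive := fun _ => Nat) ((Bool.rec (motive := fun _ => Nat) (nd1 i) (nd86 i) (Nat.ble 261120 i))) ((Bool.rec (motive := fun _ => Nat) (nd171 i) (nd256 i) (Nat.ble 783360 i))) (Nat.ble 522240 i))
noncomputable def nd344 (i : Nat) : Nat := (Bool.rec (motive := fun _ => Nat) (nl1020 i) (nl1021 i) (Nat.ble 1024 i))
noncomputable def nd345 (i : Nat) : Nat := (Bool.rec (motive := fun _ => Nat) (nl1022 i) ((Bool.rec (motive := fun _ => Nat) (nl1023 i) (nl1024 i) (Nat.ble 4096 i))) (Nat.ble 3072 i))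
noncomputable def nd346 (i : Nat) : Nat := (Bool.rec (motive := fun _ => Nat) (nl1025 i) ((Bool.rec (motive := fun _ => Nat) (nl1026 i) (nl1027 i) (Nat.ble 7168 i))) (Nat.ble 6144 i))
noncomputable def nd347 (i : Nat) : Nat := (Bool.rec (motive := fun _ => Nat) (nl1028 i) ((Bool.rec (motive := fun _ => Nat) (nl1029 i) (nl1030 i) (Nat.ble 10240 i))) (Nat.ble 9216 i))
noncomputable def nd343 (i : Nat) : Nat := (Bool.rec (motive := fun _ => Nat) ((Bool.rec (motive := fun _ => Nat) (nd344 i) (nd345 i) (Nat.ble 2048 i))) ((Bool.rec (motive := fun _ => Nat) (nd346 i) (nd347 i) (Nat.ble 8192 i))) (Nat.ble 5120 i))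
noncomputable def nd349 (i : Nat) : Nat := (Bool.rec (motive := fun _ => Nat) (nl1031 i) ((Bool.rec (motive := fun _ => Nat) (nl1032 i) (nl1033 i) (Nat.ble 13312 i))) (Nat.ble 12288 i))
noncomputable def nd350 (i : Nat) : Nat := (Bool.rec (motive := fun _ => Nat) (nl1034 i) ((Bool.rec (motive := fun _ => Nat) (nl1035 i) (nl1036 i) (Nat.ble 16384 i))) (Nat.ble 15360 i))
noncomputable def nd351 (i : Nat) : Nat := (Bool.rec (motive := fun _ => Nat) (nl1037 i) ((Bool.rec (motive := fun _ => Nat) (nl1038 i) (nl1039 i) (Nat.ble 19456 i))) (Nat.ble 18432 i))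
noncomputable def nd352 (i : Nat) : Nat := (Bool.rec (motive := fun _ => Nat) (nl1040 i) ((Bool.rec (motive := fun _ => Nat) (nl1041 i) (nl1042 i) (Nat.ble 22528 i))) (Nat.ble 21504 i))
noncomputable def nd348 (i : Nat) : Nat := (Bool.rec (motive := fun _ => Nat) ((Bool.rec (motive := fun _ => Nat) (nd349 i) (nd350 i) (Nat.ble 14336 i))) ((Bool.rec (motive := fun _ => Nat) (nd351 i) (nd352 i) (Nat.ble 20480 i))) (Nat.ble 17408 i))
noncomputable def nd354 (i : Nat) : Nat := (Bool.rec (motive := fun _ => Nat) (nl1043 i) ((Bool.rec (motive := fun _ => Nat) (nl1044 i) (nl1045 i) (Nat.ble 25600 i))) (Nat.ble 24576 i))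
noncomputable def nd355 (i : Nat) : Nat := (Bool.rec (motive := fun _ => Nat) (nl1046 i) ((Bool.rec (motive := fun _ => Nat) (nl1047 i) (nl1048 i) (Nat.ble 28672 i))) (Nat.ble 27648 i))
noncomputable def nd356 (i : Nat) : Nat := (Bool.rec (motive := fun _ => Nat) (nl1049 i) ((Bool.rec (motive := fun _ => Nat) (nl1050 i) (nl1051 i) (Nat.ble 31744 i))) (Nat.ble 30720 i))
noncomputable def nd357 (i : Nat) : Nat := (Bool.rec (motive := fun _ => Nat) (nl1052 i) ((Bool.rec (motive := fun _ => Nat) (nl1053 i) (nl1054 i) (Nat.ble 34816 i))) (Nat.ble 33792 i))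
noncomputable def nd353 (i : Nat) : Nat := (Bool.rec (motive := fun _ => Nat) ((Bool.rec (motive := fun _ => Nat) (nd354 i) (nd355 i) (Nat.ble 26624 i))) ((Bool.rec (motive := fun _ => Nat) (nd356 i) (nd357 i) (Nat.ble 32768 i))) (Nat.ble 29696 i))
noncomputable def nd359 (i : Nat) : Nat := (Bool.rec (motive := fun _ => Nat) (nl1055 i) ((Bool.rec (motive := fun _ => Nat) (nl1056 i) (nl1057 i) (Nat.ble 37888 i))) (Nat.ble 36864 i))
noncomputable def nd360 (i : Nat) : Nat := (Bool.rec (motive := fun _ => Nat) (nl1058 i) ((Bool.rec (motive := fun _ => Nat) (nl1059 i) (nl1060 i) (Nat.ble 40960 i))) (Nat.ble 39936 i))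
noncomputable def nd361 (i : Nat) : Nat := (Bool.rec (motive := fun _ => Nat) (nl1061 i) ((Bool.rec (motive := fun _ => Nat) (nl1062 i) (nl1063 i) (Nat.ble 44032 i))) (Nat.ble 43008 i))
noncomputable def nd362 (i : Nat) : Nat := (Bool.rec (motive := fun _ => Nat) (nl1064 i) ((Bool.rec (motive := fun _ => Nat) (nl1065 i) (nl1066 i) (Nat.ble 47104 i))) (Nat.ble 46080 i))
noncomputable def nd358 (i : Nat) : Nat := (Bool.rec (motive := fun _ => Nat) ((Bool.rec (motive := fun _ => Nat) (nd359 i) (nd360 i) (Nat.ble 38912 i))) ((Bool.rec (motive := fun _ => Nat) (nd361 i) (nd362 i) (Nat.ble 45056 i))) (Nat.ble 41984 i))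
noncomputable def nd342 (i : Nat) : Nat := (Bool.rec (motive := fun _ => Nat) ((Bool.rec (motive := fun _ => Nat) (nd343 i) (nd348 i) (Nat.ble 11264 i))) ((Bool.rec (motive := fun _ => Nat) (nd353 i) (nd358 i) (Nat.ble 35840 i))) (Nat.ble 23552 i))
noncomputable def nd365 (i : Nat) : Nat := (Bool.rec (motive := fun _ => Nat) (nl1067 i) (nl1068 i) (Nat.ble 49152 i))
noncomputable def nd366 (i : Nat) : Nat := (Bool.rec (motive := fun _ => Nat) (nl1069 i) ((Bool.rec (motive := fun _ => Nat) (nl1070 i) (nl1071 i) (Nat.ble 52224 i))) (Nat.ble 51200 i))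
noncomputable def nd367 (i : Nat) : Nat := (Bool.rec (motive := fun _ => Nat) (nl1072 i) ((Bool.rec (motive := fun _ => Nat) (nl1073 i) (nl1074 i) (Nat.ble 55296 i))) (Nat.ble 54272 i))
noncomputable def nd368 (i : Nat) : Nat := (Bool.rec (motive := fun _ => Nat) (nl1075 i) ((Bool.rec (motive := fun _ => Nat) (nl1076 i) (nl1077 i) (Nat.ble 58368 i))) (Nat.ble 57344 i))
noncomputable def nd364 (i : Nat) : Nat := (Bool.rec (motive := fun _ => Nat) ((Bool.rec (motive := fun _ => Nat) (nd365 i) (nd366 i) (Nat.ble 50176 i))) ((Bool.rec (motive := fun _ => Nat) (nd367 i) (nd368 i) (Nat.ble 56320 i))) (Nat.ble 53248 i))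
noncomputable def nd370 (i : Nat) : Nat := (Bool.rec (motive := fun _ => Nat) (nl1078 i) ((Bool.rec (motive := fun _ => Nat) (nl1079 i) (nl1080 i) (Nat.ble 61440 i))) (Nat.ble 60416 i))
noncomputable def nd371 (i : Nat) : Nat := (Bool.rec (motive := fun _ => Nat) (nl1081 i) ((Bool.rec (motive := fun _ => Nat) (nl1082 i) (nl1083 i) (Nat.ble 64512 i))) (Nat.ble 63488 i))
noncomputable def nd372 (i : Nat) : Nat := (Bool.rec (motive := fun _ => Nat) (nl1084 i) ((Bool.rec (motive := fun _ => Nat) (nl1085 i) (nl1086 i) (Nat.ble 67584 i))) (Nat.ble 66560 i))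
noncomputable def nd373 (i : Nat) : Nat := (Bool.rec (motive := fun _ => Nat) (nl1087 i) ((Bool.rec (motive := fun _ => Nat) (nl1088 i) (nl1089 i) (Nat.ble 70656 i))) (Nat.ble 69632 i))
noncomputable def nd369 (i : Nat) : Nat := (Bool.rec (motive := fun _ => Nat) ((Bool.rec (motive := fun _ => Nat) (nd370 i) (nd371 i) (Nat.ble 62464 i))) ((Bool.rec (motive := fun _ => Nat) (nd372 i) (nd373 i) (Nat.ble 68608 i))) (Nat.ble 65536 i))
noncomputable def nd375 (i : Nat) : Nat := (Bool.rec (motive := fun _ => Nat) (nl1090 i) ((Bool.rec (motive := fun _ => Nat) (nl1091 i) (nl1092 i) (Nat.ble 73728 i))) (Nat.ble 72704 i))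
noncomputable def nd376 (i : Nat) : Nat := (Bool.rec (motive := fun _ => Nat) (nl1093 i) ((Bool.rec (motive := fun _ => Nat) (nl1094 i) (nl1095 i) (Nat.ble 76800 i))) (Nat.ble 75776 i))
noncomputable def nd377 (i : Nat) : Nat := (Bool.rec (motive := fun _ => Nat) (nl1096 i) ((Bool.rec (motive := fun _ => Nat) (nl1097 i) (nl1098 i) (Nat.ble 79872 i))) (Nat.ble 78848 i))
noncomputable def nd378 (i : Nat) : Nat := (Bool.rec (motive := fun _ => Nat) (nl1099 i) ((Bool.rec (motive := fun _ => Nat) (nl1100 i) (nl1101 i) (Nat.ble 82944 i))) (Nat.ble 81920 i))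
noncomputable def nd374 (i : Nat) : Nat := (Bool.rec (motive := fun _ => Nat) ((Bool.rec (motive := fun _ => Nat) (nd375 i) (nd376 i) (Nat.ble 74752 i))) ((Bool.rec (motive := fun _ => Nat) (nd377 i) (nd378 i) (Nat.ble 80896 i))) (Nat.ble 77824 i))
noncomputable def nd380 (i : Nat) : Nat := (Bool.rec (motive := fun _ => Nat) (nl1102 i) ((Bool.rec (motive := fun _ => Nat) (nl1103 i) (nl1104 i) (Nat.ble 86016 i))) (Nat.ble 84992 i))
noncomputable def nd381 (i : Nat) : Nat := (Bool.rec (motive := fun _ => Nat) (nl1105 i) ((Bool.rec (motive := fun _ => Nat) (nl1106 i) (nl1107 i) (Nat.ble 89088 i))) (Nat.ble 88064 i))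
noncomputable def nd382 (i : Nat) : Nat := (Bool.rec (motive := fun _ => Nat) (nl1108 i) ((Bool.rec (motive := fun _ => Nat) (nl1109 i) (nl1110 i) (Nat.ble 92160 i))) (Nat.ble 91136 i))
noncomputable def nd383 (i : Nat) : Nat := (Bool.rec (motive := fun _ => Nat) (nl1111 i) ((Bool.rec (motive := fun _ => Nat) (nl1112 i) (nl1113 i) (Nat.ble 95232 i))) (Nat.ble 94208 i))
noncomputable def nd379 (i : Nat) : Nat := (Bool.rec (motive := fun _ => Nat) ((Bool.rec (motive := fun _ => Nat) (nd380 i) (nd381 i) (Nat.ble 87040 i))) ((Bool.rec (motive := fun _ => Nat) (nd382 i) (nd383 i) (Nat.ble 93184 i))) (Nat.ble 90112 i))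
noncomputable def nd363 (i : Nat) : Nat := (Bool.rec (motive := fun _ => Nat) ((Bool.rec (motive := fun _ => Nat) (nd364 i) (nd369 i) (Nat.ble 59392 i))) ((Bool.rec (motive := fun _ => Nat) (nd374 i) (nd379 i) (Nat.ble 83968 i))) (Nat.ble 71680 i))
noncomputable def nd386 (i : Nat) : Nat := (Bool.rec (motive := fun _ => Nat) (nl1114 i) (nl1115 i) (Nat.ble 97280 i))
noncomputable def nd387 (i : Nat) : Nat := (Bool.rec (motive := fun _ => Nat) (nl1116 i) ((Bool.rec (motive := fun _ => Nat) (nl1117 i) (nl1118 i) (Nat.ble 100352 i))) (Nat.ble 99328 i))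
noncomputable def nd388 (i : Nat) : Nat := (Bool.rec (motive := fun _ => Nat) (nl1119 i) ((Bool.rec (motive := fun _ => Nat) (nl1120 i) (nl1121 i) (Nat.ble 103424 i))) (Nat.ble 102400 i))
noncomputable def nd389 (i : Nat) : Nat := (Bool.rec (motive := fun _ => Nat) (nl1122 i) ((Bool.rec (motive := fun _ => Nat) (nl1123 i) (nl1124 i) (Nat.ble 106496 i))) (Nat.ble 105472 i))
noncomputable def nd385 (i : Nat) : Nat := (Bool.rec (motive := fun _ => Nat) ((Bool.rec (motive := fun _ => Nat) (nd386 i) (nd387 i) (Nat.ble 98304 i))) ((Bool.rec (motive := fun _ => Nat) (nd388 i) (nd389 i) (Nat.ble 104448 i))) (Nat.ble 101376 i))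
noncomputable def nd391 (i : Nat) : Nat := (Bool.rec (motive := fun _ => Nat) (nl1125 i) ((Bool.rec (motive := fun _ => Nat) (nl1126 i) (nl1127 i) (Nat.ble 109568 i))) (Nat.ble 108544 i))
noncomputable def nd392 (i : Nat) : Nat := (Bool.rec (motive := fun _ => Nat) (nl1128 i) ((Bool.rec (motive := fun _ => Nat) (nl1129 i) (nl1130 i) (Nat.ble 112640 i))) (Nat.ble 111616 i))
noncomputable def nd393 (i : Nat) : Nat := (Bool.rec (motive := fun _ => Nat) (nl1131 i) ((Bool.rec (motive := fun _ => Nat) (nl1132 i) (nl1133 i) (Nat.ble 115712 i))) (Nat.ble 114688 i))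
noncomputable def nd394 (i : Nat) : Nat := (Bool.rec (motive := fun _ => Nat) (nl1134 i) ((Bool.rec (motive := fun _ => Nat) (nl1135 i) (nl1136 i) (Nat.ble 118784 i))) (Nat.ble 117760 i))
noncomputable def nd390 (i : Nat) : Nat := (Bool.rec (motive := fun _ => Nat) ((Bool.rec (motive := fun _ => Nat) (nd391 i) (nd392 i) (Nat.ble 110592 i))) ((Bool.rec (motive := fun _ => Nat) (nd393 i) (nd394 i) (Nat.ble 116736 i))) (Nat.ble 113664 i))
noncomputable def nd396 (i : Nat) : Nat := (Bool.rec (motive := fun _ => Nat) (nl1137 i) ((Bool.rec (motive := fun _ => Nat) (nl1138 i) (nl1139 i) (Nat.ble 121856 i))) (Nat.ble 120832 i))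
noncomputable def nd397 (i : Nat) : Nat := (Bool.rec (motive := fun _ => Nat) (nl1140 i) ((Bool.rec (motive := fun _ => Nat) (nl1141 i) (nl1142 i) (Nat.ble 124928 i))) (Nat.ble 123904 i))
noncomputable def nd398 (i : Nat) : Nat := (Bool.rec (motive := fun _ => Nat) (nl1143 i) ((Bool.rec (motive := fun _ => Nat) (nl1144 i) (nl1145 i) (Nat.ble 128000 i))) (Nat.ble 126976 i))
noncomputable def nd399 (i : Nat) : Nat := (Bool.rec (motive := fun _ => Nat) (nl1146 i) ((Bool.rec (motive := fun _ => Nat) (nl1147 i) (nl1148 i) (Nat.ble 131072 i))) (Nat.ble 130048 i))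
noncomputable def nd395 (i : Nat) : Nat := (Bool.rec (motive := fun _ => Nat) ((Bool.rec (motive := fun _ => Nat) (nd396 i) (nd397 i) (Nat.ble 122880 i))) ((Bool.rec (motive := fun _ => Nat) (nd398 i) (nd399 i) (Nat.ble 129024 i))) (Nat.ble 125952 i))
noncomputable def nd401 (i : Nat) : Nat := (Bool.rec (motive := fun _ => Nat) (nl1149 i) ((Bool.rec (motive := fun _ => Nat) (nl1150 i) (nl1151 i) (Nat.ble 134144 i))) (Nat.ble 133120 i))
noncomputable def nd402 (i : Nat) : Nat := (Bool.rec (motive := fun _ => Nat) (nl1152 i) ((Bool.rec (motive := fun _ => Nat) (nl1153 i) (nl1154 i) (Nat.ble 137216 i))) (Nat.ble 136192 i))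
noncomputable def nd403 (i : Nat) : Nat := (Bool.rec (motive := fun _ => Nat) (nl1155 i) ((Bool.rec (motive := fun _ => Nat) (nl1156 i) (nl1157 i) (Nat.ble 140288 i))) (Nat.ble 139264 i))
noncomputable def nd404 (i : Nat) : Nat := (Bool.rec (motive := fun _ => Nat) (nl1158 i) ((Bool.rec (motive := fun _ => Nat) (nl1159 i) (nl1160 i) (Nat.ble 143360 i))) (Nat.ble 142336 i))
noncomputable def nd400 (i : Nat) : Nat := (Bool.rec (motive := fun _ => Nat) ((Bool.rec (motive := fun _ => Nat) (nd401 i) (nd402 i) (Nat.ble 135168 i))) ((Bool.rec (motive := fun _ => Nat) (nd403 i) (nd404 i) (Nat.ble 141312 i))) (Nat.ble 138240 i))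
noncomputable def nd384 (i : Nat) : Nat := (Bool.rec (motive := fun _ => Nat) ((Bool.rec (motive := fun _ => Nat) (nd385 i) (nd390 i) (Nat.ble 107520 i))) ((Bool.rec (motive := fun _ => Nat) (nd395 i) (nd400 i) (Nat.ble 132096 i))) (Nat.ble 119808 i))
noncomputable def nd407 (i : Nat) : Nat := (Bool.rec (motive := fun _ => Nat) (nl1161 i) ((Bool.rec (motive := fun _ => Nat) (nl1162 i) (nl1163 i) (Nat.ble 146432 i))) (Nat.ble 145408 i))
noncomputable def nd408 (i : Nat) : Nat := (Bool.rec (motive := fun _ => Nat) (nl1164 i) ((Bool.rec (motive := fun _ => Nat) (nl1165 i) (nl1166 i) (Nat.ble 149504 i))) (Nat.ble 148480 i))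
noncomputable def nd409 (i : Nat) : Nat := (Bool.rec (motive := fun _ => Nat) (nl1167 i) ((Bool.rec (motive := fun _ => Nat) (nl1168 i) (nl1169 i) (Nat.ble 152576 i))) (Nat.ble 151552 i))
noncomputable def nd410 (i : Nat) : Nat := (Bool.rec (motive := fun _ => Nat) (nl1170 i) ((Bool.rec (motive := fun _ => Nat) (nl1171 i) (nl1172 i) (Nat.ble 155648 i))) (Nat.ble 154624 i))
noncomputable def nd406 (i : Nat) : Nat := (Bool.rec (motive := fun _ => Nat) ((Bool.rec (motive := fun _ => Nat) (nd407 i) (nd408 i) (Nat.ble 147456 i))) ((Bool.rec (motive := fun _ => Nat) (nd409 i) (nd410 i) (Nat.ble 153600 i))) (Nat.ble 150528 i))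
noncomputable def nd412 (i : Nat) : Nat := (Bool.rec (motive := fun _ => Nat) (nl1173 i) ((Bool.rec (motive := fun _ => Nat) (nl1174 i) (nl1175 i) (Nat.ble 158720 i))) (Nat.ble 157696 i))
noncomputable def nd413 (i : Nat) : Nat := (Bool.rec (motive := fun _ => Nat) (nl1176 i) ((Bool.rec (motive := fun _ => Nat) (nl1177 i) (nl1178 i) (Nat.ble 161792 i))) (Nat.ble 160768 i))
noncomputable def nd414 (i : Nat) : Nat := (Bool.rec (motive := fun _ => Nat) (nl1179 i) ((Bool.rec (motive := fun _ => Nat) (nl1180 i) (nl1181 i) (Nat.ble 164864 i))) (Nat.ble 163840 i))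
noncomputable def nd415 (i : Nat) : Nat := (Bool.rec (motive := fun _ => Nat) (nl1182 i) ((Bool.rec (motive := fun _ => Nat) (nl1183 i) (nl1184 i) (Nat.ble 167936 i))) (Nat.ble 166912 i))
noncomputable def nd411 (i : Nat) : Nat := (Bool.rec (motive := fun _ => Nat) ((Bool.rec (motive := fun _ => Nat) (nd412 i) (nd413 i) (Nat.ble 159744 i))) ((Bool.rec (motive := fun _ => Nat) (nd414 i) (nd415 i) (Nat.ble 165888 i))) (Nat.ble 162816 i))
noncomputable def nd417 (i : Nat) : Nat := (Bool.rec (motive := fun _ => Nat) (nl1185 i) ((Bool.rec (motive := fun _ => Nat) (nl1186 i) (nl1187 i) (Nat.ble 171008 i))) (Nat.ble 169984 i))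
noncomputable def nd418 (i : Nat) : Nat := (Bool.rec (motive := fun _ => Nat) (nl1188 i) ((Bool.rec (motive := fun _ => Nat) (nl1189 i) (nl1190 i) (Nat.ble 174080 i))) (Nat.ble 173056 i))
noncomputable def nd419 (i : Nat) : Nat := (Bool.rec (motive := fun _ => Nat) (nl1191 i) ((Bool.rec (motive := fun _ => Nat) (nl1192 i) (nl1193 i) (Nat.ble 177152 i))) (Nat.ble 176128 i))
noncomputable def nd420 (i : Nat) : Nat := (Bool.rec (motive := fun _ => Nat) (nl1194 i) ((Bool.rec (motive := fun _ => Nat) (nl1195 i) (nl1196 i) (Nat.ble 180224 i))) (Nat.ble 179200 i))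
noncomputable def nd416 (i : Nat) : Nat := (Bool.rec (motive := fun _ => Nat) ((Bool.rec (motive := fun _ => Nat) (nd417 i) (nd418 i) (Nat.ble 172032 i))) ((Bool.rec (motive := fun _ => Nat) (nd419 i) (nd420 i) (Nat.ble 178176 i))) (Nat.ble 175104 i))
noncomputable def nd422 (i : Nat) : Nat := (Bool.rec (motive := fun _ => Nat) (nl1197 i) ((Bool.rec (motive := fun _ => Nat) (nl1198 i) (nl1199 i) (Nat.ble 183296 i))) (Nat.ble 182272 i))
noncomputable def nd423 (i : Nat) : Nat := (Bool.rec (motive := fun _ => Nat) (nl1200 i) ((Bool.rec (motive := fun _ => Nat) (nl1201 i) (nl1202 i) (Nat.ble 186368 i))) (Nat.ble 185344 i))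
noncomputable def nd424 (i : Nat) : Nat := (Bool.rec (motive := fun _ => Nat) (nl1203 i) ((Bool.rec (motive := fun _ => Nat) (nl1204 i) (nl1205 i) (Nat.ble 189440 i))) (Nat.ble 188416 i))
noncomputable def nd425 (i : Nat) : Nat := (Bool.rec (motive := fun _ => Nat) (nl1206 i) ((Bool.rec (motive := fun _ => Nat) (nl1207 i) (nl1208 i) (Nat.ble 192512 i))) (Nat.ble 191488 i))
noncomputable def nd421 (i : Nat) : Nat := (Bool.rec (motive := fun _ => Nat) ((Bool.rec (motive := fun _ => Nat) (nd422 i) (nd423 i) (Nat.ble 184320 i))) ((Bool.rec (motive := fun _ => Nat) (nd424 i) (nd425 i) (Nat.ble 190464 i))) (Nat.ble 187392 i))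
noncomputable def nd405 (i : Nat) : Nat := (Bool.rec (motive := fun _ => Nat) ((Bool.rec (motive := fun _ => Nat) (nd406 i) (nd411 i) (Nat.ble 156672 i))) ((Bool.rec (motive := fun _ => Nat) (nd416 i) (nd421 i) (Nat.ble 181248 i))) (Nat.ble 168960 i))
noncomputable def nd341 (i : Nat) : Nat := (Bool.rec (motive := fun _ => Nat) ((Bool.rec (motive := fun _ => Nat) (nd342 i) (nd363 i) (Nat.ble 48128 i))) ((Bool.rec (motive := fun _ => Nat) (nd384 i) (nd405 i) (Nat.ble 144384 i))) (Nat.ble 96256 i))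
noncomputable def nd431 (i : Nat) : Nat := (Bool.rec (motive := fun _ => Nat) (nl1210 i) (nl1211 i) (Nat.ble 2048 i))
noncomputable def nd432 (i : Nat) : Nat := (Bool.rec (motive := fun _ => Nat) (nl1213 i) (nl1214 i) (Nat.ble 5120 i))
noncomputable def nd430 (i : Nat) : Nat := (Bool.rec (motive := fun _ => Nat) ((Bool.rec (motive := fun _ => Nat) (nl1209 i) (nd431 i) (Nat.ble 1024 i))) ((Bool.rec (motive := fun _ => Nat) (nl1212 i) (nd432 i) (Nat.ble 4096 i))) (Nat.ble 3072 i))
noncomputable def nd434 (i : Nat) : Nat := (Bool.rec (motive := fun _ => Nat) (nl1216 i) (nl1217 i) (Nat.ble 8192 i))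
noncomputable def nd435 (i : Nat) : Nat := (Bool.rec (motive := fun _ => Nat) (nl1218 i) (nl1219 i) (Nat.ble 10240 i))
noncomputable def nd436 (i : Nat) : Nat := (Bool.rec (motive := fun _ => Nat) (nl1220 i) (nl1221 i) (Nat.ble 12288 i))
noncomputable def nd433 (i : Nat) : Nat := (Bool.rec (motive := fun _ => Nat) ((Bool.rec (motive := fun _ => Nat) (nl1215 i) (nd434 i) (Nat.ble 7168 i))) ((Bool.rec (motive := fun _ => Nat) (nd435 i) (nd436 i) (Nat.ble 11264 i))) (Nat.ble 9216 i))
noncomputable def nd438 (i : Nat) : Nat := (Bool.rec (motive := fun _ => Nat) (nl1223 i) (nl1224 i) (Nat.ble 15360 i))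
noncomputable def nd439 (i : Nat) : Nat := (Bool.rec (motive := fun _ => Nat) (nl1226 i) (nl1227 i) (Nat.ble 18432 i))
noncomputable def nd437 (i : Nat) : Nat := (Bool.rec (motive := fun _ => Nat) ((Bool.rec (motive := fun _ => Nat) (nl1222 i) (nd438 i) (Nat.ble 14336 i))) ((Bool.rec (motive := fun _ => Nat) (nl1225 i) (nd439 i) (Nat.ble 17408 i))) (Nat.ble 16384 i))
noncomputable def nd441 (i : Nat) : Nat := (Bool.rec (motive := fun _ => Nat) (nl1229 i) (nl1230 i) (Nat.ble 21504 i))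
noncomputable def nd442 (i : Nat) : Nat := (Bool.rec (motive := fun _ => Nat) (nl1231 i) (nl1232 i) (Nat.ble 23552 i))
noncomputable def nd443 (i : Nat) : Nat := (Bool.rec (motive := fun _ => Nat) (nl1233 i) (nl1234 i) (Nat.ble 25600 i))
noncomputable def nd440 (i : Nat) : Nat := (Bool.rec (motive := fun _ => Nat) ((Bool.rec (motive := fun _ => Nat) (nl1228 i) (nd441 i) (Nat.ble 20480 i))) ((Bool.rec (motive := fun _ => Nat) (nd442 i) (nd443 i) (Nat.ble 24576 i))) (Nat.ble 22528 i))
noncomputable def nd429 (i : Nat) : Nat := (Bool.rec (motive := fun _ => Nat) ((Bool.rec (motive := fun _ => Nat) (nd430 i) (nd433 i) (Nat.ble 6144 i))) ((Bool.rec (motive := fun _ => Nat) (nd437 i) (nd440 i) (Nat.ble 19456 i))) (Nat.ble 13312 i))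
noncomputable def nd446 (i : Nat) : Nat := (Bool.rec (motive := fun _ => Nat) (nl1236 i) (nl1237 i) (Nat.ble 28672 i))
noncomputable def nd447 (i : Nat) : Nat := (Bool.rec (motive := fun _ => Nat) (nl1239 i) (nl1240 i) (Nat.ble 31744 i))
noncomputable def nd445 (i : Nat) : Nat := (Bool.rec (motive := fun _ => Nat) ((Bool.rec (motive := fun _ => Nat) (nl1235 i) (nd446 i) (Nat.ble 27648 i))) ((Bool.rec (motive := fun _ => Nat) (nl1238 i) (nd447 i) (Nat.ble 30720 i))) (Nat.ble 29696 i))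
noncomputable def nd449 (i : Nat) : Nat := (Bool.rec (motive := fun _ => Nat) (nl1242 i) (nl1243 i) (Nat.ble 34816 i))
noncomputable def nd450 (i : Nat) : Nat := (Bool.rec (motive := fun _ => Nat) (nl1244 i) (nl1245 i) (Nat.ble 36864 i))
noncomputable def nd451 (i : Nat) : Nat := (Bool.rec (motive := fun _ => Nat) (nl1246 i) (nl1247 i) (Nat.ble 38912 i))
noncomputable def nd448 (i : Nat) : Nat := (Bool.rec (motive := fun _ => Nat) ((Bool.rec (motive := fun _ => Nat) (nl1241 i) (nd449 i) (Nat.ble 33792 i))) ((Bool.rec (motive := fun _ => Nat) (nd450 i) (nd451 i) (Nat.ble 37888 i))) (Nat.ble 35840 i))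
noncomputable def nd453 (i : Nat) : Nat := (Bool.rec (motive := fun _ => Nat) (nl1249 i) (nl1250 i) (Nat.ble 41984 i))
noncomputable def nd454 (i : Nat) : Nat := (Bool.rec (motive := fun _ => Nat) (nl1252 i) (nl1253 i) (Nat.ble 45056 i))
noncomputable def nd452 (i : Nat) : Nat := (Bool.rec (motive := fun _ => Nat) ((Bool.rec (motive := fun _ => Nat) (nl1248 i) (nd453 i) (Nat.ble 40960 i))) ((Bool.rec (motive := fun _ => Nat) (nl1251 i) (nd454 i) (Nat.ble 44032 i))) (Nat.ble 43008 i))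
noncomputable def nd456 (i : Nat) : Nat := (Bool.rec (motive := fun _ => Nat) (nl1255 i) (nl1256 i) (Nat.ble 48128 i))
noncomputable def nd457 (i : Nat) : Nat := (Bool.rec (motive := fun _ => Nat) (nl1257 i) (nl1258 i) (Nat.ble 50176 i))
noncomputable def nd458 (i : Nat) : Nat := (Bool.rec (motive := fun _ => Nat) (nl1259 i) (nl1260 i) (Nat.ble 52224 i))
noncomputable def nd455 (i : Nat) : Nat := (Bool.rec (motive := fun _ => Nat) ((Bool.rec (motive := fun _ => Nat) (nl1254 i) (nd456 i) (Nat.ble 47104 i))) ((Bool.rec (motive := fun _ => Nat) (nd457 i) (nd458 i) (Nat.ble 51200 i))) (Nat.ble 49152 i))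
noncomputable def nd444 (i : Nat) : Nat := (Bool.rec (motive := fun _ => Nat) ((Bool.rec (motive := fun _ => Nat) (nd445 i) (nd448 i) (Nat.ble 32768 i))) ((Bool.rec (motive := fun _ => Nat) (nd452 i) (nd455 i) (Nat.ble 46080 i))) (Nat.ble 39936 i))
noncomputable def nd461 (i : Nat) : Nat := (Bool.rec (motive := fun _ => Nat) (nl1262 i) (nl1263 i) (Nat.ble 55296 i))
noncomputable def nd462 (i : Nat) : Nat := (Bool.rec (motive := fun _ => Nat) (nl1265 i) (nl1266 i) (Nat.ble 58368 i))
noncomputable def nd460 (i : Nat) : Nat := (Bool.rec (motive := fun _ => Nat) ((Bool.rec (motive := fun _ => Nat) (nl1261 i) (nd461 i) (Nat.ble 54272 i))) ((Bool.rec (motive := fun _ => Nat) (nl1264 i) (nd462 i) (Nat.ble 57344 i))) (Nat.ble 56320 i))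
noncomputable def nd464 (i : Nat) : Nat := (Bool.rec (motive := fun _ => Nat) (nl1268 i) (nl1269 i) (Nat.ble 61440 i))
noncomputable def nd465 (i : Nat) : Nat := (Bool.rec (motive := fun _ => Nat) (nl1270 i) (nl1271 i) (Nat.ble 63488 i))
noncomputable def nd466 (i : Nat) : Nat := (Bool.rec (motive := fun _ => Nat) (nl1272 i) (nl1273 i) (Nat.ble 65536 i))
noncomputable def nd463 (i : Nat) : Nat := (Bool.rec (motive := fun _ => Nat) ((Bool.rec (motive := fun _ => Nat) (nl1267 i) (nd464 i) (Nat.ble 60416 i))) ((Bool.rec (motive := fun _ => Nat) (nd465 i) (nd466 i) (Nat.ble 64512 i))) (Nat.ble 62464 i))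
noncomputable def nd468 (i : Nat) : Nat := (Bool.rec (motive := fun _ => Nat) (nl1275 i) (nl1276 i) (Nat.ble 68608 i))
noncomputable def nd469 (i : Nat) : Nat := (Bool.rec (motive := fun _ => Nat) (nl1278 i) (nl1279 i) (Nat.ble 71680 i))
noncomputable def nd467 (i : Nat) : Nat := (Bool.rec (motive := fun _ => Nat) ((Bool.rec (motive := fun _ => Nat) (nl1274 i) (nd468 i) (Nat.ble 67584 i))) ((Bool.rec (motive := fun _ => Nat) (nl1277 i) (nd469 i) (Nat.ble 70656 i))) (Nat.ble 69632 i))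
noncomputable def nd471 (i : Nat) : Nat := (Bool.rec (motive := fun _ => Nat) (nl1281 i) (nl1282 i) (Nat.ble 74752 i))
noncomputable def nd472 (i : Nat) : Nat := (Bool.rec (motive := fun _ => Nat) (nl1283 i) (nl1284 i) (Nat.ble 76800 i))
noncomputable def nd473 (i : Nat) : Nat := (Bool.rec (motive := fun _ => Nat) (nl1285 i) (nl1286 i) (Nat.ble 78848 i))
noncomputable def nd470 (i : Nat) : Nat := (Bool.rec (motive := fun _ => Nat) ((Bool.rec (motive := fun _ => Nat) (nl1280 i) (nd471 i) (Nat.ble 73728 i))) ((Bool.rec (motive := fun _ => Nat) (nd472 i) (nd473 i) (Nat.ble 77824 i))) (Nat.ble 75776 i))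
noncomputable def nd459 (i : Nat) : Nat := (Bool.rec (motive := fun _ => Nat) ((Bool.rec (motive := fun _ => Nat) (nd460 i) (nd463 i) (Nat.ble 59392 i))) ((Bool.rec (motive := fun _ => Nat) (nd467 i) (nd470 i) (Nat.ble 72704 i))) (Nat.ble 66560 i))
noncomputable def nd476 (i : Nat) : Nat := (Bool.rec (motive := fun _ => Nat) (nl1288 i) (nl1289 i) (Nat.ble 81920 i))
noncomputable def nd477 (i : Nat) : Nat := (Bool.rec (motive := fun _ => Nat) (nl1291 i) (nl1292 i) (Nat.ble 84992 i))
noncomputable def nd475 (i : Nat) : Nat := (Bool.rec (motive := fun _ => Nat) ((Bool.rec (motive := fun _ => Nat) (nl1287 i) (nd476 i) (Nat.ble 80896 i))) ((Bool.rec (motive := fun _ => Nat) (nl1290 i) (nd477 i) (Nat.ble 83968 i))) (Nat.ble 82944 i))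
noncomputable def nd479 (i : Nat) : Nat := (Bool.rec (motive := fun _ => Nat) (nl1294 i) (nl1295 i) (Nat.ble 88064 i))
noncomputable def nd480 (i : Nat) : Nat := (Bool.rec (motive := fun _ => Nat) (nl1296 i) (nl1297 i) (Nat.ble 90112 i))
noncomputable def nd481 (i : Nat) : Nat := (Bool.rec (motive := fun _ => Nat) (nl1298 i) (nl1299 i) (Nat.ble 92160 i))
noncomputable def nd478 (i : Nat) : Nat := (Bool.rec (motive := fun _ => Nat) ((Bool.rec (motive := fun _ => Nat) (nl1293 i) (nd479 i) (Nat.ble 87040 i))) ((Bool.rec (motive := fun _ => Nat) (nd480 i) (nd481 i) (Nat.ble 91136 i))) (Nat.ble 89088 i))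
noncomputable def nd483 (i : Nat) : Nat := (Bool.rec (motive := fun _ => Nat) (nl1301 i) (nl1302 i) (Nat.ble 95232 i))
noncomputable def nd484 (i : Nat) : Nat := (Bool.rec (motive := fun _ => Nat) (nl1304 i) (nl1305 i) (Nat.ble 98304 i))
noncomputable def nd482 (i : Nat) : Nat := (Bool.rec (motive := fun _ => Nat) ((Bool.rec (motive := fun _ => Nat) (nl1300 i) (nd483 i) (Nat.ble 94208 i))) ((Bool.rec (motive := fun _ => Nat) (nl1303 i) (nd484 i) (Nat.ble 97280 i))) (Nat.ble 96256 i))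
noncomputable def nd486 (i : Nat) : Nat := (Bool.rec (motive := fun _ => Nat) (nl1307 i) (nl1308 i) (Nat.ble 101376 i))
noncomputable def nd487 (i : Nat) : Nat := (Bool.rec (motive := fun _ => Nat) (nl1309 i) (nl1310 i) (Nat.ble 103424 i))
noncomputable def nd488 (i : Nat) : Nat := (Bool.rec (motive := fun _ => Nat) (nl1311 i) (nl1312 i) (Nat.ble 105472 i))
noncomputable def nd485 (i : Nat) : Nat := (Bool.rec (motive := fun _ => Nat) ((Bool.rec (motive := fun _ => Nat) (nl1306 i) (nd486 i) (Nat.ble 100352 i))) ((Bool.rec (motive := fun _ => Nat) (nd487 i) (nd488 i) (Nat.ble 104448 i))) (Nat.ble 102400 i))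
noncomputable def nd474 (i : Nat) : Nat := (Bool.rec (motive := fun _ => Nat) ((Bool.rec (motive := fun _ => Nat) (nd475 i) (nd478 i) (Nat.ble 86016 i))) ((Bool.rec (motive := fun _ => Nat) (nd482 i) (nd485 i) (Nat.ble 99328 i))) (Nat.ble 93184 i))
noncomputable def nd428 (i : Nat) : Nat := (Bool.rec (motive := fun _ => Nat) ((Bool.rec (motive := fun _ => Nat) (nd429 i) (nd444 i) (Nat.ble 26624 i))) ((Bool.rec (motive := fun _ => Nat) (nd459 i) (nd474 i) (Nat.ble 79872 i))) (Nat.ble 53248 i))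
noncomputable def nd492 (i : Nat) : Nat := (Bool.rec (motive := fun _ => Nat) (nl1314 i) (nl1315 i) (Nat.ble 108544 i))
noncomputable def nd493 (i : Nat) : Nat := (Bool.rec (motive := fun _ => Nat) (nl1317 i) (nl1318 i) (Nat.ble 111616 i))
noncomputable def nd491 (i : Nat) : Nat := (Bool.rec (motive := fun _ => Nat) ((Bool.rec (motive := fun _ => Nat) (nl1313 i) (nd492 i) (Nat.ble 107520 i))) ((Bool.rec (motive := fun _ => Nat) (nl1316 i) (nd493 i) (Nat.ble 110592 i))) (Nat.ble 109568 i))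
noncomputable def nd495 (i : Nat) : Nat := (Bool.rec (motive := fun _ => Nat) (nl1320 i) (nl1321 i) (Nat.ble 114688 i))
noncomputable def nd496 (i : Nat) : Nat := (Bool.rec (motive := fun _ => Nat) (nl1322 i) (nl1323 i) (Nat.ble 116736 i))
noncomputable def nd497 (i : Nat) : Nat := (Bool.rec (motive := fun _ => Nat) (nl1324 i) (nl1325 i) (Nat.ble 118784 i))
noncomputable def nd494 (i : Nat) : Nat := (Bool.rec (motive := fun _ => Nat) ((Bool.rec (motive := fun _ => Nat) (nl1319 i) (nd495 i) (Nat.ble 113664 i))) ((Bool.rec (motive := fun _ => Nat) (nd496 i) (nd497 i) (Nat.ble 117760 i))) (Nat.ble 115712 i))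
noncomputable def nd499 (i : Nat) : Nat := (Bool.rec (motive := fun _ => Nat) (nl1327 i) (nl1328 i) (Nat.ble 121856 i))
noncomputable def nd500 (i : Nat) : Nat := (Bool.rec (motive := fun _ => Nat) (nl1330 i) (nl1331 i) (Nat.ble 124928 i))
noncomputable def nd498 (i : Nat) : Nat := (Bool.rec (motive := fun _ => Nat) ((Bool.rec (motive := fun _ => Nat) (nl1326 i) (nd499 i) (Nat.ble 120832 i))) ((Bool.rec (motive := fun _ => Nat) (nl1329 i) (nd500 i) (Nat.ble 123904 i))) (Nat.ble 122880 i))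
noncomputable def nd502 (i : Nat) : Nat := (Bool.rec (motive := fun _ => Nat) (nl1333 i) (nl1334 i) (Nat.ble 128000 i))
noncomputable def nd503 (i : Nat) : Nat := (Bool.rec (motive := fun _ => Nat) (nl1335 i) (nl1336 i) (Nat.ble 130048 i))
noncomputable def nd504 (i : Nat) : Nat := (Bool.rec (motive := fun _ => Nat) (nl1337 i) (nl1338 i) (Nat.ble 132096 i))
noncomputable def nd501 (i : Nat) : Nat := (Bool.rec (motive := fun _ => Nat) ((Bool.rec (motive := fun _ => Nat) (nl1332 i) (nd502 i) (Nat.ble 126976 i))) ((Bool.rec (motive := fun _ => Nat) (nd503 i) (nd504 i) (Nat.ble 131072 i))) (Nat.ble 129024 i))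
noncomputable def nd490 (i : Nat) : Nat := (Bool.rec (motive := fun _ => Nat) ((Bool.rec (motive := fun _ => Nat) (nd491 i) (nd494 i) (Nat.ble 112640 i))) ((Bool.rec (motive := fun _ => Nat) (nd498 i) (nd501 i) (Nat.ble 125952 i))) (Nat.ble 119808 i))
noncomputable def nd507 (i : Nat) : Nat := (Bool.rec (motive := fun _ => Nat) (nl1340 i) (nl1341 i) (Nat.ble 135168 i))
noncomputable def nd508 (i : Nat) : Nat := (Bool.rec (motive := fun _ => Nat) (nl1343 i) (nl1344 i) (Nat.ble 138240 i))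
noncomputable def nd506 (i : Nat) : Nat := (Bool.rec (motive := fun _ => Nat) ((Bool.rec (motive := fun _ => Nat) (nl1339 i) (nd507 i) (Nat.ble 134144 i))) ((Bool.rec (motive := fun _ => Nat) (nl1342 i) (nd508 i) (Nat.ble 137216 i))) (Nat.ble 136192 i))
noncomputable def nd510 (i : Nat) : Nat := (Bool.rec (motive := fun _ => Nat) (nl1346 i) (nl1347 i) (Nat.ble 141312 i))
noncomputable def nd511 (i : Nat) : Nat := (Bool.rec (motive := fun _ => Nat) (nl1348 i) (nl1349 i) (Nat.ble 143360 i))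
noncomputable def nd512 (i : Nat) : Nat := (Bool.rec (motive := fun _ => Nat) (nl1350 i) (nl1351 i) (Nat.ble 145408 i))
noncomputable def nd509 (i : Nat) : Nat := (Bool.rec (motive := fun _ => Nat) ((Bool.rec (motive := fun _ => Nat) (nl1345 i) (nd510 i) (Nat.ble 140288 i))) ((Bool.rec (motive := fun _ => Nat) (nd511 i) (nd512 i) (Nat.ble 144384 i))) (Nat.ble 142336 i))
noncomputable def nd514 (i : Nat) : Nat := (Bool.rec (motive := fun _ => Nat) (nl1353 i) (nl1354 i) (Nat.ble 148480 i))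
noncomputable def nd515 (i : Nat) : Nat := (Bool.rec (motive := fun _ => Nat) (nl1356 i) (nl1357 i) (Nat.ble 151552 i))
noncomputable def nd513 (i : Nat) : Nat := (Bool.rec (motive := fun _ => Nat) ((Bool.rec (motive := fun _ => Nat) (nl1352 i) (nd514 i) (Nat.ble 147456 i))) ((Bool.rec (motive := fun _ => Nat) (nl1355 i) (nd515 i) (Nat.ble 150528 i))) (Nat.ble 149504 i))
noncomputable def nd517 (i : Nat) : Nat := (Bool.rec (motive := fun _ => Nat) (nl1359 i) (nl1360 i) (Nat.ble 154624 i))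
noncomputable def nd518 (i : Nat) : Nat := (Bool.rec (motive := fun _ => Nat) (nl1361 i) (nl1362 i) (Nat.ble 156672 i))
noncomputable def nd519 (i : Nat) : Nat := (Bool.rec (motive := fun _ => Nat) (nl1363 i) (nl1364 i) (Nat.ble 158720 i))
noncomputable def nd516 (i : Nat) : Nat := (Bool.rec (motive := fun _ => Nat) ((Bool.rec (motive := fun _ => Nat) (nl1358 i) (nd517 i) (Nat.ble 153600 i))) ((Bool.rec (motive := fun _ => Nat) (nd518 i) (nd519 i) (Nat.ble 157696 i))) (Nat.ble 155648 i))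
noncomputable def nd505 (i : Nat) : Nat := (Bool.rec (motive := fun _ => Nat) ((Bool.rec (motive := fun _ => Nat) (nd506 i) (nd509 i) (Nat.ble 139264 i))) ((Bool.rec (motive := fun _ => Nat) (nd513 i) (nd516 i) (Nat.ble 152576 i))) (Nat.ble 146432 i))
noncomputable def nd522 (i : Nat) : Nat := (Bool.rec (motive := fun _ => Nat) (nl1366 i) (nl1367 i) (Nat.ble 161792 i))
noncomputable def nd523 (i : Nat) : Nat := (Bool.rec (motive := fun _ => Nat) (nl1369 i) (nl1370 i) (Nat.ble 164864 i))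
noncomputable def nd521 (i : Nat) : Nat := (Bool.rec (motive := fun _ => Nat) ((Bool.rec (motive := fun _ => Nat) (nl1365 i) (nd522 i) (Nat.ble 160768 i))) ((Bool.rec (motive := fun _ => Nat) (nl1368 i) (nd523 i) (Nat.ble 163840 i))) (Nat.ble 162816 i))
noncomputable def nd525 (i : Nat) : Nat := (Bool.rec (motive := fun _ => Nat) (nl1372 i) (nl1373 i) (Nat.ble 167936 i))
noncomputable def nd526 (i : Nat) : Nat := (Bool.rec (motive := fun _ => Nat) (nl1374 i) (nl1375 i) (Nat.ble 169984 i))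
noncomputable def nd527 (i : Nat) : Nat := (Bool.rec (motive := fun _ => Nat) (nl1376 i) (nl1377 i) (Nat.ble 172032 i))
noncomputable def nd524 (i : Nat) : Nat := (Bool.rec (motive := fun _ => Nat) ((Bool.rec (motive := fun _ => Nat) (nl1371 i) (nd525 i) (Nat.ble 166912 i))) ((Bool.rec (motive := fun _ => Nat) (nd526 i) (nd527 i) (Nat.ble 171008 i))) (Nat.ble 168960 i))
noncomputable def nd529 (i : Nat) : Nat := (Bool.rec (motive := fun _ => Nat) (nl1379 i) (nl1380 i) (Nat.ble 175104 i))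
noncomputable def nd530 (i : Nat) : Nat := (Bool.rec (motive := fun _ => Nat) (nl1382 i) (nl1383 i) (Nat.ble 178176 i))
noncomputable def nd528 (i : Nat) : Nat := (Bool.rec (motive := fun _ => Nat) ((Bool.rec (motive := fun _ => Nat) (nl1378 i) (nd529 i) (Nat.ble 174080 i))) ((Bool.rec (motive := fun _ => Nat) (nl1381 i) (nd530 i) (Nat.ble 177152 i))) (Nat.ble 176128 i))
noncomputable def nd532 (i : Nat) : Nat := (Bool.rec (motive := fun _ => Nat) (nl1385 i) (nl1386 i) (Nat.ble 181248 i))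
noncomputable def nd533 (i : Nat) : Nat := (Bool.rec (motive := fun _ => Nat) (nl1387 i) (nl1388 i) (Nat.ble 183296 i))
noncomputable def nd534 (i : Nat) : Nat := (Bool.rec (motive := fun _ => Nat) (nl1389 i) (nl1390 i) (Nat.ble 185344 i))
noncomputable def nd531 (i : Nat) : Nat := (Bool.rec (motive := fun _ => Nat) ((Bool.rec (motive := fun _ => Nat) (nl1384 i) (nd532 i) (Nat.ble 180224 i))) ((Bool.rec (motive := fun _ => Nat) (nd533 i) (nd534 i) (Nat.ble 184320 i))) (Nat.ble 182272 i))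
noncomputable def nd520 (i : Nat) : Nat := (Bool.rec (motive := fun _ => Nat) ((Bool.rec (motive := fun _ => Nat) (nd521 i) (nd524 i) (Nat.ble 165888 i))) ((Bool.rec (motive := fun _ => Nat) (nd528 i) (nd531 i) (Nat.ble 179200 i))) (Nat.ble 173056 i))
noncomputable def nd537 (i : Nat) : Nat := (Bool.rec (motive := fun _ => Nat) (nl1392 i) (nl1393 i) (Nat.ble 188416 i))
noncomputable def nd538 (i : Nat) : Nat := (Bool.rec (motive := fun _ => Nat) (nl1395 i) (nl1396 i) (Nat.ble 191488 i))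
noncomputable def nd536 (i : Nat) : Nat := (Bool.rec (motive := fun _ => Nat) ((Bool.rec (motive := fun _ => Nat) (nl1391 i) (nd537 i) (Nat.ble 187392 i))) ((Bool.rec (motive := fun _ => Nat) (nl1394 i) (nd538 i) (Nat.ble 190464 i))) (Nat.ble 189440 i))
noncomputable def nd540 (i : Nat) : Nat := (Bool.rec (motive := fun _ => Nat) (nl1398 i) (nl1399 i) (Nat.ble 194560 i))
noncomputable def nd541 (i : Nat) : Nat := (Bool.rec (motive := fun _ => Nat) (nl1400 i) (nl1401 i) (Nat.ble 196608 i))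
noncomputable def nd542 (i : Nat) : Nat := (Bool.rec (motive := fun _ => Nat) (nl1402 i) (nl1403 i) (Nat.ble 198656 i))
noncomputable def nd539 (i : Nat) : Nat := (Bool.rec (motive := fun _ => Nat) ((Bool.rec (motive := fun _ => Nat) (nl1397 i) (nd540 i) (Nat.ble 193536 i))) ((Bool.rec (motive := fun _ => Nat) (nd541 i) (nd542 i) (Nat.ble 197632 i))) (Nat.ble 195584 i))
noncomputable def nd544 (i : Nat) : Nat := (Bool.rec (motive := fun _ => Nat) (nl1405 i) (nl1406 i) (Nat.ble 201728 i))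
noncomputable def nd545 (i : Nat) : Nat := (Bool.rec (motive := fun _ => Nat) (nl1407 i) (nl1408 i) (Nat.ble 203776 i))
noncomputable def nd546 (i : Nat) : Nat := (Bool.rec (motive := fun _ => Nat) (nl1409 i) (nl1410 i) (Nat.ble 205824 i))
noncomputable def nd543 (i : Nat) : Nat := (Bool.rec (motive := fun _ => Nat) ((Bool.rec (motive := fun _ => Nat) (nl1404 i) (nd544 i) (Nat.ble 200704 i))) ((Bool.rec (motive := fun _ => Nat) (nd545 i) (nd546 i) (Nat.ble 204800 i))) (Nat.ble 202752 i))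
noncomputable def nd548 (i : Nat) : Nat := (Bool.rec (motive := fun _ => Nat) (nl1412 i) (nl1413 i) (Nat.ble 208896 i))
noncomputable def nd549 (i : Nat) : Nat := (Bool.rec (motive := fun _ => Nat) (nl1414 i) (nl1415 i) (Nat.ble 210944 i))
noncomputable def nd550 (i : Nat) : Nat := (Bool.rec (motive := fun _ => Nat) (nl1416 i) (nl1417 i) (Nat.ble 212992 i))
noncomputable def nd547 (i : Nat) : Nat := (Bool.rec (motive := fun _ => Nat) ((Bool.rec (motive := fun _ => Nat) (nl1411 i) (nd548 i) (Nat.ble 207872 i))) ((Bool.rec (motive := fun _ => Nat) (nd549 i) (nd550 i) (Nat.ble 211968 i))) (Nat.ble 209920 i))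
noncomputable def nd535 (i : Nat) : Nat := (Bool.rec (motive := fun _ => Nat) ((Bool.rec (motive := fun _ => Nat) (nd536 i) (nd539 i) (Nat.ble 192512 i))) ((Bool.rec (motive := fun _ => Nat) (nd543 i) (nd547 i) (Nat.ble 206848 i))) (Nat.ble 199680 i))
noncomputable def nd489 (i : Nat) : Nat := (Bool.rec (motive := fun _ => Nat) ((Bool.rec (motive := fun _ => Nat) (nd490 i) (nd505 i) (Nat.ble 133120 i))) ((Bool.rec (motive := fun _ => Nat) (nd520 i) (nd535 i) (Nat.ble 186368 i))) (Nat.ble 159744 i))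
noncomputable def nd554 (i : Nat) : Nat := (Bool.rec (motive := fun _ => Nat) (nl1419 i) (nl1420 i) (Nat.ble 216064 i))
noncomputable def nd555 (i : Nat) : Nat := (Bool.rec (motive := fun _ => Nat) (nl1422 i) (nl1423 i) (Nat.ble 219136 i))
noncomputable def nd553 (i : Nat) : Nat := (Bool.rec (motive := fun _ => Nat) ((Bool.rec (motive := fun _ => Nat) (nl1418 i) (nd554 i) (Nat.ble 215040 i))) ((Bool.rec (motive := fun _ => Nat) (nl1421 i) (nd555 i) (Nat.ble 218112 i))) (Nat.ble 217088 i))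
noncomputable def nd557 (i : Nat) : Nat := (Bool.rec (motive := fun _ => Nat) (nl1425 i) (nl1426 i) (Nat.ble 222208 i))
noncomputable def nd558 (i : Nat) : Nat := (Bool.rec (motive := fun _ => Nat) (nl1427 i) (nl1428 i) (Nat.ble 224256 i))
noncomputable def nd559 (i : Nat) : Nat := (Bool.rec (motive := fun _ => Nat) (nl1429 i) (nl1430 i) (Nat.ble 226304 i))
noncomputable def nd556 (i : Nat) : Nat := (Bool.rec (motive := fun _ => Nat) ((Bool.rec (motive := fun _ => Nat) (nl1424 i) (nd557 i) (Nat.ble 221184 i))) ((Bool.rec (motive := fun _ => Nat) (nd558 i) (nd559 i) (Nat.ble 225280 i))) (Nat.ble 223232 i))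
noncomputable def nd561 (i : Nat) : Nat := (Bool.rec (motive := fun _ => Nat) (nl1432 i) (nl1433 i) (Nat.ble 229376 i))
noncomputable def nd562 (i : Nat) : Nat := (Bool.rec (motive := fun _ => Nat) (nl1435 i) (nl1436 i) (Nat.ble 232448 i))
noncomputable def nd560 (i : Nat) : Nat := (Bool.rec (motive := fun _ => Nat) ((Bool.rec (motive := fun _ => Nat) (nl1431 i) (nd561 i) (Nat.ble 228352 i))) ((Bool.rec (motive := fun _ => Nat) (nl1434 i) (nd562 i) (Nat.ble 231424 i))) (Nat.ble 230400 i))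
noncomputable def nd564 (i : Nat) : Nat := (Bool.rec (motive := fun _ => Nat) (nl1438 i) (nl1439 i) (Nat.ble 235520 i))
noncomputable def nd565 (i : Nat) : Nat := (Bool.rec (motive := fun _ => Nat) (nl1440 i) (nl1441 i) (Nat.ble 237568 i))
noncomputable def nd566 (i : Nat) : Nat := (Bool.rec (motive := fun _ => Nat) (nl1442 i) (nl1443 i) (Nat.ble 239616 i))
noncomputable def nd563 (i : Nat) : Nat := (Bool.rec (motive := fun _ => Nat) ((Bool.rec (motive := fun _ => Nat) (nl1437 i) (nd564 i) (Nat.ble 234496 i))) ((Bool.rec (motive := fun _ => Nat) (nd565 i) (nd566 i) (Nat.ble 238592 i))) (Nat.ble 236544 i))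
noncomputable def nd552 (i : Nat) : Nat := (Bool.rec (motive := fun _ => Nat) ((Bool.rec (motive := fun _ => Nat) (nd553 i) (nd556 i) (Nat.ble 220160 i))) ((Bool.rec (motive := fun _ => Nat) (nd560 i) (nd563 i) (Nat.ble 233472 i))) (Nat.ble 227328 i))
noncomputable def nd569 (i : Nat) : Nat := (Bool.rec (motive := fun _ => Nat) (nl1445 i) (nl1446 i) (Nat.ble 242688 i))
noncomputable def nd570 (i : Nat) : Nat := (Bool.rec (motive := fun _ => Nat) (nl1448 i) (nl1449 i) (Nat.ble 245760 i))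
noncomputable def nd568 (i : Nat) : Nat := (Bool.rec (motive := fun _ => Nat) ((Bool.rec (motive := fun _ => Nat) (nl1444 i) (nd569 i) (Nat.ble 241664 i))) ((Bool.rec (motive := fun _ => Nat) (nl1447 i) (nd570 i) (Nat.ble 244736 i))) (Nat.ble 243712 i))
noncomputable def nd572 (i : Nat) : Nat := (Bool.rec (motive := fun _ => Nat) (nl1451 i) (nl1452 i) (Nat.ble 248832 i))
noncomputable def nd573 (i : Nat) : Nat := (Bool.rec (motive := fun _ => Nat) (nl1453 i) (nl1454 i) (Nat.ble 250880 i))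
noncomputable def nd574 (i : Nat) : Nat := (Bool.rec (motive := fun _ => Nat) (nl1455 i) (nl1456 i) (Nat.ble 252928 i))
noncomputable def nd571 (i : Nat) : Nat := (Bool.rec (motive := fun _ => Nat) ((Bool.rec (motive := fun _ => Nat) (nl1450 i) (nd572 i) (Nat.ble 247808 i))) ((Bool.rec (motive := fun _ => Nat) (nd573 i) (nd574 i) (Nat.ble 251904 i))) (Nat.ble 249856 i))
noncomputable def nd576 (i : Nat) : Nat := (Bool.rec (motive := fun _ => Nat) (nl1458 i) (nl1459 i) (Nat.ble 256000 i))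
noncomputable def nd577 (i : Nat) : Nat := (Bool.rec (motive := fun _ => Nat) (nl1461 i) (nl1462 i) (Nat.ble 259072 i))
noncomputable def nd575 (i : Nat) : Nat := (Bool.rec (motive := fun _ => Nat) ((Bool.rec (motive := fun _ => Nat) (nl1457 i) (nd576 i) (Nat.ble 254976 i))) ((Bool.rec (motive := fun _ => Nat) (nl1460 i) (nd577 i) (Nat.ble 258048 i))) (Nat.ble 257024 i))
noncomputable def nd579 (i : Nat) : Nat := (Bool.rec (motive := fun _ => Nat) (nl1464 i) (nl1465 i) (Nat.ble 262144 i))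
noncomputable def nd580 (i : Nat) : Nat := (Bool.rec (motive := fun _ => Nat) (nl1466 i) (nl1467 i) (Nat.ble 264192 i))
noncomputable def nd581 (i : Nat) : Nat := (Bool.rec (motive := fun _ => Nat) (nl1468 i) (nl1469 i) (Nat.ble 266240 i))
noncomputable def nd578 (i : Nat) : Nat := (Bool.rec (motive := fun _ => Nat) ((Bool.rec (motive := fun _ => Nat) (nl1463 i) (nd579 i) (Nat.ble 261120 i))) ((Bool.rec (motive := fun _ => Nat) (nd580 i) (nd581 i) (Nat.ble 265216 i))) (Nat.ble 263168 i))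
noncomputable def nd567 (i : Nat) : Nat := (Bool.rec (motive := fun _ => Nat) ((Bool.rec (motive := fun _ => Nat) (nd568 i) (nd571 i) (Nat.ble 246784 i))) ((Bool.rec (motive := fun _ => Nat) (nd575 i) (nd578 i) (Nat.ble 260096 i))) (Nat.ble 253952 i))
noncomputable def nd584 (i : Nat) : Nat := (Bool.rec (motive := fun _ => Nat) (nl1471 i) (nl1472 i) (Nat.ble 269312 i))
noncomputable def nd585 (i : Nat) : Nat := (Bool.rec (motive := fun _ => Nat) (nl1474 i) (nl1475 i) (Nat.ble 272384 i))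
noncomputable def nd583 (i : Nat) : Nat := (Bool.rec (motive := fun _ => Nat) ((Bool.rec (motive := fun _ => Nat) (nl1470 i) (nd584 i) (Nat.ble 268288 i))) ((Bool.rec (motive := fun _ => Nat) (nl1473 i) (nd585 i) (Nat.ble 271360 i))) (Nat.ble 270336 i))
noncomputable def nd587 (i : Nat) : Nat := (Bool.rec (motive := fun _ => Nat) (nl1477 i) (nl1478 i) (Nat.ble 275456 i))
noncomputable def nd588 (i : Nat) : Nat := (Bool.rec (motive := fun _ => Nat) (nl1479 i) (nl1480 i) (Nat.ble 277504 i))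
noncomputable def nd589 (i : Nat) : Nat := (Bool.rec (motive := fun _ => Nat) (nl1481 i) (nl1482 i) (Nat.ble 279552 i))
noncomputable def nd586 (i : Nat) : Nat := (Bool.rec (motive := fun _ => Nat) ((Bool.rec (motive := fun _ => Nat) (nl1476 i) (nd587 i) (Nat.ble 274432 i))) ((Bool.rec (motive := fun _ => Nat) (nd588 i) (nd589 i) (Nat.ble 278528 i))) (Nat.ble 276480 i))
noncomputable def nd591 (i : Nat) : Nat := (Bool.rec (motive := fun _ => Nat) (nl1484 i) (nl1485 i) (Nat.ble 282624 i))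
noncomputable def nd592 (i : Nat) : Nat := (Bool.rec (motive := fun _ => Nat) (nl1487 i) (nl1488 i) (Nat.ble 285696 i))
noncomputable def nd590 (i : Nat) : Nat := (Bool.rec (motive := fun _ => Nat) ((Bool.rec (motive := fun _ => Nat) (nl1483 i) (nd591 i) (Nat.ble 281600 i))) ((Bool.rec (motive := fun _ => Nat) (nl1486 i) (nd592 i) (Nat.ble 284672 i))) (Nat.ble 283648 i))
noncomputable def nd594 (i : Nat) : Nat := (Bool.rec (motive := fun _ => Nat) (nl1490 i) (nl1491 i) (Nat.ble 288768 i))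
noncomputable def nd595 (i : Nat) : Nat := (Bool.rec (motive := fun _ => Nat) (nl1492 i) (nl1493 i) (Nat.ble 290816 i))
noncomputable def nd596 (i : Nat) : Nat := (Bool.rec (motive := fun _ => Nat) (nl1494 i) (nl1495 i) (Nat.ble 292864 i))
noncomputable def nd593 (i : Nat) : Nat := (Bool.rec (motive := fun _ => Nat) ((Bool.rec (motive := fun _ => Nat) (nl1489 i) (nd594 i) (Nat.ble 287744 i))) ((Bool.rec (motive := fun _ => Nat) (nd595 i) (nd596 i) (Nat.ble 291840 i))) (Nat.ble 289792 i))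
noncomputable def nd582 (i : Nat) : Nat := (Bool.rec (motive := fun _ => Nat) ((Bool.rec (motive := fun _ => Nat) (nd583 i) (nd586 i) (Nat.ble 273408 i))) ((Bool.rec (motive := fun _ => Nat) (nd590 i) (nd593 i) (Nat.ble 286720 i))) (Nat.ble 280576 i))
noncomputable def nd599 (i : Nat) : Nat := (Bool.rec (motive := fun _ => Nat) (nl1497 i) (nl1498 i) (Nat.ble 295936 i))
noncomputable def nd600 (i : Nat) : Nat := (Bool.rec (motive := fun _ => Nat) (nl1500 i) (nl1501 i) (Nat.ble 299008 i))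
noncomputable def nd598 (i : Nat) : Nat := (Bool.rec (motive := fun _ => Nat) ((Bool.rec (motive := fun _ => Nat) (nl1496 i) (nd599 i) (Nat.ble 294912 i))) ((Bool.rec (motive := fun _ => Nat) (nl1499 i) (nd600 i) (Nat.ble 297984 i))) (Nat.ble 296960 i))
noncomputable def nd602 (i : Nat) : Nat := (Bool.rec (motive := fun _ => Nat) (nl1503 i) (nl1504 i) (Nat.ble 302080 i))
noncomputable def nd603 (i : Nat) : Nat := (Bool.rec (motive := fun _ => Nat) (nl1505 i) (nl1506 i) (Nat.ble 304128 i))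
noncomputable def nd604 (i : Nat) : Nat := (Bool.rec (motive := fun _ => Nat) (nl1507 i) (nl1508 i) (Nat.ble 306176 i))
noncomputable def nd601 (i : Nat) : Nat := (Bool.rec (motive := fun _ => Nat) ((Bool.rec (motive := fun _ => Nat) (nl1502 i) (nd602 i) (Nat.ble 301056 i))) ((Bool.rec (motive := fun _ => Nat) (nd603 i) (nd604 i) (Nat.ble 305152 i))) (Nat.ble 303104 i))
noncomputable def nd606 (i : Nat) : Nat := (Bool.rec (motive := fun _ => Nat) (nl1510 i) (nl1511 i) (Nat.ble 309248 i))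
noncomputable def nd607 (i : Nat) : Nat := (Bool.rec (motive := fun _ => Nat) (nl1512 i) (nl1513 i) (Nat.ble 311296 i))
noncomputable def nd608 (i : Nat) : Nat := (Bool.rec (motive := fun _ => Nat) (nl1514 i) (nl1515 i) (Nat.ble 313344 i))
noncomputable def nd605 (i : Nat) : Nat := (Bool.rec (motive := fun _ => Nat) ((Bool.rec (motive := fun _ => Nat) (nl1509 i) (nd606 i) (Nat.ble 308224 i))) ((Bool.rec (motive := fun _ => Nat) (nd607 i) (nd608 i) (Nat.ble 312320 i))) (Nat.ble 310272 i))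
noncomputable def nd610 (i : Nat) : Nat := (Bool.rec (motive := fun _ => Nat) (nl1517 i) (nl1518 i) (Nat.ble 316416 i))
noncomputable def nd611 (i : Nat) : Nat := (Bool.rec (motive := fun _ => Nat) (nl1519 i) (nl1520 i) (Nat.ble 318464 i))
noncomputable def nd612 (i : Nat) : Nat := (Bool.rec (motive := fun _ => Nat) (nl1521 i) (nl1522 i) (Nat.ble 320512 i))
noncomputable def nd609 (i : Nat) : Nat := (Bool.rec (motive := fun _ => Nat) ((Bool.rec (motive := fun _ => Nat) (nl1516 i) (nd610 i) (Nat.ble 315392 i))) ((Bool.rec (motive := fun _ => Nat) (nd611 i) (nd612 i) (Nat.ble 319488 i))) (Nat.ble 317440 i))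
noncomputable def nd597 (i : Nat) : Nat := (Bool.rec (motive := fun _ => Nat) ((Bool.rec (motive := fun _ => Nat) (nd598 i) (nd601 i) (Nat.ble 300032 i))) ((Bool.rec (motive := fun _ => Nat) (nd605 i) (nd609 i) (Nat.ble 314368 i))) (Nat.ble 307200 i))
noncomputable def nd551 (i : Nat) : Nat := (Bool.rec (motive := fun _ => Nat) ((Bool.rec (motive := fun _ => Nat) (nd552 i) (nd567 i) (Nat.ble 240640 i))) ((Bool.rec (motive := fun _ => Nat) (nd582 i) (nd597 i) (Nat.ble 293888 i))) (Nat.ble 267264 i))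
noncomputable def nd616 (i : Nat) : Nat := (Bool.rec (motive := fun _ => Nat) (nl1524 i) (nl1525 i) (Nat.ble 323584 i))
noncomputable def nd617 (i : Nat) : Nat := (Bool.rec (motive := fun _ => Nat) (nl1527 i) (nl1528 i) (Nat.ble 326656 i))
noncomputable def nd615 (i : Nat) : Nat := (Bool.rec (motive := fun _ => Nat) ((Bool.rec (motive := fun _ => Nat) (nl1523 i) (nd616 i) (Nat.ble 322560 i))) ((Bool.rec (motive := fun _ => Nat) (nl1526 i) (nd617 i) (Nat.ble 325632 i))) (Nat.ble 324608 i))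
noncomputable def nd619 (i : Nat) : Nat := (Bool.rec (motive := fun _ => Nat) (nl1530 i) (nl1531 i) (Nat.ble 329728 i))
noncomputable def nd620 (i : Nat) : Nat := (Bool.rec (motive := fun _ => Nat) (nl1532 i) (nl1533 i) (Nat.ble 331776 i))
noncomputable def nd621 (i : Nat) : Nat := (Bool.rec (motive := fun _ => Nat) (nl1534 i) (nl1535 i) (Nat.ble 333824 i))
noncomputable def nd618 (i : Nat) : Nat := (Bool.rec (motive := fun _ => Nat) ((Bool.rec (motive := fun _ => Nat) (nl1529 i) (nd619 i) (Nat.ble 328704 i))) ((Bool.rec (motive := fun _ => Nat) (nd620 i) (nd621 i) (Nat.ble 332800 i))) (Nat.ble 330752 i))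
noncomputable def nd623 (i : Nat) : Nat := (Bool.rec (motive := fun _ => Nat) (nl1537 i) (nl1538 i) (Nat.ble 336896 i))
noncomputable def nd624 (i : Nat) : Nat := (Bool.rec (motive := fun _ => Nat) (nl1540 i) (nl1541 i) (Nat.ble 339968 i))
noncomputable def nd622 (i : Nat) : Nat := (Bool.rec (motive := fun _ => Nat) ((Bool.rec (motive := fun _ => Nat) (nl1536 i) (nd623 i) (Nat.ble 335872 i))) ((Bool.rec (motive := fun _ => Nat) (nl1539 i) (nd624 i) (Nat.ble 338944 i))) (Nat.ble 337920 i))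
noncomputable def nd626 (i : Nat) : Nat := (Bool.rec (motive := fun _ => Nat) (nl1543 i) (nl1544 i) (Nat.ble 343040 i))
noncomputable def nd627 (i : Nat) : Nat := (Bool.rec (motive := fun _ => Nat) (nl1545 i) (nl1546 i) (Nat.ble 345088 i))
noncomputable def nd628 (i : Nat) : Nat := (Bool.rec (motive := fun _ => Nat) (nl1547 i) (nl1548 i) (Nat.ble 347136 i))
noncomputable def nd625 (i : Nat) : Nat := (Bool.rec (motive := fun _ => Nat) ((Bool.rec (motive := fun _ => Nat) (nl1542 i) (nd626 i) (Nat.ble 342016 i))) ((Bool.rec (motive := fun _ => Nat) (nd627 i) (nd628 i) (Nat.ble 346112 i))) (Nat.ble 344064 i))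
noncomputable def nd614 (i : Nat) : Nat := (Bool.rec (motive := fun _ => Nat) ((Bool.rec (motive := fun _ => Nat) (nd615 i) (nd618 i) (Nat.ble 327680 i))) ((Bool.rec (motive := fun _ => Nat) (nd622 i) (nd625 i) (Nat.ble 340992 i))) (Nat.ble 334848 i))
noncomputable def nd631 (i : Nat) : Nat := (Bool.rec (motive := fun _ => Nat) (nl1550 i) (nl1551 i) (Nat.ble 350208 i))
noncomputable def nd632 (i : Nat) : Nat := (Bool.rec (motive := fun _ => Nat) (nl1553 i) (nl1554 i) (Nat.ble 353280 i))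
noncomputable def nd630 (i : Nat) : Nat := (Bool.rec (motive := fun _ => Nat) ((Bool.rec (motive := fun _ => Nat) (nl1549 i) (nd631 i) (Nat.ble 349184 i))) ((Bool.rec (motive := fun _ => Nat) (nl1552 i) (nd632 i) (Nat.ble 352256 i))) (Nat.ble 351232 i))
noncomputable def nd634 (i : Nat) : Nat := (Bool.rec (motive := fun _ => Nat) (nl1556 i) (nl1557 i) (Nat.ble 356352 i))
noncomputable def nd635 (i : Nat) : Nat := (Bool.rec (motive := fun _ => Nat) (nl1558 i) (nl1559 i) (Nat.ble 358400 i))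
noncomputable def nd636 (i : Nat) : Nat := (Bool.rec (motive := fun _ => Nat) (nl1560 i) (nl1561 i) (Nat.ble 360448 i))
noncomputable def nd633 (i : Nat) : Nat := (Bool.rec (motive := fun _ => Nat) ((Bool.rec (motive := fun _ => Nat) (nl1555 i) (nd634 i) (Nat.ble 355328 i))) ((Bool.rec (motive := fun _ => Nat) (nd635 i) (nd636 i) (Nat.ble 359424 i))) (Nat.ble 357376 i))
noncomputable def nd638 (i : Nat) : Nat := (Bool.rec (motive := fun _ => Nat) (nl1563 i) (nl1564 i) (Nat.ble 363520 i))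
noncomputable def nd639 (i : Nat) : Nat := (Bool.rec (motive := fun _ => Nat) (nl1566 i) (nl1567 i) (Nat.ble 366592 i))
noncomputable def nd637 (i : Nat) : Nat := (Bool.rec (motive := fun _ => Nat) ((Bool.rec (motive := fun _ => Nat) (nl1562 i) (nd638 i) (Nat.ble 362496 i))) ((Bool.rec (motive := fun _ => Nat) (nl1565 i) (nd639 i) (Nat.ble 365568 i))) (Nat.ble 364544 i))
noncomputable def nd641 (i : Nat) : Nat := (Bool.rec (motive := fun _ => Nat) (nl1569 i) (nl1570 i) (Nat.ble 369664 i))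
noncomputable def nd642 (i : Nat) : Nat := (Bool.rec (motive := fun _ => Nat) (nl1571 i) (nl1572 i) (Nat.ble 371712 i))
noncomputable def nd643 (i : Nat) : Nat := (Bool.rec (motive := fun _ => Nat) (nl1573 i) (nl1574 i) (Nat.ble 373760 i))
noncomputable def nd640 (i : Nat) : Nat := (Bool.rec (motive := fun _ => Nat) ((Bool.rec (motive := fun _ => Nat) (nl1568 i) (nd641 i) (Nat.ble 368640 i))) ((Bool.rec (motive := fun _ => Nat) (nd642 i) (nd643 i) (Nat.ble 372736 i))) (Nat.ble 370688 i))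
noncomputable def nd629 (i : Nat) : Nat := (Bool.rec (motive := fun _ => Nat) ((Bool.rec (motive := fun _ => Nat) (nd630 i) (nd633 i) (Nat.ble 354304 i))) ((Bool.rec (motive := fun _ => Nat) (nd637 i) (nd640 i) (Nat.ble 367616 i))) (Nat.ble 361472 i))
noncomputable def nd646 (i : Nat) : Nat := (Bool.rec (motive := fun _ => Nat) (nl1576 i) (nl1577 i) (Nat.ble 376832 i))
noncomputable def nd647 (i : Nat) : Nat := (Bool.rec (motive := fun _ => Nat) (nl1579 i) (nl1580 i) (Nat.ble 379904 i))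
noncomputable def nd645 (i : Nat) : Nat := (Bool.rec (motive := fun _ => Nat) ((Bool.rec (motive := fun _ => Nat) (nl1575 i) (nd646 i) (Nat.ble 375808 i))) ((Bool.rec (motive := fun _ => Nat) (nl1578 i) (nd647 i) (Nat.ble 378880 i))) (Nat.ble 377856 i))
noncomputable def nd649 (i : Nat) : Nat := (Bool.rec (motive := fun _ => Nat) (nl1582 i) (nl1583 i) (Nat.ble 382976 i))
noncomputable def nd650 (i : Nat) : Nat := (Bool.rec (motive := fun _ => Nat) (nl1584 i) (nl1585 i) (Nat.ble 385024 i))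
noncomputable def nd651 (i : Nat) : Nat := (Bool.rec (motive := fun _ => Nat) (nl1586 i) (nl1587 i) (Nat.ble 387072 i))
noncomputable def nd648 (i : Nat) : Nat := (Bool.rec (motive := fun _ => Nat) ((Bool.rec (motive := fun _ => Nat) (nl1581 i) (nd649 i) (Nat.ble 381952 i))) ((Bool.rec (motive := fun _ => Nat) (nd650 i) (nd651 i) (Nat.ble 386048 i))) (Nat.ble 384000 i))
noncomputable def nd653 (i : Nat) : Nat := (Bool.rec (motive := fun _ => Nat) (nl1589 i) (nl1590 i) (Nat.ble 390144 i))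
noncomputable def nd654 (i : Nat) : Nat := (Bool.rec (motive := fun _ => Nat) (nl1592 i) (nl1593 i) (Nat.ble 393216 i))
noncomputable def nd652 (i : Nat) : Nat := (Bool.rec (motive := fun _ => Nat) ((Bool.rec (motive := fun _ => Nat) (nl1588 i) (nd653 i) (Nat.ble 389120 i))) ((Bool.rec (motive := fun _ => Nat) (nl1591 i) (nd654 i) (Nat.ble 392192 i))) (Nat.ble 391168 i))
noncomputable def nd656 (i : Nat) : Nat := (Bool.rec (motive := fun _ => Nat) (nl1595 i) (nl1596 i) (Nat.ble 396288 i))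
noncomputable def nd657 (i : Nat) : Nat := (Bool.rec (motive := fun _ => Nat) (nl1597 i) (nl1598 i) (Nat.ble 398336 i))
noncomputable def nd658 (i : Nat) : Nat := (Bool.rec (motive := fun _ => Nat) (nl1599 i) (nl1600 i) (Nat.ble 400384 i))
noncomputable def nd655 (i : Nat) : Nat := (Bool.rec (motive := fun _ => Nat) ((Bool.rec (motive := fun _ => Nat) (nl1594 i) (nd656 i) (Nat.ble 395264 i))) ((Bool.rec (motive := fun _ => Nat) (nd657 i) (nd658 i) (Nat.ble 399360 i))) (Nat.ble 397312 i))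
noncomputable def nd644 (i : Nat) : Nat := (Bool.rec (motive := fun _ => Nat) ((Bool.rec (motive := fun _ => Nat) (nd645 i) (nd648 i) (Nat.ble 380928 i))) ((Bool.rec (motive := fun _ => Nat) (nd652 i) (nd655 i) (Nat.ble 394240 i))) (Nat.ble 388096 i))
noncomputable def nd661 (i : Nat) : Nat := (Bool.rec (motive := fun _ => Nat) (nl1602 i) (nl1603 i) (Nat.ble 403456 i))
noncomputable def nd662 (i : Nat) : Nat := (Bool.rec (motive := fun _ => Nat) (nl1605 i) (nl1606 i) (Nat.ble 406528 i))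
noncomputable def nd660 (i : Nat) : Nat := (Bool.rec (motive := fun _ => Nat) ((Bool.rec (motive := fun _ => Nat) (nl1601 i) (nd661 i) (Nat.ble 402432 i))) ((Bool.rec (motive := fun _ => Nat) (nl1604 i) (nd662 i) (Nat.ble 405504 i))) (Nat.ble 404480 i))
noncomputable def nd664 (i : Nat) : Nat := (Bool.rec (motive := fun _ => Nat) (nl1608 i) (nl1609 i) (Nat.ble 409600 i))
noncomputable def nd665 (i : Nat) : Nat := (Bool.rec (motive := fun _ => Nat) (nl1610 i) (nl1611 i) (Nat.ble 411648 i))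
noncomputable def nd666 (i : Nat) : Nat := (Bool.rec (motive := fun _ => Nat) (nl1612 i) (nl1613 i) (Nat.ble 413696 i))
noncomputable def nd663 (i : Nat) : Nat := (Bool.rec (motive := fun _ => Nat) ((Bool.rec (motive := fun _ => Nat) (nl1607 i) (nd664 i) (Nat.ble 408576 i))) ((Bool.rec (motive := fun _ => Nat) (nd665 i) (nd666 i) (Nat.ble 412672 i))) (Nat.ble 410624 i))
noncomputable def nd668 (i : Nat) : Nat := (Bool.rec (motive := fun _ => Nat) (nl1615 i) (nl1616 i) (Nat.ble 416768 i))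
noncomputable def nd669 (i : Nat) : Nat := (Bool.rec (motive := fun _ => Nat) (nl1617 i) (nl1618 i) (Nat.ble 418816 i))
noncomputable def nd670 (i : Nat) : Nat := (Bool.rec (motive := fun _ => Nat) (nl1619 i) (nl1620 i) (Nat.ble 420864 i))
noncomputable def nd667 (i : Nat) : Nat := (Bool.rec (motive := fun _ => Nat) ((Bool.rec (motive := fun _ => Nat) (nl1614 i) (nd668 i) (Nat.ble 415744 i))) ((Bool.rec (motive := fun _ => Nat) (nd669 i) (nd670 i) (Nat.ble 419840 i))) (Nat.ble 417792 i))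
noncomputable def nd672 (i : Nat) : Nat := (Bool.rec (motive := fun _ => Nat) (nl1622 i) (nl1623 i) (Nat.ble 423936 i))
noncomputable def nd673 (i : Nat) : Nat := (Bool.rec (motive := fun _ => Nat) (nl1624 i) (nl1625 i) (Nat.ble 425984 i))
noncomputable def nd674 (i : Nat) : Nat := (Bool.rec (motive := fun _ => Nat) (nl1626 i) (nl1627 i) (Nat.ble 428032 i))
noncomputable def nd671 (i : Nat) : Nat := (Bool.rec (motive := fun _ => Nat) ((Bool.rec (motive := fun _ => Nat) (nl1621 i) (nd672 i) (Nat.ble 422912 i))) ((Bool.rec (motive := fun _ => Nat) (nd673 i) (nd674 i) (Nat.ble 427008 i))) (Nat.ble 424960 i))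
noncomputable def nd659 (i : Nat) : Nat := (Bool.rec (motive := fun _ => Nat) ((Bool.rec (motive := fun _ => Nat) (nd660 i) (nd663 i) (Nat.ble 407552 i))) ((Bool.rec (motive := fun _ => Nat) (nd667 i) (nd671 i) (Nat.ble 421888 i))) (Nat.ble 414720 i))
noncomputable def nd613 (i : Nat) : Nat := (Bool.rec (motive := fun _ => Nat) ((Bool.rec (motive := fun _ => Nat) (nd614 i) (nd629 i) (Nat.ble 348160 i))) ((Bool.rec (motive := fun _ => Nat) (nd644 i) (nd659 i) (Nat.ble 401408 i))) (Nat.ble 374784 i))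
noncomputable def nd427 (i : Nat) : Nat := (Bool.rec (motive := fun _ => Nat) ((Bool.rec (motive := fun _ => Nat) (nd428 i) (nd489 i) (Nat.ble 106496 i))) ((Bool.rec (motive := fun _ => Nat) (nd551 i) (nd613 i) (Nat.ble 321536 i))) (Nat.ble 214016 i))
noncomputable def nd679 (i : Nat) : Nat := (Bool.rec (motive := fun _ => Nat) (nl1629 i) (nl1630 i) (Nat.ble 431104 i))
noncomputable def nd680 (i : Nat) : Nat := (Bool.rec (motive := fun _ => Nat) (nl1632 i) (nl1633 i) (Nat.ble 434176 i))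
noncomputable def nd678 (i : Nat) : Nat := (Bool.rec (motive := fun _ => Nat) ((Bool.rec (motive := fun _ => Nat) (nl1628 i) (nd679 i) (Nat.ble 430080 i))) ((Bool.rec (motive := fun _ => Nat) (nl1631 i) (nd680 i) (Nat.ble 433152 i))) (Nat.ble 432128 i))
noncomputable def nd682 (i : Nat) : Nat := (Bool.rec (motive := fun _ => Nat) (nl1635 i) (nl1636 i) (Nat.ble 437248 i))
noncomputable def nd683 (i : Nat) : Nat := (Bool.rec (motive := fun _ => Nat) (nl1637 i) (nl1638 i) (Nat.ble 439296 i))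
noncomputable def nd684 (i : Nat) : Nat := (Bool.rec (motive := fun _ => Nat) (nl1639 i) (nl1640 i) (Nat.ble 441344 i))
noncomputable def nd681 (i : Nat) : Nat := (Bool.rec (motive := fun _ => Nat) ((Bool.rec (motive := fun _ => Nat) (nl1634 i) (nd682 i) (Nat.ble 436224 i))) ((Bool.rec (motive := fun _ => Nat) (nd683 i) (nd684 i) (Nat.ble 440320 i))) (Nat.ble 438272 i))
noncomputable def nd686 (i : Nat) : Nat := (Bool.rec (motive := fun _ => Nat) (nl1642 i) (nl1643 i) (Nat.ble 444416 i))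
noncomputable def nd687 (i : Nat) : Nat := (Bool.rec (motive := fun _ => Nat) (nl1645 i) (nl1646 i) (Nat.ble 447488 i))
noncomputable def nd685 (i : Nat) : Nat := (Bool.rec (motive := fun _ => Nat) ((Bool.rec (motive := fun _ => Nat) (nl1641 i) (nd686 i) (Nat.ble 443392 i))) ((Bool.rec (motive := fun _ => Nat) (nl1644 i) (nd687 i) (Nat.ble 446464 i))) (Nat.ble 445440 i))
noncomputable def nd689 (i : Nat) : Nat := (Bool.rec (motive := fun _ => Nat) (nl1648 i) (nl1649 i) (Nat.ble 450560 i))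
noncomputable def nd690 (i : Nat) : Nat := (Bool.rec (motive := fun _ => Nat) (nl1650 i) (nl1651 i) (Nat.ble 452608 i))
noncomputable def nd691 (i : Nat) : Nat := (Bool.rec (motive := fun _ => Nat) (nl1652 i) (nl1653 i) (Nat.ble 454656 i))
noncomputable def nd688 (i : Nat) : Nat := (Bool.rec (motive := fun _ => Nat) ((Bool.rec (motive := fun _ => Nat) (nl1647 i) (nd689 i) (Nat.ble 449536 i))) ((Bool.rec (motive := fun _ => Nat) (nd690 i) (nd691 i) (Nat.ble 453632 i))) (Nat.ble 451584 i))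
noncomputable def nd677 (i : Nat) : Nat := (Bool.rec (motive := fun _ => Nat) ((Bool.rec (motive := fun _ => Nat) (nd678 i) (nd681 i) (Nat.ble 435200 i))) ((Bool.rec (motive := fun _ => Nat) (nd685 i) (nd688 i) (Nat.ble 448512 i))) (Nat.ble 442368 i))
noncomputable def nd694 (i : Nat) : Nat := (Bool.rec (motive := fun _ => Nat) (nl1655 i) (nl1656 i) (Nat.ble 457728 i))
noncomputable def nd695 (i : Nat) : Nat := (Bool.rec (motive := fun _ => Nat) (nl1658 i) (nl1659 i) (Nat.ble 460800 i))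
noncomputable def nd693 (i : Nat) : Nat := (Bool.rec (motive := fun _ => Nat) ((Bool.rec (motive := fun _ => Nat) (nl1654 i) (nd694 i) (Nat.ble 456704 i))) ((Bool.rec (motive := fun _ => Nat) (nl1657 i) (nd695 i) (Nat.ble 459776 i))) (Nat.ble 458752 i))
noncomputable def nd697 (i : Nat) : Nat := (Bool.rec (motive := fun _ => Nat) (nl1661 i) (nl1662 i) (Nat.ble 463872 i))
noncomputable def nd698 (i : Nat) : Nat := (Bool.rec (motive := fun _ => Nat) (nl1663 i) (nl1664 i) (Nat.ble 465920 i))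
noncomputable def nd699 (i : Nat) : Nat := (Bool.rec (motive := fun _ => Nat) (nl1665 i) (nl1666 i) (Nat.ble 467968 i))
noncomputable def nd696 (i : Nat) : Nat := (Bool.rec (motive := fun _ => Nat) ((Bool.rec (motive := fun _ => Nat) (nl1660 i) (nd697 i) (Nat.ble 462848 i))) ((Bool.rec (motive := fun _ => Nat) (nd698 i) (nd699 i) (Nat.ble 466944 i))) (Nat.ble 464896 i))
noncomputable def nd701 (i : Nat) : Nat := (Bool.rec (motive := fun _ => Nat) (nl1668 i) (nl1669 i) (Nat.ble 471040 i))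
noncomputable def nd702 (i : Nat) : Nat := (Bool.rec (motive := fun _ => Nat) (nl1671 i) (nl1672 i) (Nat.ble 474112 i))
noncomputable def nd700 (i : Nat) : Nat := (Bool.rec (motive := fun _ => Nat) ((Bool.rec (motive := fun _ => Nat) (nl1667 i) (nd701 i) (Nat.ble 470016 i))) ((Bool.rec (motive := fun _ => Nat) (nl1670 i) (nd702 i) (Nat.ble 473088 i))) (Nat.ble 472064 i))
noncomputable def nd704 (i : Nat) : Nat := (Bool.rec (motive := fun _ => Nat) (nl1674 i) (nl1675 i) (Nat.ble 477184 i))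
noncomputable def nd705 (i : Nat) : Nat := (Bool.rec (motive := fun _ => Nat) (nl1676 i) (nl1677 i) (Nat.ble 479232 i))
noncomputable def nd706 (i : Nat) : Nat := (Bool.rec (motive := fun _ => Nat) (nl1678 i) (nl1679 i) (Nat.ble 481280 i))
noncomputable def nd703 (i : Nat) : Nat := (Bool.rec (motive := fun _ => Nat) ((Bool.rec (motive := fun _ => Nat) (nl1673 i) (nd704 i) (Nat.ble 476160 i))) ((Bool.rec (motive := fun _ => Nat) (nd705 i) (nd706 i) (Nat.ble 480256 i))) (Nat.ble 478208 i))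
noncomputable def nd692 (i : Nat) : Nat := (Bool.rec (motive := fun _ => Nat) ((Bool.rec (motive := fun _ => Nat) (nd693 i) (nd696 i) (Nat.ble 461824 i))) ((Bool.rec (motive := fun _ => Nat) (nd700 i) (nd703 i) (Nat.ble 475136 i))) (Nat.ble 468992 i))
noncomputable def nd709 (i : Nat) : Nat := (Bool.rec (motive := fun _ => Nat) (nl1681 i) (nl1682 i) (Nat.ble 484352 i))
noncomputable def nd710 (i : Nat) : Nat := (Bool.rec (motive := fun _ => Nat) (nl1684 i) (nl1685 i) (Nat.ble 487424 i))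
noncomputable def nd708 (i : Nat) : Nat := (Bool.rec (motive := fun _ => Nat) ((Bool.rec (motive := fun _ => Nat) (nl1680 i) (nd709 i) (Nat.ble 483328 i))) ((Bool.rec (motive := fun _ => Nat) (nl1683 i) (nd710 i) (Nat.ble 486400 i))) (Nat.ble 485376 i))
noncomputable def nd712 (i : Nat) : Nat := (Bool.rec (motive := fun _ => Nat) (nl1687 i) (nl1688 i) (Nat.ble 490496 i))
noncomputable def nd713 (i : Nat) : Nat := (Bool.rec (motive := fun _ => Nat) (nl1689 i) (nl1690 i) (Nat.ble 492544 i))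
noncomputable def nd714 (i : Nat) : Nat := (Bool.rec (motive := fun _ => Nat) (nl1691 i) (nl1692 i) (Nat.ble 494592 i))
noncomputable def nd711 (i : Nat) : Nat := (Bool.rec (motive := fun _ => Nat) ((Bool.rec (motive := fun _ => Nat) (nl1686 i) (nd712 i) (Nat.ble 489472 i))) ((Bool.rec (motive := fun _ => Nat) (nd713 i) (nd714 i) (Nat.ble 493568 i))) (Nat.ble 491520 i))
noncomputable def nd716 (i : Nat) : Nat := (Bool.rec (motive := fun _ => Nat) (nl1694 i) (nl1695 i) (Nat.ble 497664 i))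
noncomputable def nd717 (i : Nat) : Nat := (Bool.rec (motive := fun _ => Nat) (nl1697 i) (nl1698 i) (Nat.ble 500736 i))
noncomputable def nd715 (i : Nat) : Nat := (Bool.rec (motive := fun _ => Nat) ((Bool.rec (motive := fun _ => Nat) (nl1693 i) (nd716 i) (Nat.ble 496640 i))) ((Bool.rec (motive := fun _ => Nat) (nl1696 i) (nd717 i) (Nat.ble 499712 i))) (Nat.ble 498688 i))
noncomputable def nd719 (i : Nat) : Nat := (Bool.rec (motive := fun _ => Nat) (nl1700 i) (nl1701 i) (Nat.ble 503808 i))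
noncomputable def nd720 (i : Nat) : Nat := (Bool.rec (motive := fun _ => Nat) (nl1702 i) (nl1703 i) (Nat.ble 505856 i))
noncomputable def nd721 (i : Nat) : Nat := (Bool.rec (motive := fun _ => Nat) (nl1704 i) (nl1705 i) (Nat.ble 507904 i))
noncomputable def nd718 (i : Nat) : Nat := (Bool.rec (motive := fun _ => Nat) ((Bool.rec (motive := fun _ => Nat) (nl1699 i) (nd719 i) (Nat.ble 502784 i))) ((Bool.rec (motive := fun _ => Nat) (nd720 i) (nd721 i) (Nat.ble 506880 i))) (Nat.ble 504832 i))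
noncomputable def nd707 (i : Nat) : Nat := (Bool.rec (motive := fun _ => Nat) ((Bool.rec (motive := fun _ => Nat) (nd708 i) (nd711 i) (Nat.ble 488448 i))) ((Bool.rec (motive := fun _ => Nat) (nd715 i) (nd718 i) (Nat.ble 501760 i))) (Nat.ble 495616 i))
noncomputable def nd724 (i : Nat) : Nat := (Bool.rec (motive := fun _ => Nat) (nl1707 i) (nl1708 i) (Nat.ble 510976 i))
noncomputable def nd725 (i : Nat) : Nat := (Bool.rec (motive := fun _ => Nat) (nl1710 i) (nl1711 i) (Nat.ble 514048 i))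
noncomputable def nd723 (i : Nat) : Nat := (Bool.rec (motive := fun _ => Nat) ((Bool.rec (motive := fun _ => Nat) (nl1706 i) (nd724 i) (Nat.ble 509952 i))) ((Bool.rec (motive := fun _ => Nat) (nl1709 i) (nd725 i) (Nat.ble 513024 i))) (Nat.ble 512000 i))
noncomputable def nd727 (i : Nat) : Nat := (Bool.rec (motive := fun _ => Nat) (nl1713 i) (nl1714 i) (Nat.ble 517120 i))
noncomputable def nd728 (i : Nat) : Nat := (Bool.rec (motive := fun _ => Nat) (nl1715 i) (nl1716 i) (Nat.ble 519168 i))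
noncomputable def nd729 (i : Nat) : Nat := (Bool.rec (motive := fun _ => Nat) (nl1717 i) (nl1718 i) (Nat.ble 521216 i))
noncomputable def nd726 (i : Nat) : Nat := (Bool.rec (motive := fun _ => Nat) ((Bool.rec (motive := fun _ => Nat) (nl1712 i) (nd727 i) (Nat.ble 516096 i))) ((Bool.rec (motive := fun _ => Nat) (nd728 i) (nd729 i) (Nat.ble 520192 i))) (Nat.ble 518144 i))
noncomputable def nd731 (i : Nat) : Nat := (Bool.rec (motive := fun _ => Nat) (nl1720 i) (nl1721 i) (Nat.ble 524288 i))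
noncomputable def nd732 (i : Nat) : Nat := (Bool.rec (motive := fun _ => Nat) (nl1722 i) (nl1723 i) (Nat.ble 526336 i))
noncomputable def nd733 (i : Nat) : Nat := (Bool.rec (motive := fun _ => Nat) (nl1724 i) (nl1725 i) (Nat.ble 528384 i))
noncomputable def nd730 (i : Nat) : Nat := (Bool.rec (motive := fun _ => Nat) ((Bool.rec (motive := fun _ => Nat) (nl1719 i) (nd731 i) (Nat.ble 523264 i))) ((Bool.rec (motive := fun _ => Nat) (nd732 i) (nd733 i) (Nat.ble 527360 i))) (Nat.ble 525312 i))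
noncomputable def nd735 (i : Nat) : Nat := (Bool.rec (motive := fun _ => Nat) (nl1727 i) (nl1728 i) (Nat.ble 531456 i))
noncomputable def nd736 (i : Nat) : Nat := (Bool.rec (motive := fun _ => Nat) (nl1729 i) (nl1730 i) (Nat.ble 533504 i))
noncomputable def nd737 (i : Nat) : Nat := (Bool.rec (motive := fun _ => Nat) (nl1731 i) (nl1732 i) (Nat.ble 535552 i))
noncomputable def nd734 (i : Nat) : Nat := (Bool.rec (motive := fun _ => Nat) ((Bool.rec (motive := fun _ => Nat) (nl1726 i) (nd735 i) (Nat.ble 530432 i))) ((Bool.rec (motive := fun _ => Nat) (nd736 i) (nd737 i) (Nat.ble 534528 i))) (Nat.ble 532480 i))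
noncomputable def nd722 (i : Nat) : Nat := (Bool.rec (motive := fun _ => Nat) ((Bool.rec (motive := fun _ => Nat) (nd723 i) (nd726 i) (Nat.ble 515072 i))) ((Bool.rec (motive := fun _ => Nat) (nd730 i) (nd734 i) (Nat.ble 529408 i))) (Nat.ble 522240 i))
noncomputable def nd676 (i : Nat) : Nat := (Bool.rec (motive := fun _ => Nat) ((Bool.rec (motive := fun _ => Nat) (nd677 i) (nd692 i) (Nat.ble 455680 i))) ((Bool.rec (motive := fun _ => Nat) (nd707 i) (nd722 i) (Nat.ble 508928 i))) (Nat.ble 482304 i))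
noncomputable def nd741 (i : Nat) : Nat := (Bool.rec (motive := fun _ => Nat) (nl1734 i) (nl1735 i) (Nat.ble 538624 i))
noncomputable def nd742 (i : Nat) : Nat := (Bool.rec (motive := fun _ => Nat) (nl1737 i) (nl1738 i) (Nat.ble 541696 i))
noncomputable def nd740 (i : Nat) : Nat := (Bool.rec (motive := fun _ => Nat) ((Bool.rec (motive := fun _ => Nat) (nl1733 i) (nd741 i) (Nat.ble 537600 i))) ((Bool.rec (motive := fun _ => Nat) (nl1736 i) (nd742 i) (Nat.ble 540672 i))) (Nat.ble 539648 i))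
noncomputable def nd744 (i : Nat) : Nat := (Bool.rec (motive := fun _ => Nat) (nl1740 i) (nl1741 i) (Nat.ble 544768 i))
noncomputable def nd745 (i : Nat) : Nat := (Bool.rec (motive := fun _ => Nat) (nl1742 i) (nl1743 i) (Nat.ble 546816 i))
noncomputable def nd746 (i : Nat) : Nat := (Bool.rec (motive := fun _ => Nat) (nl1744 i) (nl1745 i) (Nat.ble 548864 i))
noncomputable def nd743 (i : Nat) : Nat := (Bool.rec (motive := fun _ => Nat) ((Bool.rec (motive := fun _ => Nat) (nl1739 i) (nd744 i) (Nat.ble 543744 i))) ((Bool.rec (motive := fun _ => Nat) (nd745 i) (nd746 i) (Nat.ble 547840 i))) (Nat.ble 545792 i))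
noncomputable def nd748 (i : Nat) : Nat := (Bool.rec (motive := fun _ => Nat) (nl1747 i) (nl1748 i) (Nat.ble 551936 i))
noncomputable def nd749 (i : Nat) : Nat := (Bool.rec (motive := fun _ => Nat) (nl1750 i) (nl1751 i) (Nat.ble 555008 i))
noncomputable def nd747 (i : Nat) : Nat := (Bool.rec (motive := fun _ => Nat) ((Bool.rec (motive := fun _ => Nat) (nl1746 i) (nd748 i) (Nat.ble 550912 i))) ((Bool.rec (motive := fun _ => Nat) (nl1749 i) (nd749 i) (Nat.ble 553984 i))) (Nat.ble 552960 i))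
noncomputable def nd751 (i : Nat) : Nat := (Bool.rec (motive := fun _ => Nat) (nl1753 i) (nl1754 i) (Nat.ble 558080 i))
noncomputable def nd752 (i : Nat) : Nat := (Bool.rec (motive := fun _ => Nat) (nl1755 i) (nl1756 i) (Nat.ble 560128 i))
noncomputable def nd753 (i : Nat) : Nat := (Bool.rec (motive := fun _ => Nat) (nl1757 i) (nl1758 i) (Nat.ble 562176 i))
noncomputable def nd750 (i : Nat) : Nat := (Bool.rec (motive := fun _ => Nat) ((Bool.rec (motive := fun _ => Nat) (nl1752 i) (nd751 i) (Nat.ble 557056 i))) ((Bool.rec (motive := fun _ => Nat) (nd752 i) (nd753 i) (Nat.ble 561152 i))) (Nat.ble 559104 i))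
noncomputable def nd739 (i : Nat) : Nat := (Bool.rec (motive := fun _ => Nat) ((Bool.rec (motive := fun _ => Nat) (nd740 i) (nd743 i) (Nat.ble 542720 i))) ((Bool.rec (motive := fun _ => Nat) (nd747 i) (nd750 i) (Nat.ble 556032 i))) (Nat.ble 549888 i))
noncomputable def nd756 (i : Nat) : Nat := (Bool.rec (motive := fun _ => Nat) (nl1760 i) (nl1761 i) (Nat.ble 565248 i))
noncomputable def nd757 (i : Nat) : Nat := (Bool.rec (motive := fun _ => Nat) (nl1763 i) (nl1764 i) (Nat.ble 568320 i))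
noncomputable def nd755 (i : Nat) : Nat := (Bool.rec (motive := fun _ => Nat) ((Bool.rec (motive := fun _ => Nat) (nl1759 i) (nd756 i) (Nat.ble 564224 i))) ((Bool.rec (motive := fun _ => Nat) (nl1762 i) (nd757 i) (Nat.ble 567296 i))) (Nat.ble 566272 i))
noncomputable def nd759 (i : Nat) : Nat := (Bool.rec (motive := fun _ => Nat) (nl1766 i) (nl1767 i) (Nat.ble 571392 i))
noncomputable def nd760 (i : Nat) : Nat := (Bool.rec (motive := fun _ => Nat) (nl1768 i) (nl1769 i) (Nat.ble 573440 i))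
noncomputable def nd761 (i : Nat) : Nat := (Bool.rec (motive := fun _ => Nat) (nl1770 i) (nl1771 i) (Nat.ble 575488 i))
noncomputable def nd758 (i : Nat) : Nat := (Bool.rec (motive := fun _ => Nat) ((Bool.rec (motive := fun _ => Nat) (nl1765 i) (nd759 i) (Nat.ble 570368 i))) ((Bool.rec (motive := fun _ => Nat) (nd760 i) (nd761 i) (Nat.ble 574464 i))) (Nat.ble 572416 i))
noncomputable def nd763 (i : Nat) : Nat := (Bool.rec (motive := fun _ => Nat) (nl1773 i) (nl1774 i) (Nat.ble 578560 i))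
noncomputable def nd764 (i : Nat) : Nat := (Bool.rec (motive := fun _ => Nat) (nl1776 i) (nl1777 i) (Nat.ble 581632 i))
noncomputable def nd762 (i : Nat) : Nat := (Bool.rec (motive := fun _ => Nat) ((Bool.rec (motive := fun _ => Nat) (nl1772 i) (nd763 i) (Nat.ble 577536 i))) ((Bool.rec (motive := fun _ => Nat) (nl1775 i) (nd764 i) (Nat.ble 580608 i))) (Nat.ble 579584 i))
noncomputable def nd766 (i : Nat) : Nat := (Bool.rec (motive := fun _ => Nat) (nl1779 i) (nl1780 i) (Nat.ble 584704 i))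
noncomputable def nd767 (i : Nat) : Nat := (Bool.rec (motive := fun _ => Nat) (nl1781 i) (nl1782 i) (Nat.ble 586752 i))
noncomputable def nd768 (i : Nat) : Nat := (Bool.rec (motive := fun _ => Nat) (nl1783 i) (nl1784 i) (Nat.ble 588800 i))
noncomputable def nd765 (i : Nat) : Nat := (Bool.rec (motive := fun _ => Nat) ((Bool.rec (motive := fun _ => Nat) (nl1778 i) (nd766 i) (Nat.ble 583680 i))) ((Bool.rec (motive := fun _ => Nat) (nd767 i) (nd768 i) (Nat.ble 587776 i))) (Nat.ble 585728 i))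
noncomputable def nd754 (i : Nat) : Nat := (Bool.rec (motive := fun _ => Nat) ((Bool.rec (motive := fun _ => Nat) (nd755 i) (nd758 i) (Nat.ble 569344 i))) ((Bool.rec (motive := fun _ => Nat) (nd762 i) (nd765 i) (Nat.ble 582656 i))) (Nat.ble 576512 i))
noncomputable def nd771 (i : Nat) : Nat := (Bool.rec (motive := fun _ => Nat) (nl1786 i) (nl1787 i) (Nat.ble 591872 i))
noncomputable def nd772 (i : Nat) : Nat := (Bool.rec (motive := fun _ => Nat) (nl1789 i) (nl1790 i) (Nat.ble 594944 i))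
noncomputable def nd770 (i : Nat) : Nat := (Bool.rec (motive := fun _ => Nat) ((Bool.rec (motive := fun _ => Nat) (nl1785 i) (nd771 i) (Nat.ble 590848 i))) ((Bool.rec (motive := fun _ => Nat) (nl1788 i) (nd772 i) (Nat.ble 593920 i))) (Nat.ble 592896 i))
noncomputable def nd774 (i : Nat) : Nat := (Bool.rec (motive := fun _ => Nat) (nl1792 i) (nl1793 i) (Nat.ble 598016 i))
noncomputable def nd775 (i : Nat) : Nat := (Bool.rec (motive := fun _ => Nat) (nl1794 i) (nl1795 i) (Nat.ble 600064 i))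
noncomputable def nd776 (i : Nat) : Nat := (Bool.rec (motive := fun _ => Nat) (nl1796 i) (nl1797 i) (Nat.ble 602112 i))
noncomputable def nd773 (i : Nat) : Nat := (Bool.rec (motive := fun _ => Nat) ((Bool.rec (motive := fun _ => Nat) (nl1791 i) (nd774 i) (Nat.ble 596992 i))) ((Bool.rec (motive := fun _ => Nat) (nd775 i) (nd776 i) (Nat.ble 601088 i))) (Nat.ble 599040 i))
noncomputable def nd778 (i : Nat) : Nat := (Bool.rec (motive := fun _ => Nat) (nl1799 i) (nl1800 i) (Nat.ble 605184 i))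
noncomputable def nd779 (i : Nat) : Nat := (Bool.rec (motive := fun _ => Nat) (nl1802 i) (nl1803 i) (Nat.ble 608256 i))
noncomputable def nd777 (i : Nat) : Nat := (Bool.rec (motive := fun _ => Nat) ((Bool.rec (motive := fun _ => Nat) (nl1798 i) (nd778 i) (Nat.ble 604160 i))) ((Bool.rec (motive := fun _ => Nat) (nl1801 i) (nd779 i) (Nat.ble 607232 i))) (Nat.ble 606208 i))
noncomputable def nd781 (i : Nat) : Nat := (Bool.rec (motive := fun _ => Nat) (nl1805 i) (nl1806 i) (Nat.ble 611328 i))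
noncomputable def nd782 (i : Nat) : Nat := (Bool.rec (motive := fun _ => Nat) (nl1807 i) (nl1808 i) (Nat.ble 613376 i))
noncomputable def nd783 (i : Nat) : Nat := (Bool.rec (motive := fun _ => Nat) (nl1809 i) (nl1810 i) (Nat.ble 615424 i))
noncomputable def nd780 (i : Nat) : Nat := (Bool.rec (motive := fun _ => Nat) ((Bool.rec (motive := fun _ => Nat) (nl1804 i) (nd781 i) (Nat.ble 610304 i))) ((Bool.rec (motive := fun _ => Nat) (nd782 i) (nd783 i) (Nat.ble 614400 i))) (Nat.ble 612352 i))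
noncomputable def nd769 (i : Nat) : Nat := (Bool.rec (motive := fun _ => Nat) ((Bool.rec (motive := fun _ => Nat) (nd770 i) (nd773 i) (Nat.ble 595968 i))) ((Bool.rec (motive := fun _ => Nat) (nd777 i) (nd780 i) (Nat.ble 609280 i))) (Nat.ble 603136 i))
noncomputable def nd786 (i : Nat) : Nat := (Bool.rec (motive := fun _ => Nat) (nl1812 i) (nl1813 i) (Nat.ble 618496 i))
noncomputable def nd787 (i : Nat) : Nat := (Bool.rec (motive := fun _ => Nat) (nl1815 i) (nl1816 i) (Nat.ble 621568 i))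
noncomputable def nd785 (i : Nat) : Nat := (Bool.rec (motive := fun _ => Nat) ((Bool.rec (motive := fun _ => Nat) (nl1811 i) (nd786 i) (Nat.ble 617472 i))) ((Bool.rec (motive := fun _ => Nat) (nl1814 i) (nd787 i) (Nat.ble 620544 i))) (Nat.ble 619520 i))
noncomputable def nd789 (i : Nat) : Nat := (Bool.rec (motive := fun _ => Nat) (nl1818 i) (nl1819 i) (Nat.ble 624640 i))
noncomputable def nd790 (i : Nat) : Nat := (Bool.rec (motive := fun _ => Nat) (nl1820 i) (nl1821 i) (Nat.ble 626688 i))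
noncomputable def nd791 (i : Nat) : Nat := (Bool.rec (motive := fun _ => Nat) (nl1822 i) (nl1823 i) (Nat.ble 628736 i))
noncomputable def nd788 (i : Nat) : Nat := (Bool.rec (motive := fun _ => Nat) ((Bool.rec (motive := fun _ => Nat) (nl1817 i) (nd789 i) (Nat.ble 623616 i))) ((Bool.rec (motive := fun _ => Nat) (nd790 i) (nd791 i) (Nat.ble 627712 i))) (Nat.ble 625664 i))
noncomputable def nd793 (i : Nat) : Nat := (Bool.rec (motive := fun _ => Nat) (nl1825 i) (nl1826 i) (Nat.ble 631808 i))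
noncomputable def nd794 (i : Nat) : Nat := (Bool.rec (motive := fun _ => Nat) (nl1827 i) (nl1828 i) (Nat.ble 633856 i))
noncomputable def nd795 (i : Nat) : Nat := (Bool.rec (motive := fun _ => Nat) (nl1829 i) (nl1830 i) (Nat.ble 635904 i))
noncomputable def nd792 (i : Nat) : Nat := (Bool.rec (motive := fun _ => Nat) ((Bool.rec (motive := fun _ => Nat) (nl1824 i) (nd793 i) (Nat.ble 630784 i))) ((Bool.rec (motive := fun _ => Nat) (nd794 i) (nd795 i) (Nat.ble 634880 i))) (Nat.ble 632832 i))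
noncomputable def nd797 (i : Nat) : Nat := (Bool.rec (motive := fun _ => Nat) (nl1832 i) (nl1833 i) (Nat.ble 638976 i))
noncomputable def nd798 (i : Nat) : Nat := (Bool.rec (motive := fun _ => Nat) (nl1834 i) (nl1835 i) (Nat.ble 641024 i))
noncomputable def nd799 (i : Nat) : Nat := (Bool.rec (motive := fun _ => Nat) (nl1836 i) (nl1837 i) (Nat.ble 643072 i))
noncomputable def nd796 (i : Nat) : Nat := (Bool.rec (motive := fun _ => Nat) ((Bool.rec (motive := fun _ => Nat) (nl1831 i) (nd797 i) (Nat.ble 637952 i))) ((Bool.rec (motive := fun _ => Nat) (nd798 i) (nd799 i) (Nat.ble 642048 i))) (Nat.ble 640000 i))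
noncomputable def nd784 (i : Nat) : Nat := (Bool.rec (motive := fun _ => Nat) ((Bool.rec (motive := fun _ => Nat) (nd785 i) (nd788 i) (Nat.ble 622592 i))) ((Bool.rec (motive := fun _ => Nat) (nd792 i) (nd796 i) (Nat.ble 636928 i))) (Nat.ble 629760 i))
noncomputable def nd738 (i : Nat) : Nat := (Bool.rec (motive := fun _ => Nat) ((Bool.rec (motive := fun _ => Nat) (nd739 i) (nd754 i) (Nat.ble 563200 i))) ((Bool.rec (motive := fun _ => Nat) (nd769 i) (nd784 i) (Nat.ble 616448 i))) (Nat.ble 589824 i))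
noncomputable def nd803 (i : Nat) : Nat := (Bool.rec (motive := fun _ => Nat) (nl1839 i) (nl1840 i) (Nat.ble 646144 i))
noncomputable def nd804 (i : Nat) : Nat := (Bool.rec (motive := fun _ => Nat) (nl1842 i) (nl1843 i) (Nat.ble 649216 i))
noncomputable def nd802 (i : Nat) : Nat := (Bool.rec (motive := fun _ => Nat) ((Bool.rec (motive := fun _ => Nat) (nl1838 i) (nd803 i) (Nat.ble 645120 i))) ((Bool.rec (motive := fun _ => Nat) (nl1841 i) (nd804 i) (Nat.ble 648192 i))) (Nat.ble 647168 i))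
noncomputable def nd806 (i : Nat) : Nat := (Bool.rec (motive := fun _ => Nat) (nl1845 i) (nl1846 i) (Nat.ble 652288 i))
noncomputable def nd807 (i : Nat) : Nat := (Bool.rec (motive := fun _ => Nat) (nl1847 i) (nl1848 i) (Nat.ble 654336 i))
noncomputable def nd808 (i : Nat) : Nat := (Bool.rec (motive := fun _ => Nat) (nl1849 i) (nl1850 i) (Nat.ble 656384 i))
noncomputable def nd805 (i : Nat) : Nat := (Bool.rec (motive := fun _ => Nat) ((Bool.rec (motive := fun _ => Nat) (nl1844 i) (nd806 i) (Nat.ble 651264 i))) ((Bool.rec (motive := fun _ => Nat) (nd807 i) (nd808 i) (Nat.ble 655360 i))) (Nat.ble 653312 i))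
noncomputable def nd810 (i : Nat) : Nat := (Bool.rec (motive := fun _ => Nat) (nl1852 i) (nl1853 i) (Nat.ble 659456 i))
noncomputable def nd811 (i : Nat) : Nat := (Bool.rec (motive := fun _ => Nat) (nl1855 i) (nl1856 i) (Nat.ble 662528 i))
noncomputable def nd809 (i : Nat) : Nat := (Bool.rec (motive := fun _ => Nat) ((Bool.rec (motive := fun _ => Nat) (nl1851 i) (nd810 i) (Nat.ble 658432 i))) ((Bool.rec (motive := fun _ => Nat) (nl1854 i) (nd811 i) (Nat.ble 661504 i))) (Nat.ble 660480 i))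
noncomputable def nd813 (i : Nat) : Nat := (Bool.rec (motive := fun _ => Nat) (nl1858 i) (nl1859 i) (Nat.ble 665600 i))
noncomputable def nd814 (i : Nat) : Nat := (Bool.rec (motive := fun _ => Nat) (nl1860 i) (nl1861 i) (Nat.ble 667648 i))
noncomputable def nd815 (i : Nat) : Nat := (Bool.rec (motive := fun _ => Nat) (nl1862 i) (nl1863 i) (Nat.ble 669696 i))
noncomputable def nd812 (i : Nat) : Nat := (Bool.rec (motive := fun _ => Nat) ((Bool.rec (motive := fun _ => Nat) (nl1857 i) (nd813 i) (Nat.ble 664576 i))) ((Bool.rec (motive := fun _ => Nat) (nd814 i) (nd815 i) (Nat.ble 668672 i))) (Nat.ble 666624 i))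
noncomputable def nd801 (i : Nat) : Nat := (Bool.rec (motive := fun _ => Nat) ((Bool.rec (motive := fun _ => Nat) (nd802 i) (nd805 i) (Nat.ble 650240 i))) ((Bool.rec (motive := fun _ => Nat) (nd809 i) (nd812 i) (Nat.ble 663552 i))) (Nat.ble 657408 i))
noncomputable def nd818 (i : Nat) : Nat := (Bool.rec (motive := fun _ => Nat) (nl1865 i) (nl1866 i) (Nat.ble 672768 i))
noncomputable def nd819 (i : Nat) : Nat := (Bool.rec (motive := fun _ => Nat) (nl1868 i) (nl1869 i) (Nat.ble 675840 i))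
noncomputable def nd817 (i : Nat) : Nat := (Bool.rec (motive := fun _ => Nat) ((Bool.rec (motive := fun _ => Nat) (nl1864 i) (nd818 i) (Nat.ble 671744 i))) ((Bool.rec (motive := fun _ => Nat) (nl1867 i) (nd819 i) (Nat.ble 674816 i))) (Nat.ble 673792 i))
noncomputable def nd821 (i : Nat) : Nat := (Bool.rec (motive := fun _ => Nat) (nl1871 i) (nl1872 i) (Nat.ble 678912 i))
noncomputable def nd822 (i : Nat) : Nat := (Bool.rec (motive := fun _ => Nat) (nl1873 i) (nl1874 i) (Nat.ble 680960 i))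
noncomputable def nd823 (i : Nat) : Nat := (Bool.rec (motive := fun _ => Nat) (nl1875 i) (nl1876 i) (Nat.ble 683008 i))
noncomputable def nd820 (i : Nat) : Nat := (Bool.rec (motive := fun _ => Nat) ((Bool.rec (motive := fun _ => Nat) (nl1870 i) (nd821 i) (Nat.ble 677888 i))) ((Bool.rec (motive := fun _ => Nat) (nd822 i) (nd823 i) (Nat.ble 681984 i))) (Nat.ble 679936 i))
noncomputable def nd825 (i : Nat) : Nat := (Bool.rec (motive := fun _ => Nat) (nl1878 i) (nl1879 i) (Nat.ble 686080 i))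
noncomputable def nd826 (i : Nat) : Nat := (Bool.rec (motive := fun _ => Nat) (nl1881 i) (nl1882 i) (Nat.ble 689152 i))
noncomputable def nd824 (i : Nat) : Nat := (Bool.rec (motive := fun _ => Nat) ((Bool.rec (motive := fun _ => Nat) (nl1877 i) (nd825 i) (Nat.ble 685056 i))) ((Bool.rec (motive := fun _ => Nat) (nl1880 i) (nd826 i) (Nat.ble 688128 i))) (Nat.ble 687104 i))
noncomputable def nd828 (i : Nat) : Nat := (Bool.rec (motive := fun _ => Nat) (nl1884 i) (nl1885 i) (Nat.ble 692224 i))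
noncomputable def nd829 (i : Nat) : Nat := (Bool.rec (motive := fun _ => Nat) (nl1886 i) (nl1887 i) (Nat.ble 694272 i))
noncomputable def nd830 (i : Nat) : Nat := (Bool.rec (motive := fun _ => Nat) (nl1888 i) (nl1889 i) (Nat.ble 696320 i))
noncomputable def nd827 (i : Nat) : Nat := (Bool.rec (motive := fun _ => Nat) ((Bool.rec (motive := fun _ => Nat) (nl1883 i) (nd828 i) (Nat.ble 691200 i))) ((Bool.rec (motive := fun _ => Nat) (nd829 i) (nd830 i) (Nat.ble 695296 i))) (Nat.ble 693248 i))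
noncomputable def nd816 (i : Nat) : Nat := (Bool.rec (motive := fun _ => Nat) ((Bool.rec (motive := fun _ => Nat) (nd817 i) (nd820 i) (Nat.ble 676864 i))) ((Bool.rec (motive := fun _ => Nat) (nd824 i) (nd827 i) (Nat.ble 690176 i))) (Nat.ble 684032 i))
noncomputable def nd833 (i : Nat) : Nat := (Bool.rec (motive := fun _ => Nat) (nl1891 i) (nl1892 i) (Nat.ble 699392 i))
noncomputable def nd834 (i : Nat) : Nat := (Bool.rec (motive := fun _ => Nat) (nl1894 i) (nl1895 i) (Nat.ble 702464 i))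
noncomputable def nd832 (i : Nat) : Nat := (Bool.rec (motive := fun _ => Nat) ((Bool.rec (motive := fun _ => Nat) (nl1890 i) (nd833 i) (Nat.ble 698368 i))) ((Bool.rec (motive := fun _ => Nat) (nl1893 i) (nd834 i) (Nat.ble 701440 i))) (Nat.ble 700416 i))
noncomputable def nd836 (i : Nat) : Nat := (Bool.rec (motive := fun _ => Nat) (nl1897 i) (nl1898 i) (Nat.ble 705536 i))
noncomputable def nd837 (i : Nat) : Nat := (Bool.rec (motive := fun _ => Nat) (nl1899 i) (nl1900 i) (Nat.ble 707584 i))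
noncomputable def nd838 (i : Nat) : Nat := (Bool.rec (motive := fun _ => Nat) (nl1901 i) (nl1902 i) (Nat.ble 709632 i))
noncomputable def nd835 (i : Nat) : Nat := (Bool.rec (motive := fun _ => Nat) ((Bool.rec (motive := fun _ => Nat) (nl1896 i) (nd836 i) (Nat.ble 704512 i))) ((Bool.rec (motive := fun _ => Nat) (nd837 i) (nd838 i) (Nat.ble 708608 i))) (Nat.ble 706560 i))
noncomputable def nd840 (i : Nat) : Nat := (Bool.rec (motive := fun _ => Nat) (nl1904 i) (nl1905 i) (Nat.ble 712704 i))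
noncomputable def nd841 (i : Nat) : Nat := (Bool.rec (motive := fun _ => Nat) (nl1907 i) (nl1908 i) (Nat.ble 715776 i))
noncomputable def nd839 (i : Nat) : Nat := (Bool.rec (motive := fun _ => Nat) ((Bool.rec (motive := fun _ => Nat) (nl1903 i) (nd840 i) (Nat.ble 711680 i))) ((Bool.rec (motive := fun _ => Nat) (nl1906 i) (nd841 i) (Nat.ble 714752 i))) (Nat.ble 713728 i))
noncomputable def nd843 (i : Nat) : Nat := (Bool.rec (motive := fun _ => Nat) (nl1910 i) (nl1911 i) (Nat.ble 718848 i))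
noncomputable def nd844 (i : Nat) : Nat := (Bool.rec (motive := fun _ => Nat) (nl1912 i) (nl1913 i) (Nat.ble 720896 i))
noncomputable def nd845 (i : Nat) : Nat := (Bool.rec (motive := fun _ => Nat) (nl1914 i) (nl1915 i) (Nat.ble 722944 i))
noncomputable def nd842 (i : Nat) : Nat := (Bool.rec (motive := fun _ => Nat) ((Bool.rec (motive := fun _ => Nat) (nl1909 i) (nd843 i) (Nat.ble 717824 i))) ((Bool.rec (motive := fun _ => Nat) (nd844 i) (nd845 i) (Nat.ble 721920 i))) (Nat.ble 719872 i))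
noncomputable def nd831 (i : Nat) : Nat := (Bool.rec (motive := fun _ => Nat) ((Bool.rec (motive := fun _ => Nat) (nd832 i) (nd835 i) (Nat.ble 703488 i))) ((Bool.rec (motive := fun _ => Nat) (nd839 i) (nd842 i) (Nat.ble 716800 i))) (Nat.ble 710656 i))
noncomputable def nd848 (i : Nat) : Nat := (Bool.rec (motive := fun _ => Nat) (nl1917 i) (nl1918 i) (Nat.ble 726016 i))
noncomputable def nd849 (i : Nat) : Nat := (Bool.rec (motive := fun _ => Nat) (nl1920 i) (nl1921 i) (Nat.ble 729088 i))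
noncomputable def nd847 (i : Nat) : Nat := (Bool.rec (motive := fun _ => Nat) ((Bool.rec (motive := fun _ => Nat) (nl1916 i) (nd848 i) (Nat.ble 724992 i))) ((Bool.rec (motive := fun _ => Nat) (nl1919 i) (nd849 i) (Nat.ble 728064 i))) (Nat.ble 727040 i))
noncomputable def nd851 (i : Nat) : Nat := (Bool.rec (motive := fun _ => Nat) (nl1923 i) (nl1924 i) (Nat.ble 732160 i))
noncomputable def nd852 (i : Nat) : Nat := (Bool.rec (motive := fun _ => Nat) (nl1925 i) (nl1926 i) (Nat.ble 734208 i))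
noncomputable def nd853 (i : Nat) : Nat := (Bool.rec (motive := fun _ => Nat) (nl1927 i) (nl1928 i) (Nat.ble 736256 i))
noncomputable def nd850 (i : Nat) : Nat := (Bool.rec (motive := fun _ => Nat) ((Bool.rec (motive := fun _ => Nat) (nl1922 i) (nd851 i) (Nat.ble 731136 i))) ((Bool.rec (motive := fun _ => Nat) (nd852 i) (nd853 i) (Nat.ble 735232 i))) (Nat.ble 733184 i))
noncomputable def nd855 (i : Nat) : Nat := (Bool.rec (motive := fun _ => Nat) (nl1930 i) (nl1931 i) (Nat.ble 739328 i))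
noncomputable def nd856 (i : Nat) : Nat := (Bool.rec (motive := fun _ => Nat) (nl1932 i) (nl1933 i) (Nat.ble 741376 i))
noncomputable def nd857 (i : Nat) : Nat := (Bool.rec (motive := fun _ => Nat) (nl1934 i) (nl1935 i) (Nat.ble 743424 i))
noncomputable def nd854 (i : Nat) : Nat := (Bool.rec (motive := fun _ => Nat) ((Bool.rec (motive := fun _ => Nat) (nl1929 i) (nd855 i) (Nat.ble 738304 i))) ((Bool.rec (motive := fun _ => Nat) (nd856 i) (nd857 i) (Nat.ble 742400 i))) (Nat.ble 740352 i))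
noncomputable def nd859 (i : Nat) : Nat := (Bool.rec (motive := fun _ => Nat) (nl1937 i) (nl1938 i) (Nat.ble 746496 i))
noncomputable def nd860 (i : Nat) : Nat := (Bool.rec (motive := fun _ => Nat) (nl1939 i) (nl1940 i) (Nat.ble 748544 i))
noncomputable def nd861 (i : Nat) : Nat := (Bool.rec (motive := fun _ => Nat) (nl1941 i) (nl1942 i) (Nat.ble 750592 i))
noncomputable def nd858 (i : Nat) : Nat := (Bool.rec (motive := fun _ => Nat) ((Bool.rec (motive := fun _ => Nat) (nl1936 i) (nd859 i) (Nat.ble 745472 i))) ((Bool.rec (motive := fun _ => Nat) (nd860 i) (nd861 i) (Nat.ble 749568 i))) (Nat.ble 747520 i))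
noncomputable def nd846 (i : Nat) : Nat := (Bool.rec (motive := fun _ => Nat) ((Bool.rec (motive := fun _ => Nat) (nd847 i) (nd850 i) (Nat.ble 730112 i))) ((Bool.rec (motive := fun _ => Nat) (nd854 i) (nd858 i) (Nat.ble 744448 i))) (Nat.ble 737280 i))
noncomputable def nd800 (i : Nat) : Nat := (Bool.rec (motive := fun _ => Nat) ((Bool.rec (motive := fun _ => Nat) (nd801 i) (nd816 i) (Nat.ble 670720 i))) ((Bool.rec (motive := fun _ => Nat) (nd831 i) (nd846 i) (Nat.ble 723968 i))) (Nat.ble 697344 i))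
noncomputable def nd865 (i : Nat) : Nat := (Bool.rec (motive := fun _ => Nat) (nl1944 i) (nl1945 i) (Nat.ble 753664 i))
noncomputable def nd866 (i : Nat) : Nat := (Bool.rec (motive := fun _ => Nat) (nl1947 i) (nl1948 i) (Nat.ble 756736 i))
noncomputable def nd864 (i : Nat) : Nat := (Bool.rec (motive := fun _ => Nat) ((Bool.rec (motive := fun _ => Nat) (nl1943 i) (nd865 i) (Nat.ble 752640 i))) ((Bool.rec (motive := fun _ => Nat) (nl1946 i) (nd866 i) (Nat.ble 755712 i))) (Nat.ble 754688 i))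
noncomputable def nd868 (i : Nat) : Nat := (Bool.rec (motive := fun _ => Nat) (nl1950 i) (nl1951 i) (Nat.ble 759808 i))
noncomputable def nd869 (i : Nat) : Nat := (Bool.rec (motive := fun _ => Nat) (nl1952 i) (nl1953 i) (Nat.ble 761856 i))
noncomputable def nd870 (i : Nat) : Nat := (Bool.rec (motive := fun _ => Nat) (nl1954 i) (nl1955 i) (Nat.ble 763904 i))
noncomputable def nd867 (i : Nat) : Nat := (Bool.rec (motive := fun _ => Nat) ((Bool.rec (motive := fun _ => Nat) (nl1949 i) (nd868 i) (Nat.ble 758784 i))) ((Bool.rec (motive := fun _ => Nat) (nd869 i) (nd870 i) (Nat.ble 762880 i))) (Nat.ble 760832 i))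
noncomputable def nd872 (i : Nat) : Nat := (Bool.rec (motive := fun _ => Nat) (nl1957 i) (nl1958 i) (Nat.ble 766976 i))
noncomputable def nd873 (i : Nat) : Nat := (Bool.rec (motive := fun _ => Nat) (nl1960 i) (nl1961 i) (Nat.ble 770048 i))
noncomputable def nd871 (i : Nat) : Nat := (Bool.rec (motive := fun _ => Nat) ((Bool.rec (motive := fun _ => Nat) (nl1956 i) (nd872 i) (Nat.ble 765952 i))) ((Bool.rec (motive := fun _ => Nat) (nl1959 i) (nd873 i) (Nat.ble 769024 i))) (Nat.ble 768000 i))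
noncomputable def nd875 (i : Nat) : Nat := (Bool.rec (motive := fun _ => Nat) (nl1963 i) (nl1964 i) (Nat.ble 773120 i))
noncomputable def nd876 (i : Nat) : Nat := (Bool.rec (motive := fun _ => Nat) (nl1965 i) (nl1966 i) (Nat.ble 775168 i))
noncomputable def nd877 (i : Nat) : Nat := (Bool.rec (motive := fun _ => Nat) (nl1967 i) (nl1968 i) (Nat.ble 777216 i))
noncomputable def nd874 (i : Nat) : Nat := (Bool.rec (motive := fun _ => Nat) ((Bool.rec (motive := fun _ => Nat) (nl1962 i) (nd875 i) (Nat.ble 772096 i))) ((Bool.rec (motive := fun _ => Nat) (nd876 i) (nd877 i) (Nat.ble 776192 i))) (Nat.ble 774144 i))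
noncomputable def nd863 (i : Nat) : Nat := (Bool.rec (motive := fun _ => Nat) ((Bool.rec (motive := fun _ => Nat) (nd864 i) (nd867 i) (Nat.ble 757760 i))) ((Bool.rec (motive := fun _ => Nat) (nd871 i) (nd874 i) (Nat.ble 771072 i))) (Nat.ble 764928 i))
noncomputable def nd880 (i : Nat) : Nat := (Bool.rec (motive := fun _ => Nat) (nl1970 i) (nl1971 i) (Nat.ble 780288 i))
noncomputable def nd881 (i : Nat) : Nat := (Bool.rec (motive := fun _ => Nat) (nl1973 i) (nl1974 i) (Nat.ble 783360 i))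
noncomputable def nd879 (i : Nat) : Nat := (Bool.rec (motive := fun _ => Nat) ((Bool.rec (motive := fun _ => Nat) (nl1969 i) (nd880 i) (Nat.ble 779264 i))) ((Bool.rec (motive := fun _ => Nat) (nl1972 i) (nd881 i) (Nat.ble 782336 i))) (Nat.ble 781312 i))
noncomputable def nd883 (i : Nat) : Nat := (Bool.rec (motive := fun _ => Nat) (nl1976 i) (nl1977 i) (Nat.ble 786432 i))
noncomputable def nd884 (i : Nat) : Nat := (Bool.rec (motive := fun _ => Nat) (nl1978 i) (nl1979 i) (Nat.ble 788480 i))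
noncomputable def nd885 (i : Nat) : Nat := (Bool.rec (motive := fun _ => Nat) (nl1980 i) (nl1981 i) (Nat.ble 790528 i))
noncomputable def nd882 (i : Nat) : Nat := (Bool.rec (motive := fun _ => Nat) ((Bool.rec (motive := fun _ => Nat) (nl1975 i) (nd883 i) (Nat.ble 785408 i))) ((Bool.rec (motive := fun _ => Nat) (nd884 i) (nd885 i) (Nat.ble 789504 i))) (Nat.ble 787456 i))
noncomputable def nd887 (i : Nat) : Nat := (Bool.rec (motive := fun _ => Nat) (nl1983 i) (nl1984 i) (Nat.ble 793600 i))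
noncomputable def nd888 (i : Nat) : Nat := (Bool.rec (motive := fun _ => Nat) (nl1986 i) (nl1987 i) (Nat.ble 796672 i))
noncomputable def nd886 (i : Nat) : Nat := (Bool.rec (motive := fun _ => Nat) ((Bool.rec (motive := fun _ => Nat) (nl1982 i) (nd887 i) (Nat.ble 792576 i))) ((Bool.rec (motive := fun _ => Nat) (nl1985 i) (nd888 i) (Nat.ble 795648 i))) (Nat.ble 794624 i))
noncomputable def nd890 (i : Nat) : Nat := (Bool.rec (motive := fun _ => Nat) (nl1989 i) (nl1990 i) (Nat.ble 799744 i))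
noncomputable def nd891 (i : Nat) : Nat := (Bool.rec (motive := fun _ => Nat) (nl1991 i) (nl1992 i) (Nat.ble 801792 i))
noncomputable def nd892 (i : Nat) : Nat := (Bool.rec (motive := fun _ => Nat) (nl1993 i) (nl1994 i) (Nat.ble 803840 i))
noncomputable def nd889 (i : Nat) : Nat := (Bool.rec (motive := fun _ => Nat) ((Bool.rec (motive := fun _ => Nat) (nl1988 i) (nd890 i) (Nat.ble 798720 i))) ((Bool.rec (motive := fun _ => Nat) (nd891 i) (nd892 i) (Nat.ble 802816 i))) (Nat.ble 800768 i))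
noncomputable def nd878 (i : Nat) : Nat := (Bool.rec (motive := fun _ => Nat) ((Bool.rec (motive := fun _ => Nat) (nd879 i) (nd882 i) (Nat.ble 784384 i))) ((Bool.rec (motive := fun _ => Nat) (nd886 i) (nd889 i) (Nat.ble 797696 i))) (Nat.ble 791552 i))
noncomputable def nd895 (i : Nat) : Nat := (Bool.rec (motive := fun _ => Nat) (nl1996 i) (nl1997 i) (Nat.ble 806912 i))
noncomputable def nd896 (i : Nat) : Nat := (Bool.rec (motive := fun _ => Nat) (nl1999 i) (nl2000 i) (Nat.ble 809984 i))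
noncomputable def nd894 (i : Nat) : Nat := (Bool.rec (motive := fun _ => Nat) ((Bool.rec (motive := fun _ => Nat) (nl1995 i) (nd895 i) (Nat.ble 805888 i))) ((Bool.rec (motive := fun _ => Nat) (nl1998 i) (nd896 i) (Nat.ble 808960 i))) (Nat.ble 807936 i))
noncomputable def nd898 (i : Nat) : Nat := (Bool.rec (motive := fun _ => Nat) (nl2002 i) (nl2003 i) (Nat.ble 813056 i))
noncomputable def nd899 (i : Nat) : Nat := (Bool.rec (motive := fun _ => Nat) (nl2004 i) (nl2005 i) (Nat.ble 815104 i))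
noncomputable def nd900 (i : Nat) : Nat := (Bool.rec (motive := fun _ => Nat) (nl2006 i) (nl2007 i) (Nat.ble 817152 i))
noncomputable def nd897 (i : Nat) : Nat := (Bool.rec (motive := fun _ => Nat) ((Bool.rec (motive := fun _ => Nat) (nl2001 i) (nd898 i) (Nat.ble 812032 i))) ((Bool.rec (motive := fun _ => Nat) (nd899 i) (nd900 i) (Nat.ble 816128 i))) (Nat.ble 814080 i))
noncomputable def nd902 (i : Nat) : Nat := (Bool.rec (motive := fun _ => Nat) (nl2009 i) (nl2010 i) (Nat.ble 820224 i))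
noncomputable def nd903 (i : Nat) : Nat := (Bool.rec (motive := fun _ => Nat) (nl2012 i) (nl2013 i) (Nat.ble 823296 i))
noncomputable def nd901 (i : Nat) : Nat := (Bool.rec (motive := fun _ => Nat) ((Bool.rec (motive := fun _ => Nat) (nl2008 i) (nd902 i) (Nat.ble 819200 i))) ((Bool.rec (motive := fun _ => Nat) (nl2011 i) (nd903 i) (Nat.ble 822272 i))) (Nat.ble 821248 i))
noncomputable def nd905 (i : Nat) : Nat := (Bool.rec (motive := fun _ => Nat) (nl2015 i) (nl2016 i) (Nat.ble 826368 i))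
noncomputable def nd906 (i : Nat) : Nat := (Bool.rec (motive := fun _ => Nat) (nl2017 i) (nl2018 i) (Nat.ble 828416 i))
noncomputable def nd907 (i : Nat) : Nat := (Bool.rec (motive := fun _ => Nat) (nl2019 i) (nl2020 i) (Nat.ble 830464 i))
noncomputable def nd904 (i : Nat) : Nat := (Bool.rec (motive := fun _ => Nat) ((Bool.rec (motive := fun _ => Nat) (nl2014 i) (nd905 i) (Nat.ble 825344 i))) ((Bool.rec (motive := fun _ => Nat) (nd906 i) (nd907 i) (Nat.ble 829440 i))) (Nat.ble 827392 i))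
noncomputable def nd893 (i : Nat) : Nat := (Bool.rec (motive := fun _ => Nat) ((Bool.rec (motive := fun _ => Nat) (nd894 i) (nd897 i) (Nat.ble 811008 i))) ((Bool.rec (motive := fun _ => Nat) (nd901 i) (nd904 i) (Nat.ble 824320 i))) (Nat.ble 818176 i))
noncomputable def nd910 (i : Nat) : Nat := (Bool.rec (motive := fun _ => Nat) (nl2022 i) (nl2023 i) (Nat.ble 833536 i))
noncomputable def nd911 (i : Nat) : Nat := (Bool.rec (motive := fun _ => Nat) (nl2025 i) (nl2026 i) (Nat.ble 836608 i))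
noncomputable def nd909 (i : Nat) : Nat := (Bool.rec (motive := fun _ => Nat) ((Bool.rec (motive := fun _ => Nat) (nl2021 i) (nd910 i) (Nat.ble 832512 i))) ((Bool.rec (motive := fun _ => Nat) (nl2024 i) (nd911 i) (Nat.ble 835584 i))) (Nat.ble 834560 i))
noncomputable def nd913 (i : Nat) : Nat := (Bool.rec (motive := fun _ => Nat) (nl2028 i) (nl2029 i) (Nat.ble 839680 i))
noncomputable def nd914 (i : Nat) : Nat := (Bool.rec (motive := fun _ => Nat) (nl2030 i) (nl2031 i) (Nat.ble 841728 i))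
noncomputable def nd915 (i : Nat) : Nat := (Bool.rec (motive := fun _ => Nat) (nl2032 i) (nl2033 i) (Nat.ble 843776 i))
noncomputable def nd912 (i : Nat) : Nat := (Bool.rec (motive := fun _ => Nat) ((Bool.rec (motive := fun _ => Nat) (nl2027 i) (nd913 i) (Nat.ble 838656 i))) ((Bool.rec (motive := fun _ => Nat) (nd914 i) (nd915 i) (Nat.ble 842752 i))) (Nat.ble 840704 i))
noncomputable def nd917 (i : Nat) : Nat := (Bool.rec (motive := fun _ => Nat) (nl2035 i) (nl2036 i) (Nat.ble 846848 i))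
noncomputable def nd918 (i : Nat) : Nat := (Bool.rec (motive := fun _ => Nat) (nl2037 i) (nl2038 i) (Nat.ble 848896 i))
noncomputable def nd919 (i : Nat) : Nat := (Bool.rec (motive := fun _ => Nat) (nl2039 i) (nl2040 i) (Nat.ble 850944 i))
noncomputable def nd916 (i : Nat) : Nat := (Bool.rec (motive := fun _ => Nat) ((Bool.rec (motive := fun _ => Nat) (nl2034 i) (nd917 i) (Nat.ble 845824 i))) ((Bool.rec (motive := fun _ => Nat) (nd918 i) (nd919 i) (Nat.ble 849920 i))) (Nat.ble 847872 i))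
noncomputable def nd921 (i : Nat) : Nat := (Bool.rec (motive := fun _ => Nat) (nl2042 i) (nl2043 i) (Nat.ble 854016 i))
noncomputable def nd922 (i : Nat) : Nat := (Bool.rec (motive := fun _ => Nat) (nl2044 i) (nl2045 i) (Nat.ble 856064 i))
noncomputable def nd923 (i : Nat) : Nat := (Bool.rec (motive := fun _ => Nat) (nl2046 i) (nl2047 i) (Nat.ble 858112 i))
noncomputable def nd920 (i : Nat) : Nat := (Bool.rec (motive := fun _ => Nat) ((Bool.rec (motive := fun _ => Nat) (nl2041 i) (nd921 i) (Nat.ble 852992 i))) ((Bool.rec (motive := fun _ => Nat) (nd922 i) (nd923 i) (Nat.ble 857088 i))) (Nat.ble 855040 i))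
noncomputable def nd908 (i : Nat) : Nat := (Bool.rec (motive := fun _ => Nat) ((Bool.rec (motive := fun _ => Nat) (nd909 i) (nd912 i) (Nat.ble 837632 i))) ((Bool.rec (motive := fun _ => Nat) (nd916 i) (nd920 i) (Nat.ble 851968 i))) (Nat.ble 844800 i))
noncomputable def nd862 (i : Nat) : Nat := (Bool.rec (motive := fun _ => Nat) ((Bool.rec (motive := fun _ => Nat) (nd863 i) (nd878 i) (Nat.ble 778240 i))) ((Bool.rec (motive := fun _ => Nat) (nd893 i) (nd908 i) (Nat.ble 831488 i))) (Nat.ble 804864 i))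
noncomputable def nd675 (i : Nat) : Nat := (Bool.rec (motive := fun _ => Nat) ((Bool.rec (motive := fun _ => Nat) (nd676 i) (nd738 i) (Nat.ble 536576 i))) ((Bool.rec (motive := fun _ => Nat) (nd800 i) (nd862 i) (Nat.ble 751616 i))) (Nat.ble 644096 i))
noncomputable def nd928 (i : Nat) : Nat := (Bool.rec (motive := fun _ => Nat) (nl2049 i) (nl2050 i) (Nat.ble 861184 i))
noncomputable def nd929 (i : Nat) : Nat := (Bool.rec (motive := fun _ => Nat) (nl2052 i) (nl2053 i) (Nat.ble 864256 i))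
noncomputable def nd927 (i : Nat) : Nat := (Bool.rec (motive := fun _ => Nat) ((Bool.rec (motive := fun _ => Nat) (nl2048 i) (nd928 i) (Nat.ble 860160 i))) ((Bool.rec (motive := fun _ => Nat) (nl2051 i) (nd929 i) (Nat.ble 863232 i))) (Nat.ble 862208 i))
noncomputable def nd931 (i : Nat) : Nat := (Bool.rec (motive := fun _ => Nat) (nl2055 i) (nl2056 i) (Nat.ble 867328 i))
noncomputable def nd932 (i : Nat) : Nat := (Bool.rec (motive := fun _ => Nat) (nl2057 i) (nl2058 i) (Nat.ble 869376 i))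
noncomputable def nd933 (i : Nat) : Nat := (Bool.rec (motive := fun _ => Nat) (nl2059 i) (nl2060 i) (Nat.ble 871424 i))
noncomputable def nd930 (i : Nat) : Nat := (Bool.rec (motive := fun _ => Nat) ((Bool.rec (motive := fun _ => Nat) (nl2054 i) (nd931 i) (Nat.ble 866304 i))) ((Bool.rec (motive := fun _ => Nat) (nd932 i) (nd933 i) (Nat.ble 870400 i))) (Nat.ble 868352 i))
noncomputable def nd935 (i : Nat) : Nat := (Bool.rec (motive := fun _ => Nat) (nl2062 i) (nl2063 i) (Nat.ble 874496 i))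
noncomputable def nd936 (i : Nat) : Nat := (Bool.rec (motive := fun _ => Nat) (nl2065 i) (nl2066 i) (Nat.ble 877568 i))
noncomputable def nd934 (i : Nat) : Nat := (Bool.rec (motive := fun _ => Nat) ((Bool.rec (motive := fun _ => Nat) (nl2061 i) (nd935 i) (Nat.ble 873472 i))) ((Bool.rec (motive := fun _ => Nat) (nl2064 i) (nd936 i) (Nat.ble 876544 i))) (Nat.ble 875520 i))
noncomputable def nd938 (i : Nat) : Nat := (Bool.rec (motive := fun _ => Nat) (nl2068 i) (nl2069 i) (Nat.ble 880640 i))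
noncomputable def nd939 (i : Nat) : Nat := (Bool.rec (motive := fun _ => Nat) (nl2070 i) (nl2071 i) (Nat.ble 882688 i))
noncomputable def nd940 (i : Nat) : Nat := (Bool.rec (motive := fun _ => Nat) (nl2072 i) (nl2073 i) (Nat.ble 884736 i))
noncomputable def nd937 (i : Nat) : Nat := (Bool.rec (motive := fun _ => Nat) ((Bool.rec (motive := fun _ => Nat) (nl2067 i) (nd938 i) (Nat.ble 879616 i))) ((Bool.rec (motive := fun _ => Nat) (nd939 i) (nd940 i) (Nat.ble 883712 i))) (Nat.ble 881664 i))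
noncomputable def nd926 (i : Nat) : Nat := (Bool.rec (motive := fun _ => Nat) ((Bool.rec (motive := fun _ => Nat) (nd927 i) (nd930 i) (Nat.ble 865280 i))) ((Bool.rec (motive := fun _ => Nat) (nd934 i) (nd937 i) (Nat.ble 878592 i))) (Nat.ble 872448 i))
noncomputable def nd943 (i : Nat) : Nat := (Bool.rec (motive := fun _ => Nat) (nl2075 i) (nl2076 i) (Nat.ble 887808 i))
noncomputable def nd944 (i : Nat) : Nat := (Bool.rec (motive := fun _ => Nat) (nl2078 i) (nl2079 i) (Nat.ble 890880 i))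
noncomputable def nd942 (i : Nat) : Nat := (Bool.rec (motive := fun _ => Nat) ((Bool.rec (motive := fun _ => Nat) (nl2074 i) (nd943 i) (Nat.ble 886784 i))) ((Bool.rec (motive := fun _ => Nat) (nl2077 i) (nd944 i) (Nat.ble 889856 i))) (Nat.ble 888832 i))
noncomputable def nd946 (i : Nat) : Nat := (Bool.rec (motive := fun _ => Nat) (nl2081 i) (nl2082 i) (Nat.ble 893952 i))
noncomputable def nd947 (i : Nat) : Nat := (Bool.rec (motive := fun _ => Nat) (nl2083 i) (nl2084 i) (Nat.ble 896000 i))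
noncomputable def nd948 (i : Nat) : Nat := (Bool.rec (motive := fun _ => Nat) (nl2085 i) (nl2086 i) (Nat.ble 898048 i))
noncomputable def nd945 (i : Nat) : Nat := (Bool.rec (motive := fun _ => Nat) ((Bool.rec (motive := fun _ => Nat) (nl2080 i) (nd946 i) (Nat.ble 892928 i))) ((Bool.rec (motive := fun _ => Nat) (nd947 i) (nd948 i) (Nat.ble 897024 i))) (Nat.ble 894976 i))
noncomputable def nd950 (i : Nat) : Nat := (Bool.rec (motive := fun _ => Nat) (nl2088 i) (nl2089 i) (Nat.ble 901120 i))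
noncomputable def nd951 (i : Nat) : Nat := (Bool.rec (motive := fun _ => Nat) (nl2091 i) (nl2092 i) (Nat.ble 904192 i))
noncomputable def nd949 (i : Nat) : Nat := (Bool.rec (motive := fun _ => Nat) ((Bool.rec (motive := fun _ => Nat) (nl2087 i) (nd950 i) (Nat.ble 900096 i))) ((Bool.rec (motive := fun _ => Nat) (nl2090 i) (nd951 i) (Nat.ble 903168 i))) (Nat.ble 902144 i))
noncomputable def nd953 (i : Nat) : Nat := (Bool.rec (motive := fun _ => Nat) (nl2094 i) (nl2095 i) (Nat.ble 907264 i))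
noncomputable def nd954 (i : Nat) : Nat := (Bool.rec (motive := fun _ => Nat) (nl2096 i) (nl2097 i) (Nat.ble 909312 i))
noncomputable def nd955 (i : Nat) : Nat := (Bool.rec (motive := fun _ => Nat) (nl2098 i) (nl2099 i) (Nat.ble 911360 i))
noncomputable def nd952 (i : Nat) : Nat := (Bool.rec (motive := fun _ => Nat) ((Bool.rec (motive := fun _ => Nat) (nl2093 i) (nd953 i) (Nat.ble 906240 i))) ((Bool.rec (motive := fun _ => Nat) (nd954 i) (nd955 i) (Nat.ble 910336 i))) (Nat.ble 908288 i))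
noncomputable def nd941 (i : Nat) : Nat := (Bool.rec (motive := fun _ => Nat) ((Bool.rec (motive := fun _ => Nat) (nd942 i) (nd945 i) (Nat.ble 891904 i))) ((Bool.rec (motive := fun _ => Nat) (nd949 i) (nd952 i) (Nat.ble 905216 i))) (Nat.ble 899072 i))
noncomputable def nd958 (i : Nat) : Nat := (Bool.rec (motive := fun _ => Nat) (nl2101 i) (nl2102 i) (Nat.ble 914432 i))
noncomputable def nd959 (i : Nat) : Nat := (Bool.rec (motive := fun _ => Nat) (nl2104 i) (nl2105 i) (Nat.ble 917504 i))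
noncomputable def nd957 (i : Nat) : Nat := (Bool.rec (motive := fun _ => Nat) ((Bool.rec (motive := fun _ => Nat) (nl2100 i) (nd958 i) (Nat.ble 913408 i))) ((Bool.rec (motive := fun _ => Nat) (nl2103 i) (nd959 i) (Nat.ble 916480 i))) (Nat.ble 915456 i))
noncomputable def nd961 (i : Nat) : Nat := (Bool.rec (motive := fun _ => Nat) (nl2107 i) (nl2108 i) (Nat.ble 920576 i))
noncomputable def nd962 (i : Nat) : Nat := (Bool.rec (motive := fun _ => Nat) (nl2109 i) (nl2110 i) (Nat.ble 922624 i))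
noncomputable def nd963 (i : Nat) : Nat := (Bool.rec (motive := fun _ => Nat) (nl2111 i) (nl2112 i) (Nat.ble 924672 i))
noncomputable def nd960 (i : Nat) : Nat := (Bool.rec (motive := fun _ => Nat) ((Bool.rec (motive := fun _ => Nat) (nl2106 i) (nd961 i) (Nat.ble 919552 i))) ((Bool.rec (motive := fun _ => Nat) (nd962 i) (nd963 i) (Nat.ble 923648 i))) (Nat.ble 921600 i))
noncomputable def nd965 (i : Nat) : Nat := (Bool.rec (motive := fun _ => Nat) (nl2114 i) (nl2115 i) (Nat.ble 927744 i))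
noncomputable def nd966 (i : Nat) : Nat := (Bool.rec (motive := fun _ => Nat) (nl2117 i) (nl2118 i) (Nat.ble 930816 i))
noncomputable def nd964 (i : Nat) : Nat := (Bool.rec (motive := fun _ => Nat) ((Bool.rec (motive := fun _ => Nat) (nl2113 i) (nd965 i) (Nat.ble 926720 i))) ((Bool.rec (motive := fun _ => Nat) (nl2116 i) (nd966 i) (Nat.ble 929792 i))) (Nat.ble 928768 i))
noncomputable def nd968 (i : Nat) : Nat := (Bool.rec (motive := fun _ => Nat) (nl2120 i) (nl2121 i) (Nat.ble 933888 i))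
noncomputable def nd969 (i : Nat) : Nat := (Bool.rec (motive := fun _ => Nat) (nl2122 i) (nl2123 i) (Nat.ble 935936 i))
noncomputable def nd970 (i : Nat) : Nat := (Bool.rec (motive := fun _ => Nat) (nl2124 i) (nl2125 i) (Nat.ble 937984 i))
noncomputable def nd967 (i : Nat) : Nat := (Bool.rec (motive := fun _ => Nat) ((Bool.rec (motive := fun _ => Nat) (nl2119 i) (nd968 i) (Nat.ble 932864 i))) ((Bool.rec (motive := fun _ => Nat) (nd969 i) (nd970 i) (Nat.ble 936960 i))) (Nat.ble 934912 i))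
noncomputable def nd956 (i : Nat) : Nat := (Bool.rec (motive := fun _ => Nat) ((Bool.rec (motive := fun _ => Nat) (nd957 i) (nd960 i) (Nat.ble 918528 i))) ((Bool.rec (motive := fun _ => Nat) (nd964 i) (nd967 i) (Nat.ble 931840 i))) (Nat.ble 925696 i))
noncomputable def nd973 (i : Nat) : Nat := (Bool.rec (motive := fun _ => Nat) (nl2127 i) (nl2128 i) (Nat.ble 941056 i))
noncomputable def nd974 (i : Nat) : Nat := (Bool.rec (motive := fun _ => Nat) (nl2130 i) (nl2131 i) (Nat.ble 944128 i))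
noncomputable def nd972 (i : Nat) : Nat := (Bool.rec (motive := fun _ => Nat) ((Bool.rec (motive := fun _ => Nat) (nl2126 i) (nd973 i) (Nat.ble 940032 i))) ((Bool.rec (motive := fun _ => Nat) (nl2129 i) (nd974 i) (Nat.ble 943104 i))) (Nat.ble 942080 i))
noncomputable def nd976 (i : Nat) : Nat := (Bool.rec (motive := fun _ => Nat) (nl2133 i) (nl2134 i) (Nat.ble 947200 i))
noncomputable def nd977 (i : Nat) : Nat := (Bool.rec (motive := fun _ => Nat) (nl2135 i) (nl2136 i) (Nat.ble 949248 i))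
noncomputable def nd978 (i : Nat) : Nat := (Bool.rec (motive := fun _ => Nat) (nl2137 i) (nl2138 i) (Nat.ble 951296 i))
noncomputable def nd975 (i : Nat) : Nat := (Bool.rec (motive := fun _ => Nat) ((Bool.rec (motive := fun _ => Nat) (nl2132 i) (nd976 i) (Nat.ble 946176 i))) ((Bool.rec (motive := fun _ => Nat) (nd977 i) (nd978 i) (Nat.ble 950272 i))) (Nat.ble 948224 i))
noncomputable def nd980 (i : Nat) : Nat := (Bool.rec (motive := fun _ => Nat) (nl2140 i) (nl2141 i) (Nat.ble 954368 i))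
noncomputable def nd981 (i : Nat) : Nat := (Bool.rec (motive := fun _ => Nat) (nl2142 i) (nl2143 i) (Nat.ble 956416 i))
noncomputable def nd982 (i : Nat) : Nat := (Bool.rec (motive := fun _ => Nat) (nl2144 i) (nl2145 i) (Nat.ble 958464 i))
noncomputable def nd979 (i : Nat) : Nat := (Bool.rec (motive := fun _ => Nat) ((Bool.rec (motive := fun _ => Nat) (nl2139 i) (nd980 i) (Nat.ble 953344 i))) ((Bool.rec (motive := fun _ => Nat) (nd981 i) (nd982 i) (Nat.ble 957440 i))) (Nat.ble 955392 i))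
noncomputable def nd984 (i : Nat) : Nat := (Bool.rec (motive := fun _ => Nat) (nl2147 i) (nl2148 i) (Nat.ble 961536 i))
noncomputable def nd985 (i : Nat) : Nat := (Bool.rec (motive := fun _ => Nat) (nl2149 i) (nl2150 i) (Nat.ble 963584 i))
noncomputable def nd986 (i : Nat) : Nat := (Bool.rec (motive := fun _ => Nat) (nl2151 i) (nl2152 i) (Nat.ble 965632 i))
noncomputable def nd983 (i : Nat) : Nat := (Bool.rec (motive := fun _ => Nat) ((Bool.rec (motive := fun _ => Nat) (nl2146 i) (nd984 i) (Nat.ble 960512 i))) ((Bool.rec (motive := fun _ => Nat) (nd985 i) (nd986 i) (Nat.ble 964608 i))) (Nat.ble 962560 i))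
noncomputable def nd971 (i : Nat) : Nat := (Bool.rec (motive := fun _ => Nat) ((Bool.rec (motive := fun _ => Nat) (nd972 i) (nd975 i) (Nat.ble 945152 i))) ((Bool.rec (motive := fun _ => Nat) (nd979 i) (nd983 i) (Nat.ble 959488 i))) (Nat.ble 952320 i))
noncomputable def nd925 (i : Nat) : Nat := (Bool.rec (motive := fun _ => Nat) ((Bool.rec (motive := fun _ => Nat) (nd926 i) (nd941 i) (Nat.ble 885760 i))) ((Bool.rec (motive := fun _ => Nat) (nd956 i) (nd971 i) (Nat.ble 939008 i))) (Nat.ble 912384 i))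
noncomputable def nd990 (i : Nat) : Nat := (Bool.rec (motive := fun _ => Nat) (nl2154 i) (nl2155 i) (Nat.ble 968704 i))
noncomputable def nd991 (i : Nat) : Nat := (Bool.rec (motive := fun _ => Nat) (nl2157 i) (nl2158 i) (Nat.ble 971776 i))
noncomputable def nd989 (i : Nat) : Nat := (Bool.rec (motive := fun _ => Nat) ((Bool.rec (motive := fun _ => Nat) (nl2153 i) (nd990 i) (Nat.ble 967680 i))) ((Bool.rec (motive := fun _ => Nat) (nl2156 i) (nd991 i) (Nat.ble 970752 i))) (Nat.ble 969728 i))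
noncomputable def nd993 (i : Nat) : Nat := (Bool.rec (motive := fun _ => Nat) (nl2160 i) (nl2161 i) (Nat.ble 974848 i))
noncomputable def nd994 (i : Nat) : Nat := (Bool.rec (motive := fun _ => Nat) (nl2162 i) (nl2163 i) (Nat.ble 976896 i))
noncomputable def nd995 (i : Nat) : Nat := (Bool.rec (motive := fun _ => Nat) (nl2164 i) (nl2165 i) (Nat.ble 978944 i))
noncomputable def nd992 (i : Nat) : Nat := (Bool.rec (motive := fun _ => Nat) ((Bool.rec (motive := fun _ => Nat) (nl2159 i) (nd993 i) (Nat.ble 973824 i))) ((Bool.rec (motive := fun _ => Nat) (nd994 i) (nd995 i) (Nat.ble 977920 i))) (Nat.ble 975872 i))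
noncomputable def nd997 (i : Nat) : Nat := (Bool.rec (motive := fun _ => Nat) (nl2167 i) (nl2168 i) (Nat.ble 982016 i))
noncomputable def nd998 (i : Nat) : Nat := (Bool.rec (motive := fun _ => Nat) (nl2170 i) (nl2171 i) (Nat.ble 985088 i))
noncomputable def nd996 (i : Nat) : Nat := (Bool.rec (motive := fun _ => Nat) ((Bool.rec (motive := fun _ => Nat) (nl2166 i) (nd997 i) (Nat.ble 980992 i))) ((Bool.rec (motive := fun _ => Nat) (nl2169 i) (nd998 i) (Nat.ble 984064 i))) (Nat.ble 983040 i))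
noncomputable def nd1000 (i : Nat) : Nat := (Bool.rec (motive := fun _ => Nat) (nl2173 i) (nl2174 i) (Nat.ble 988160 i))
noncomputable def nd1001 (i : Nat) : Nat := (Bool.rec (motive := fun _ => Nat) (nl2175 i) (nl2176 i) (Nat.ble 990208 i))
noncomputable def nd1002 (i : Nat) : Nat := (Bool.rec (motive := fun _ => Nat) (nl2177 i) (nl2178 i) (Nat.ble 992256 i))
noncomputable def nd999 (i : Nat) : Nat := (Bool.rec (motive := fun _ => Nat) ((Bool.rec (motive := fun _ => Nat) (nl2172 i) (nd1000 i) (Nat.ble 987136 i))) ((Bool.rec (motive := fun _ => Nat) (nd1001 i) (nd1002 i) (Nat.ble 991232 i))) (Nat.ble 989184 i))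
noncomputable def nd988 (i : Nat) : Nat := (Bool.rec (motive := fun _ => Nat) ((Bool.rec (motive := fun _ => Nat) (nd989 i) (nd992 i) (Nat.ble 972800 i))) ((Bool.rec (motive := fun _ => Nat) (nd996 i) (nd999 i) (Nat.ble 986112 i))) (Nat.ble 979968 i))
noncomputable def nd1005 (i : Nat) : Nat := (Bool.rec (motive := fun _ => Nat) (nl2180 i) (nl2181 i) (Nat.ble 995328 i))
noncomputable def nd1006 (i : Nat) : Nat := (Bool.rec (motive := fun _ => Nat) (nl2183 i) (nl2184 i) (Nat.ble 998400 i))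
noncomputable def nd1004 (i : Nat) : Nat := (Bool.rec (motive := fun _ => Nat) ((Bool.rec (motive := fun _ => Nat) (nl2179 i) (nd1005 i) (Nat.ble 994304 i))) ((Bool.rec (motive := fun _ => Nat) (nl2182 i) (nd1006 i) (Nat.ble 997376 i))) (Nat.ble 996352 i))
noncomputable def nd1008 (i : Nat) : Nat := (Bool.rec (motive := fun _ => Nat) (nl2186 i) (nl2187 i) (Nat.ble 1001472 i))
noncomputable def nd1009 (i : Nat) : Nat := (Bool.rec (motive := fun _ => Nat) (nl2188 i) (nl2189 i) (Nat.ble 1003520 i))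
noncomputable def nd1010 (i : Nat) : Nat := (Bool.rec (motive := fun _ => Nat) (nl2190 i) (nl2191 i) (Nat.ble 1005568 i))
noncomputable def nd1007 (i : Nat) : Nat := (Bool.rec (motive := fun _ => Nat) ((Bool.rec (motive := fun _ => Nat) (nl2185 i) (nd1008 i) (Nat.ble 1000448 i))) ((Bool.rec (motive := fun _ => Nat) (nd1009 i) (nd1010 i) (Nat.ble 1004544 i))) (Nat.ble 1002496 i))
noncomputable def nd1012 (i : Nat) : Nat := (Bool.rec (motive := fun _ => Nat) (nl2193 i) (nl2194 i) (Nat.ble 1008640 i))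
noncomputable def nd1013 (i : Nat) : Nat := (Bool.rec (motive := fun _ => Nat) (nl2196 i) (nl2197 i) (Nat.ble 1011712 i))
noncomputable def nd1011 (i : Nat) : Nat := (Bool.rec (motive := fun _ => Nat) ((Bool.rec (motive := fun _ => Nat) (nl2192 i) (nd1012 i) (Nat.ble 1007616 i))) ((Bool.rec (motive := fun _ => Nat) (nl2195 i) (nd1013 i) (Nat.ble 1010688 i))) (Nat.ble 1009664 i))
noncomputable def nd1015 (i : Nat) : Nat := (Bool.rec (motive := fun _ => Nat) (nl2199 i) (nl2200 i) (Nat.ble 1014784 i))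
noncomputable def nd1016 (i : Nat) : Nat := (Bool.rec (motive := fun _ => Nat) (nl2201 i) (nl2202 i) (Nat.ble 1016832 i))
noncomputable def nd1017 (i : Nat) : Nat := (Bool.rec (motive := fun _ => Nat) (nl2203 i) (nl2204 i) (Nat.ble 1018880 i))
noncomputable def nd1014 (i : Nat) : Nat := (Bool.rec (motive := fun _ => Nat) ((Bool.rec (motive := fun _ => Nat) (nl2198 i) (nd1015 i) (Nat.ble 1013760 i))) ((Bool.rec (motive := fun _ => Nat) (nd1016 i) (nd1017 i) (Nat.ble 1017856 i))) (Nat.ble 1015808 i))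
noncomputable def nd1003 (i : Nat) : Nat := (Bool.rec (motive := fun _ => Nat) ((Bool.rec (motive := fun _ => Nat) (nd1004 i) (nd1007 i) (Nat.ble 999424 i))) ((Bool.rec (motive := fun _ => Nat) (nd1011 i) (nd1014 i) (Nat.ble 1012736 i))) (Nat.ble 1006592 i))
noncomputable def nd1020 (i : Nat) : Nat := (Bool.rec (motive := fun _ => Nat) (nl2206 i) (nl2207 i) (Nat.ble 1021952 i))
noncomputable def nd1021 (i : Nat) : Nat := (Bool.rec (motive := fun _ => Nat) (nl2209 i) (nl2210 i) (Nat.ble 1025024 i))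
noncomputable def nd1019 (i : Nat) : Nat := (Bool.rec (motive := fun _ => Nat) ((Bool.rec (motive := fun _ => Nat) (nl2205 i) (nd1020 i) (Nat.ble 1020928 i))) ((Bool.rec (motive := fun _ => Nat) (nl2208 i) (nd1021 i) (Nat.ble 1024000 i))) (Nat.ble 1022976 i))
noncomputable def nd1023 (i : Nat) : Nat := (Bool.rec (motive := fun _ => Nat) (nl2212 i) (nl2213 i) (Nat.ble 1028096 i))
noncomputable def nd1024 (i : Nat) : Nat := (Bool.rec (motive := fun _ => Nat) (nl2214 i) (nl2215 i) (Nat.ble 1030144 i))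
noncomputable def nd1025 (i : Nat) : Nat := (Bool.rec (motive := fun _ => Nat) (nl2216 i) (nl2217 i) (Nat.ble 1032192 i))
noncomputable def nd1022 (i : Nat) : Nat := (Bool.rec (motive := fun _ => Nat) ((Bool.rec (motive := fun _ => Nat) (nl2211 i) (nd1023 i) (Nat.ble 1027072 i))) ((Bool.rec (motive := fun _ => Nat) (nd1024 i) (nd1025 i) (Nat.ble 1031168 i))) (Nat.ble 1029120 i))
noncomputable def nd1027 (i : Nat) : Nat := (Bool.rec (motive := fun _ => Nat) (nl2219 i) (nl2220 i) (Nat.ble 1035264 i))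
noncomputable def nd1028 (i : Nat) : Nat := (Bool.rec (motive := fun _ => Nat) (nl2222 i) (nl2223 i) (Nat.ble 1038336 i))
noncomputable def nd1026 (i : Nat) : Nat := (Bool.rec (motive := fun _ => Nat) ((Bool.rec (motive := fun _ => Nat) (nl2218 i) (nd1027 i) (Nat.ble 1034240 i))) ((Bool.rec (motive := fun _ => Nat) (nl2221 i) (nd1028 i) (Nat.ble 1037312 i))) (Nat.ble 1036288 i))
noncomputable def nd1030 (i : Nat) : Nat := (Bool.rec (motive := fun _ => Nat) (nl2225 i) (nl2226 i) (Nat.ble 1041408 i))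
noncomputable def nd1031 (i : Nat) : Nat := (Bool.rec (motive := fun _ => Nat) (nl2227 i) (nl2228 i) (Nat.ble 1043456 i))
noncomputable def nd1032 (i : Nat) : Nat := (Bool.rec (motive := fun _ => Nat) (nl2229 i) (nl2230 i) (Nat.ble 1045504 i))
noncomputable def nd1029 (i : Nat) : Nat := (Bool.rec (motive := fun _ => Nat) ((Bool.rec (motive := fun _ => Nat) (nl2224 i) (nd1030 i) (Nat.ble 1040384 i))) ((Bool.rec (motive := fun _ => Nat) (nd1031 i) (nd1032 i) (Nat.ble 1044480 i))) (Nat.ble 1042432 i))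
noncomputable def nd1018 (i : Nat) : Nat := (Bool.rec (motive := fun _ => Nat) ((Bool.rec (motive := fun _ => Nat) (nd1019 i) (nd1022 i) (Nat.ble 1026048 i))) ((Bool.rec (motive := fun _ => Nat) (nd1026 i) (nd1029 i) (Nat.ble 1039360 i))) (Nat.ble 1033216 i))
noncomputable def nd1035 (i : Nat) : Nat := (Bool.rec (motive := fun _ => Nat) (nl2232 i) (nl2233 i) (Nat.ble 1048576 i))
noncomputable def nd1036 (i : Nat) : Nat := (Bool.rec (motive := fun _ => Nat) (nl2235 i) (nl2236 i) (Nat.ble 1051648 i))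
noncomputable def nd1034 (i : Nat) : Nat := (Bool.rec (motive := fun _ => Nat) ((Bool.rec (motive := fun _ => Nat) (nl2231 i) (nd1035 i) (Nat.ble 1047552 i))) ((Bool.rec (motive := fun _ => Nat) (nl2234 i) (nd1036 i) (Nat.ble 1050624 i))) (Nat.ble 1049600 i))
noncomputable def nd1038 (i : Nat) : Nat := (Bool.rec (motive := fun _ => Nat) (nl2238 i) (nl2239 i) (Nat.ble 1054720 i))
noncomputable def nd1039 (i : Nat) : Nat := (Bool.rec (motive := fun _ => Nat) (nl2240 i) (nl2241 i) (Nat.ble 1056768 i))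
noncomputable def nd1040 (i : Nat) : Nat := (Bool.rec (motive := fun _ => Nat) (nl2242 i) (nl2243 i) (Nat.ble 1058816 i))
noncomputable def nd1037 (i : Nat) : Nat := (Bool.rec (motive := fun _ => Nat) ((Bool.rec (motive := fun _ => Nat) (nl2237 i) (nd1038 i) (Nat.ble 1053696 i))) ((Bool.rec (motive := fun _ => Nat) (nd1039 i) (nd1040 i) (Nat.ble 1057792 i))) (Nat.ble 1055744 i))
noncomputable def nd1042 (i : Nat) : Nat := (Bool.rec (motive := fun _ => Nat) (nl2245 i) (nl2246 i) (Nat.ble 1061888 i))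
noncomputable def nd1043 (i : Nat) : Nat := (Bool.rec (motive := fun _ => Nat) (nl2247 i) (nl2248 i) (Nat.ble 1063936 i))
noncomputable def nd1044 (i : Nat) : Nat := (Bool.rec (motive := fun _ => Nat) (nl2249 i) (nl2250 i) (Nat.ble 1065984 i))
noncomputable def nd1041 (i : Nat) : Nat := (Bool.rec (motive := fun _ => Nat) ((Bool.rec (motive := fun _ => Nat) (nl2244 i) (nd1042 i) (Nat.ble 1060864 i))) ((Bool.rec (motive := fun _ => Nat) (nd1043 i) (nd1044 i) (Nat.ble 1064960 i))) (Nat.ble 1062912 i))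
noncomputable def nd1046 (i : Nat) : Nat := (Bool.rec (motive := fun _ => Nat) (nl2252 i) (nl2253 i) (Nat.ble 1069056 i))
noncomputable def nd1047 (i : Nat) : Nat := (Bool.rec (motive := fun _ => Nat) (nl2254 i) (nl2255 i) (Nat.ble 1071104 i))
noncomputable def nd1048 (i : Nat) : Nat := (Bool.rec (motive := fun _ => Nat) (nl2256 i) (nl2257 i) (Nat.ble 1073152 i))
noncomputable def nd1045 (i : Nat) : Nat := (Bool.rec (motive := fun _ => Nat) ((Bool.rec (motive := fun _ => Nat) (nl2251 i) (nd1046 i) (Nat.ble 1068032 i))) ((Bool.rec (motive := fun _ => Nat) (nd1047 i) (nd1048 i) (Nat.ble 1072128 i))) (Nat.ble 1070080 i))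
noncomputable def nd1033 (i : Nat) : Nat := (Bool.rec (motive := fun _ => Nat) ((Bool.rec (motive := fun _ => Nat) (nd1034 i) (nd1037 i) (Nat.ble 1052672 i))) ((Bool.rec (motive := fun _ => Nat) (nd1041 i) (nd1045 i) (Nat.ble 1067008 i))) (Nat.ble 1059840 i))
noncomputable def nd987 (i : Nat) : Nat := (Bool.rec (motive := fun _ => Nat) ((Bool.rec (motive := fun _ => Nat) (nd988 i) (nd1003 i) (Nat.ble 993280 i))) ((Bool.rec (motive := fun _ => Nat) (nd1018 i) (nd1033 i) (Nat.ble 1046528 i))) (Nat.ble 1019904 i))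
noncomputable def nd1052 (i : Nat) : Nat := (Bool.rec (motive := fun _ => Nat) (nl2259 i) (nl2260 i) (Nat.ble 1076224 i))
noncomputable def nd1053 (i : Nat) : Nat := (Bool.rec (motive := fun _ => Nat) (nl2262 i) (nl2263 i) (Nat.ble 1079296 i))
noncomputable def nd1051 (i : Nat) : Nat := (Bool.rec (motive := fun _ => Nat) ((Bool.rec (motive := fun _ => Nat) (nl2258 i) (nd1052 i) (Nat.ble 1075200 i))) ((Bool.rec (motive := fun _ => Nat) (nl2261 i) (nd1053 i) (Nat.ble 1078272 i))) (Nat.ble 1077248 i))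
noncomputable def nd1055 (i : Nat) : Nat := (Bool.rec (motive := fun _ => Nat) (nl2265 i) (nl2266 i) (Nat.ble 1082368 i))
noncomputable def nd1056 (i : Nat) : Nat := (Bool.rec (motive := fun _ => Nat) (nl2267 i) (nl2268 i) (Nat.ble 1084416 i))
noncomputable def nd1057 (i : Nat) : Nat := (Bool.rec (motive := fun _ => Nat) (nl2269 i) (nl2270 i) (Nat.ble 1086464 i))
noncomputable def nd1054 (i : Nat) : Nat := (Bool.rec (motive := fun _ => Nat) ((Bool.rec (motive := fun _ => Nat) (nl2264 i) (nd1055 i) (Nat.ble 1081344 i))) ((Bool.rec (motive := fun _ => Nat) (nd1056 i) (nd1057 i) (Nat.ble 1085440 i))) (Nat.ble 1083392 i))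
noncomputable def nd1059 (i : Nat) : Nat := (Bool.rec (motive := fun _ => Nat) (nl2272 i) (nl2273 i) (Nat.ble 1089536 i))
noncomputable def nd1060 (i : Nat) : Nat := (Bool.rec (motive := fun _ => Nat) (nl2275 i) (nl2276 i) (Nat.ble 1092608 i))
noncomputable def nd1058 (i : Nat) : Nat := (Bool.rec (motive := fun _ => Nat) ((Bool.rec (motive := fun _ => Nat) (nl2271 i) (nd1059 i) (Nat.ble 1088512 i))) ((Bool.rec (motive := fun _ => Nat) (nl2274 i) (nd1060 i) (Nat.ble 1091584 i))) (Nat.ble 1090560 i))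
noncomputable def nd1062 (i : Nat) : Nat := (Bool.rec (motive := fun _ => Nat) (nl2278 i) (nl2279 i) (Nat.ble 1095680 i))
noncomputable def nd1063 (i : Nat) : Nat := (Bool.rec (motive := fun _ => Nat) (nl2280 i) (nl2281 i) (Nat.ble 1097728 i))
noncomputable def nd1064 (i : Nat) : Nat := (Bool.rec (motive := fun _ => Nat) (nl2282 i) (nl2283 i) (Nat.ble 1099776 i))
noncomputable def nd1061 (i : Nat) : Nat := (Bool.rec (motive := fun _ => Nat) ((Bool.rec (motive := fun _ => Nat) (nl2277 i) (nd1062 i) (Nat.ble 1094656 i))) ((Bool.rec (motive := fun _ => Nat) (nd1063 i) (nd1064 i) (Nat.ble 1098752 i))) (Nat.ble 1096704 i))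
noncomputable def nd1050 (i : Nat) : Nat := (Bool.rec (motive := fun _ => Nat) ((Bool.rec (motive := fun _ => Nat) (nd1051 i) (nd1054 i) (Nat.ble 1080320 i))) ((Bool.rec (motive := fun _ => Nat) (nd1058 i) (nd1061 i) (Nat.ble 1093632 i))) (Nat.ble 1087488 i))
noncomputable def nd1067 (i : Nat) : Nat := (Bool.rec (motive := fun _ => Nat) (nl2285 i) (nl2286 i) (Nat.ble 1102848 i))
noncomputable def nd1068 (i : Nat) : Nat := (Bool.rec (motive := fun _ => Nat) (nl2288 i) (nl2289 i) (Nat.ble 1105920 i))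
noncomputable def nd1066 (i : Nat) : Nat := (Bool.rec (motive := fun _ => Nat) ((Bool.rec (motive := fun _ => Nat) (nl2284 i) (nd1067 i) (Nat.ble 1101824 i))) ((Bool.rec (motive := fun _ => Nat) (nl2287 i) (nd1068 i) (Nat.ble 1104896 i))) (Nat.ble 1103872 i))
noncomputable def nd1070 (i : Nat) : Nat := (Bool.rec (motive := fun _ => Nat) (nl2291 i) (nl2292 i) (Nat.ble 1108992 i))
noncomputable def nd1071 (i : Nat) : Nat := (Bool.rec (motive := fun _ => Nat) (nl2293 i) (nl2294 i) (Nat.ble 1111040 i))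
noncomputable def nd1072 (i : Nat) : Nat := (Bool.rec (motive := fun _ => Nat) (nl2295 i) (nl2296 i) (Nat.ble 1113088 i))
noncomputable def nd1069 (i : Nat) : Nat := (Bool.rec (motive := fun _ => Nat) ((Bool.rec (motive := fun _ => Nat) (nl2290 i) (nd1070 i) (Nat.ble 1107968 i))) ((Bool.rec (motive := fun _ => Nat) (nd1071 i) (nd1072 i) (Nat.ble 1112064 i))) (Nat.ble 1110016 i))
noncomputable def nd1074 (i : Nat) : Nat := (Bool.rec (motive := fun _ => Nat) (nl2298 i) (nl2299 i) (Nat.ble 1116160 i))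
noncomputable def nd1075 (i : Nat) : Nat := (Bool.rec (motive := fun _ => Nat) (nl2301 i) (nl2302 i) (Nat.ble 1119232 i))
noncomputable def nd1073 (i : Nat) : Nat := (Bool.rec (motive := fun _ => Nat) ((Bool.rec (motive := fun _ => Nat) (nl2297 i) (nd1074 i) (Nat.ble 1115136 i))) ((Bool.rec (motive := fun _ => Nat) (nl2300 i) (nd1075 i) (Nat.ble 1118208 i))) (Nat.ble 1117184 i))
noncomputable def nd1077 (i : Nat) : Nat := (Bool.rec (motive := fun _ => Nat) (nl2304 i) (nl2305 i) (Nat.ble 1122304 i))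
noncomputable def nd1078 (i : Nat) : Nat := (Bool.rec (motive := fun _ => Nat) (nl2306 i) (nl2307 i) (Nat.ble 1124352 i))
noncomputable def nd1079 (i : Nat) : Nat := (Bool.rec (motive := fun _ => Nat) (nl2308 i) (nl2309 i) (Nat.ble 1126400 i))
noncomputable def nd1076 (i : Nat) : Nat := (Bool.rec (motive := fun _ => Nat) ((Bool.rec (motive := fun _ => Nat) (nl2303 i) (nd1077 i) (Nat.ble 1121280 i))) ((Bool.rec (motive := fun _ => Nat) (nd1078 i) (nd1079 i) (Nat.ble 1125376 i))) (Nat.ble 1123328 i))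
noncomputable def nd1065 (i : Nat) : Nat := (Bool.rec (motive := fun _ => Nat) ((Bool.rec (motive := fun _ => Nat) (nd1066 i) (nd1069 i) (Nat.ble 1106944 i))) ((Bool.rec (motive := fun _ => Nat) (nd1073 i) (nd1076 i) (Nat.ble 1120256 i))) (Nat.ble 1114112 i))
noncomputable def nd1082 (i : Nat) : Nat := (Bool.rec (motive := fun _ => Nat) (nl2311 i) (nl2312 i) (Nat.ble 1129472 i))
noncomputable def nd1083 (i : Nat) : Nat := (Bool.rec (motive := fun _ => Nat) (nl2314 i) (nl2315 i) (Nat.ble 1132544 i))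
noncomputable def nd1081 (i : Nat) : Nat := (Bool.rec (motive := fun _ => Nat) ((Bool.rec (motive := fun _ => Nat) (nl2310 i) (nd1082 i) (Nat.ble 1128448 i))) ((Bool.rec (motive := fun _ => Nat) (nl2313 i) (nd1083 i) (Nat.ble 1131520 i))) (Nat.ble 1130496 i))
noncomputable def nd1085 (i : Nat) : Nat := (Bool.rec (motive := fun _ => Nat) (nl2317 i) (nl2318 i) (Nat.ble 1135616 i))
noncomputable def nd1086 (i : Nat) : Nat := (Bool.rec (motive := fun _ => Nat) (nl2319 i) (nl2320 i) (Nat.ble 1137664 i))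
noncomputable def nd1087 (i : Nat) : Nat := (Bool.rec (motive := fun _ => Nat) (nl2321 i) (nl2322 i) (Nat.ble 1139712 i))
noncomputable def nd1084 (i : Nat) : Nat := (Bool.rec (motive := fun _ => Nat) ((Bool.rec (motive := fun _ => Nat) (nl2316 i) (nd1085 i) (Nat.ble 1134592 i))) ((Bool.rec (motive := fun _ => Nat) (nd1086 i) (nd1087 i) (Nat.ble 1138688 i))) (Nat.ble 1136640 i))
noncomputable def nd1089 (i : Nat) : Nat := (Bool.rec (motive := fun _ => Nat) (nl2324 i) (nl2325 i) (Nat.ble 1142784 i))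
noncomputable def nd1090 (i : Nat) : Nat := (Bool.rec (motive := fun _ => Nat) (nl2327 i) (nl2328 i) (Nat.ble 1145856 i))
noncomputable def nd1088 (i : Nat) : Nat := (Bool.rec (motive := fun _ => Nat) ((Bool.rec (motive := fun _ => Nat) (nl2323 i) (nd1089 i) (Nat.ble 1141760 i))) ((Bool.rec (motive := fun _ => Nat) (nl2326 i) (nd1090 i) (Nat.ble 1144832 i))) (Nat.ble 1143808 i))
noncomputable def nd1092 (i : Nat) : Nat := (Bool.rec (motive := fun _ => Nat) (nl2330 i) (nl2331 i) (Nat.ble 1148928 i))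
noncomputable def nd1093 (i : Nat) : Nat := (Bool.rec (motive := fun _ => Nat) (nl2332 i) (nl2333 i) (Nat.ble 1150976 i))
noncomputable def nd1094 (i : Nat) : Nat := (Bool.rec (motive := fun _ => Nat) (nl2334 i) (nl2335 i) (Nat.ble 1153024 i))
noncomputable def nd1091 (i : Nat) : Nat := (Bool.rec (motive := fun _ => Nat) ((Bool.rec (motive := fun _ => Nat) (nl2329 i) (nd1092 i) (Nat.ble 1147904 i))) ((Bool.rec (motive := fun _ => Nat) (nd1093 i) (nd1094 i) (Nat.ble 1152000 i))) (Nat.ble 1149952 i))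
noncomputable def nd1080 (i : Nat) : Nat := (Bool.rec (motive := fun _ => Nat) ((Bool.rec (motive := fun _ => Nat) (nd1081 i) (nd1084 i) (Nat.ble 1133568 i))) ((Bool.rec (motive := fun _ => Nat) (nd1088 i) (nd1091 i) (Nat.ble 1146880 i))) (Nat.ble 1140736 i))
noncomputable def nd1097 (i : Nat) : Nat := (Bool.rec (motive := fun _ => Nat) (nl2337 i) (nl2338 i) (Nat.ble 1156096 i))
noncomputable def nd1098 (i : Nat) : Nat := (Bool.rec (motive := fun _ => Nat) (nl2340 i) (nl2341 i) (Nat.ble 1159168 i))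
noncomputable def nd1096 (i : Nat) : Nat := (Bool.rec (motive := fun _ => Nat) ((Bool.rec (motive := fun _ => Nat) (nl2336 i) (nd1097 i) (Nat.ble 1155072 i))) ((Bool.rec (motive := fun _ => Nat) (nl2339 i) (nd1098 i) (Nat.ble 1158144 i))) (Nat.ble 1157120 i))
noncomputable def nd1100 (i : Nat) : Nat := (Bool.rec (motive := fun _ => Nat) (nl2343 i) (nl2344 i) (Nat.ble 1162240 i))
noncomputable def nd1101 (i : Nat) : Nat := (Bool.rec (motive := fun _ => Nat) (nl2345 i) (nl2346 i) (Nat.ble 1164288 i))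
noncomputable def nd1102 (i : Nat) : Nat := (Bool.rec (motive := fun _ => Nat) (nl2347 i) (nl2348 i) (Nat.ble 1166336 i))
noncomputable def nd1099 (i : Nat) : Nat := (Bool.rec (motive := fun _ => Nat) ((Bool.rec (motive := fun _ => Nat) (nl2342 i) (nd1100 i) (Nat.ble 1161216 i))) ((Bool.rec (motive := fun _ => Nat) (nd1101 i) (nd1102 i) (Nat.ble 1165312 i))) (Nat.ble 1163264 i))
noncomputable def nd1104 (i : Nat) : Nat := (Bool.rec (motive := fun _ => Nat) (nl2350 i) (nl2351 i) (Nat.ble 1169408 i))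
noncomputable def nd1105 (i : Nat) : Nat := (Bool.rec (motive := fun _ => Nat) (nl2352 i) (nl2353 i) (Nat.ble 1171456 i))
noncomputable def nd1106 (i : Nat) : Nat := (Bool.rec (motive := fun _ => Nat) (nl2354 i) (nl2355 i) (Nat.ble 1173504 i))
noncomputable def nd1103 (i : Nat) : Nat := (Bool.rec (motive := fun _ => Nat) ((Bool.rec (motive := fun _ => Nat) (nl2349 i) (nd1104 i) (Nat.ble 1168384 i))) ((Bool.rec (motive := fun _ => Nat) (nd1105 i) (nd1106 i) (Nat.ble 1172480 i))) (Nat.ble 1170432 i))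
noncomputable def nd1108 (i : Nat) : Nat := (Bool.rec (motive := fun _ => Nat) (nl2357 i) (nl2358 i) (Nat.ble 1176576 i))
noncomputable def nd1109 (i : Nat) : Nat := (Bool.rec (motive := fun _ => Nat) (nl2359 i) (nl2360 i) (Nat.ble 1178624 i))
noncomputable def nd1110 (i : Nat) : Nat := (Bool.rec (motive := fun _ => Nat) (nl2361 i) (nl2362 i) (Nat.ble 1180672 i))
noncomputable def nd1107 (i : Nat) : Nat := (Bool.rec (motive := fun _ => Nat) ((Bool.rec (motive := fun _ => Nat) (nl2356 i) (nd1108 i) (Nat.ble 1175552 i))) ((Bool.rec (motive := fun _ => Nat) (nd1109 i) (nd1110 i) (Nat.ble 1179648 i))) (Nat.ble 1177600 i))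
noncomputable def nd1095 (i : Nat) : Nat := (Bool.rec (motive := fun _ => Nat) ((Bool.rec (motive := fun _ => Nat) (nd1096 i) (nd1099 i) (Nat.ble 1160192 i))) ((Bool.rec (motive := fun _ => Nat) (nd1103 i) (nd1107 i) (Nat.ble 1174528 i))) (Nat.ble 1167360 i))
noncomputable def nd1049 (i : Nat) : Nat := (Bool.rec (motive := fun _ => Nat) ((Bool.rec (motive := fun _ => Nat) (nd1050 i) (nd1065 i) (Nat.ble 1100800 i))) ((Bool.rec (motive := fun _ => Nat) (nd1080 i) (nd1095 i) (Nat.ble 1154048 i))) (Nat.ble 1127424 i))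
noncomputable def nd1114 (i : Nat) : Nat := (Bool.rec (motive := fun _ => Nat) (nl2364 i) (nl2365 i) (Nat.ble 1183744 i))
noncomputable def nd1115 (i : Nat) : Nat := (Bool.rec (motive := fun _ => Nat) (nl2367 i) (nl2368 i) (Nat.ble 1186816 i))
noncomputable def nd1113 (i : Nat) : Nat := (Bool.rec (motive := fun _ => Nat) ((Bool.rec (motive := fun _ => Nat) (nl2363 i) (nd1114 i) (Nat.ble 1182720 i))) ((Bool.rec (motive := fun _ => Nat) (nl2366 i) (nd1115 i) (Nat.ble 1185792 i))) (Nat.ble 1184768 i))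
noncomputable def nd1117 (i : Nat) : Nat := (Bool.rec (motive := fun _ => Nat) (nl2370 i) (nl2371 i) (Nat.ble 1189888 i))
noncomputable def nd1118 (i : Nat) : Nat := (Bool.rec (motive := fun _ => Nat) (nl2372 i) (nl2373 i) (Nat.ble 1191936 i))
noncomputable def nd1119 (i : Nat) : Nat := (Bool.rec (motive := fun _ => Nat) (nl2374 i) (nl2375 i) (Nat.ble 1193984 i))
noncomputable def nd1116 (i : Nat) : Nat := (Bool.rec (motive := fun _ => Nat) ((Bool.rec (motive := fun _ => Nat) (nl2369 i) (nd1117 i) (Nat.ble 1188864 i))) ((Bool.rec (motive := fun _ => Nat) (nd1118 i) (nd1119 i) (Nat.ble 1192960 i))) (Nat.ble 1190912 i))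
noncomputable def nd1121 (i : Nat) : Nat := (Bool.rec (motive := fun _ => Nat) (nl2377 i) (nl2378 i) (Nat.ble 1197056 i))
noncomputable def nd1122 (i : Nat) : Nat := (Bool.rec (motive := fun _ => Nat) (nl2380 i) (nl2381 i) (Nat.ble 1200128 i))
noncomputable def nd1120 (i : Nat) : Nat := (Bool.rec (motive := fun _ => Nat) ((Bool.rec (motive := fun _ => Nat) (nl2376 i) (nd1121 i) (Nat.ble 1196032 i))) ((Bool.rec (motive := fun _ => Nat) (nl2379 i) (nd1122 i) (Nat.ble 1199104 i))) (Nat.ble 1198080 i))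
noncomputable def nd1124 (i : Nat) : Nat := (Bool.rec (motive := fun _ => Nat) (nl2383 i) (nl2384 i) (Nat.ble 1203200 i))
noncomputable def nd1125 (i : Nat) : Nat := (Bool.rec (motive := fun _ => Nat) (nl2385 i) (nl2386 i) (Nat.ble 1205248 i))
noncomputable def nd1126 (i : Nat) : Nat := (Bool.rec (motive := fun _ => Nat) (nl2387 i) (nl2388 i) (Nat.ble 1207296 i))
noncomputable def nd1123 (i : Nat) : Nat := (Bool.rec (motive := fun _ => Nat) ((Bool.rec (motive := fun _ => Nat) (nl2382 i) (nd1124 i) (Nat.ble 1202176 i))) ((Bool.rec (motive := fun _ => Nat) (nd1125 i) (nd1126 i) (Nat.ble 1206272 i))) (Nat.ble 1204224 i))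
noncomputable def nd1112 (i : Nat) : Nat := (Bool.rec (motive := fun _ => Nat) ((Bool.rec (motive := fun _ => Nat) (nd1113 i) (nd1116 i) (Nat.ble 1187840 i))) ((Bool.rec (motive := fun _ => Nat) (nd1120 i) (nd1123 i) (Nat.ble 1201152 i))) (Nat.ble 1195008 i))
noncomputable def nd1129 (i : Nat) : Nat := (Bool.rec (motive := fun _ => Nat) (nl2390 i) (nl2391 i) (Nat.ble 1210368 i))
noncomputable def nd1130 (i : Nat) : Nat := (Bool.rec (motive := fun _ => Nat) (nl2393 i) (nl2394 i) (Nat.ble 1213440 i))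
noncomputable def nd1128 (i : Nat) : Nat := (Bool.rec (motive := fun _ => Nat) ((Bool.rec (motive := fun _ => Nat) (nl2389 i) (nd1129 i) (Nat.ble 1209344 i))) ((Bool.rec (motive := fun _ => Nat) (nl2392 i) (nd1130 i) (Nat.ble 1212416 i))) (Nat.ble 1211392 i))
noncomputable def nd1132 (i : Nat) : Nat := (Bool.rec (motive := fun _ => Nat) (nl2396 i) (nl2397 i) (Nat.ble 1216512 i))
noncomputable def nd1133 (i : Nat) : Nat := (Bool.rec (motive := fun _ => Nat) (nl2398 i) (nl2399 i) (Nat.ble 1218560 i))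
noncomputable def nd1134 (i : Nat) : Nat := (Bool.rec (motive := fun _ => Nat) (nl2400 i) (nl2401 i) (Nat.ble 1220608 i))
noncomputable def nd1131 (i : Nat) : Nat := (Bool.rec (motive := fun _ => Nat) ((Bool.rec (motive := fun _ => Nat) (nl2395 i) (nd1132 i) (Nat.ble 1215488 i))) ((Bool.rec (motive := fun _ => Nat) (nd1133 i) (nd1134 i) (Nat.ble 1219584 i))) (Nat.ble 1217536 i))
noncomputable def nd1136 (i : Nat) : Nat := (Bool.rec (motive := fun _ => Nat) (nl2403 i) (nl2404 i) (Nat.ble 1223680 i))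
noncomputable def nd1137 (i : Nat) : Nat := (Bool.rec (motive := fun _ => Nat) (nl2406 i) (nl2407 i) (Nat.ble 1226752 i))
noncomputable def nd1135 (i : Nat) : Nat := (Bool.rec (motive := fun _ => Nat) ((Bool.rec (motive := fun _ => Nat) (nl2402 i) (nd1136 i) (Nat.ble 1222656 i))) ((Bool.rec (motive := fun _ => Nat) (nl2405 i) (nd1137 i) (Nat.ble 1225728 i))) (Nat.ble 1224704 i))
noncomputable def nd1139 (i : Nat) : Nat := (Bool.rec (motive := fun _ => Nat) (nl2409 i) (nl2410 i) (Nat.ble 1229824 i))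
noncomputable def nd1140 (i : Nat) : Nat := (Bool.rec (motive := fun _ => Nat) (nl2411 i) (nl2412 i) (Nat.ble 1231872 i))
noncomputable def nd1141 (i : Nat) : Nat := (Bool.rec (motive := fun _ => Nat) (nl2413 i) (nl2414 i) (Nat.ble 1233920 i))
noncomputable def nd1138 (i : Nat) : Nat := (Bool.rec (motive := fun _ => Nat) ((Bool.rec (motive := fun _ => Nat) (nl2408 i) (nd1139 i) (Nat.ble 1228800 i))) ((Bool.rec (motive := fun _ => Nat) (nd1140 i) (nd1141 i) (Nat.ble 1232896 i))) (Nat.ble 1230848 i))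
noncomputable def nd1127 (i : Nat) : Nat := (Bool.rec (motive := fun _ => Nat) ((Bool.rec (motive := fun _ => Nat) (nd1128 i) (nd1131 i) (Nat.ble 1214464 i))) ((Bool.rec (motive := fun _ => Nat) (nd1135 i) (nd1138 i) (Nat.ble 1227776 i))) (Nat.ble 1221632 i))
noncomputable def nd1144 (i : Nat) : Nat := (Bool.rec (motive := fun _ => Nat) (nl2416 i) (nl2417 i) (Nat.ble 1236992 i))
noncomputable def nd1145 (i : Nat) : Nat := (Bool.rec (motive := fun _ => Nat) (nl2419 i) (nl2420 i) (Nat.ble 1240064 i))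
noncomputable def nd1143 (i : Nat) : Nat := (Bool.rec (motive := fun _ => Nat) ((Bool.rec (motive := fun _ => Nat) (nl2415 i) (nd1144 i) (Nat.ble 1235968 i))) ((Bool.rec (motive := fun _ => Nat) (nl2418 i) (nd1145 i) (Nat.ble 1239040 i))) (Nat.ble 1238016 i))
noncomputable def nd1147 (i : Nat) : Nat := (Bool.rec (motive := fun _ => Nat) (nl2422 i) (nl2423 i) (Nat.ble 1243136 i))
noncomputable def nd1148 (i : Nat) : Nat := (Bool.rec (motive := fun _ => Nat) (nl2424 i) (nl2425 i) (Nat.ble 1245184 i))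
noncomputable def nd1149 (i : Nat) : Nat := (Bool.rec (motive := fun _ => Nat) (nl2426 i) (nl2427 i) (Nat.ble 1247232 i))
noncomputable def nd1146 (i : Nat) : Nat := (Bool.rec (motive := fun _ => Nat) ((Bool.rec (motive := fun _ => Nat) (nl2421 i) (nd1147 i) (Nat.ble 1242112 i))) ((Bool.rec (motive := fun _ => Nat) (nd1148 i) (nd1149 i) (Nat.ble 1246208 i))) (Nat.ble 1244160 i))
noncomputable def nd1151 (i : Nat) : Nat := (Bool.rec (motive := fun _ => Nat) (nl2429 i) (nl2430 i) (Nat.ble 1250304 i))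
noncomputable def nd1152 (i : Nat) : Nat := (Bool.rec (motive := fun _ => Nat) (nl2432 i) (nl2433 i) (Nat.ble 1253376 i))
noncomputable def nd1150 (i : Nat) : Nat := (Bool.rec (motive := fun _ => Nat) ((Bool.rec (motive := fun _ => Nat) (nl2428 i) (nd1151 i) (Nat.ble 1249280 i))) ((Bool.rec (motive := fun _ => Nat) (nl2431 i) (nd1152 i) (Nat.ble 1252352 i))) (Nat.ble 1251328 i))
noncomputable def nd1154 (i : Nat) : Nat := (Bool.rec (motive := fun _ => Nat) (nl2435 i) (nl2436 i) (Nat.ble 1256448 i))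
noncomputable def nd1155 (i : Nat) : Nat := (Bool.rec (motive := fun _ => Nat) (nl2437 i) (nl2438 i) (Nat.ble 1258496 i))
noncomputable def nd1156 (i : Nat) : Nat := (Bool.rec (motive := fun _ => Nat) (nl2439 i) (nl2440 i) (Nat.ble 1260544 i))
noncomputable def nd1153 (i : Nat) : Nat := (Bool.rec (motive := fun _ => Nat) ((Bool.rec (motive := fun _ => Nat) (nl2434 i) (nd1154 i) (Nat.ble 1255424 i))) ((Bool.rec (motive := fun _ => Nat) (nd1155 i) (nd1156 i) (Nat.ble 1259520 i))) (Nat.ble 1257472 i))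
noncomputable def nd1142 (i : Nat) : Nat := (Bool.rec (motive := fun _ => Nat) ((Bool.rec (motive := fun _ => Nat) (nd1143 i) (nd1146 i) (Nat.ble 1241088 i))) ((Bool.rec (motive := fun _ => Nat) (nd1150 i) (nd1153 i) (Nat.ble 1254400 i))) (Nat.ble 1248256 i))
noncomputable def nd1159 (i : Nat) : Nat := (Bool.rec (motive := fun _ => Nat) (nl2442 i) (nl2443 i) (Nat.ble 1263616 i))
noncomputable def nd1160 (i : Nat) : Nat := (Bool.rec (motive := fun _ => Nat) (nl2445 i) (nl2446 i) (Nat.ble 1266688 i))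
noncomputable def nd1158 (i : Nat) : Nat := (Bool.rec (motive := fun _ => Nat) ((Bool.rec (motive := fun _ => Nat) (nl2441 i) (nd1159 i) (Nat.ble 1262592 i))) ((Bool.rec (motive := fun _ => Nat) (nl2444 i) (nd1160 i) (Nat.ble 1265664 i))) (Nat.ble 1264640 i))
noncomputable def nd1162 (i : Nat) : Nat := (Bool.rec (motive := fun _ => Nat) (nl2448 i) (nl2449 i) (Nat.ble 1269760 i))
noncomputable def nd1163 (i : Nat) : Nat := (Bool.rec (motive := fun _ => Nat) (nl2450 i) (nl2451 i) (Nat.ble 1271808 i))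
noncomputable def nd1164 (i : Nat) : Nat := (Bool.rec (motive := fun _ => Nat) (nl2452 i) (nl2453 i) (Nat.ble 1273856 i))
noncomputable def nd1161 (i : Nat) : Nat := (Bool.rec (motive := fun _ => Nat) ((Bool.rec (motive := fun _ => Nat) (nl2447 i) (nd1162 i) (Nat.ble 1268736 i))) ((Bool.rec (motive := fun _ => Nat) (nd1163 i) (nd1164 i) (Nat.ble 1272832 i))) (Nat.ble 1270784 i))
noncomputable def nd1166 (i : Nat) : Nat := (Bool.rec (motive := fun _ => Nat) (nl2455 i) (nl2456 i) (Nat.ble 1276928 i))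
noncomputable def nd1167 (i : Nat) : Nat := (Bool.rec (motive := fun _ => Nat) (nl2457 i) (nl2458 i) (Nat.ble 1278976 i))
noncomputable def nd1168 (i : Nat) : Nat := (Bool.rec (motive := fun _ => Nat) (nl2459 i) (nl2460 i) (Nat.ble 1281024 i))
noncomputable def nd1165 (i : Nat) : Nat := (Bool.rec (motive := fun _ => Nat) ((Bool.rec (motive := fun _ => Nat) (nl2454 i) (nd1166 i) (Nat.ble 1275904 i))) ((Bool.rec (motive := fun _ => Nat) (nd1167 i) (nd1168 i) (Nat.ble 1280000 i))) (Nat.ble 1277952 i))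
noncomputable def nd1170 (i : Nat) : Nat := (Bool.rec (motive := fun _ => Nat) (nl2462 i) (nl2463 i) (Nat.ble 1284096 i))
noncomputable def nd1171 (i : Nat) : Nat := (Bool.rec (motive := fun _ => Nat) (nl2464 i) (nl2465 i) (Nat.ble 1286144 i))
noncomputable def nd1172 (i : Nat) : Nat := (Bool.rec (motive := fun _ => Nat) (nl2466 i) (nl2467 i) (Nat.ble 1288192 i))
noncomputable def nd1169 (i : Nat) : Nat := (Bool.rec (motive := fun _ => Nat) ((Bool.rec (motive := fun _ => Nat) (nl2461 i) (nd1170 i) (Nat.ble 1283072 i))) ((Bool.rec (motive := fun _ => Nat) (nd1171 i) (nd1172 i) (Nat.ble 1287168 i))) (Nat.ble 1285120 i))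
noncomputable def nd1157 (i : Nat) : Nat := (Bool.rec (motive := fun _ => Nat) ((Bool.rec (motive := fun _ => Nat) (nd1158 i) (nd1161 i) (Nat.ble 1267712 i))) ((Bool.rec (motive := fun _ => Nat) (nd1165 i) (nd1169 i) (Nat.ble 1282048 i))) (Nat.ble 1274880 i))
noncomputable def nd1111 (i : Nat) : Nat := (Bool.rec (motive := fun _ => Nat) ((Bool.rec (motive := fun _ => Nat) (nd1112 i) (nd1127 i) (Nat.ble 1208320 i))) ((Bool.rec (motive := fun _ => Nat) (nd1142 i) (nd1157 i) (Nat.ble 1261568 i))) (Nat.ble 1234944 i))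
noncomputable def nd924 (i : Nat) : Nat := (Bool.rec (motive := fun _ => Nat) ((Bool.rec (motive := fun _ => Nat) (nd925 i) (nd987 i) (Nat.ble 966656 i))) ((Bool.rec (motive := fun _ => Nat) (nd1049 i) (nd1111 i) (Nat.ble 1181696 i))) (Nat.ble 1074176 i))
noncomputable def nd1177 (i : Nat) : Nat := (Bool.rec (motive := fun _ => Nat) (nl2469 i) (nl2470 i) (Nat.ble 1291264 i))
noncomputable def nd1178 (i : Nat) : Nat := (Bool.rec (motive := fun _ => Nat) (nl2472 i) (nl2473 i) (Nat.ble 1294336 i))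
noncomputable def nd1176 (i : Nat) : Nat := (Bool.rec (motive := fun _ => Nat) ((Bool.rec (motive := fun _ => Nat) (nl2468 i) (nd1177 i) (Nat.ble 1290240 i))) ((Bool.rec (motive := fun _ => Nat) (nl2471 i) (nd1178 i) (Nat.ble 1293312 i))) (Nat.ble 1292288 i))
noncomputable def nd1180 (i : Nat) : Nat := (Bool.rec (motive := fun _ => Nat) (nl2475 i) (nl2476 i) (Nat.ble 1297408 i))
noncomputable def nd1181 (i : Nat) : Nat := (Bool.rec (motive := fun _ => Nat) (nl2477 i) (nl2478 i) (Nat.ble 1299456 i))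
noncomputable def nd1182 (i : Nat) : Nat := (Bool.rec (motive := fun _ => Nat) (nl2479 i) (nl2480 i) (Nat.ble 1301504 i))
noncomputable def nd1179 (i : Nat) : Nat := (Bool.rec (motive := fun _ => Nat) ((Bool.rec (motive := fun _ => Nat) (nl2474 i) (nd1180 i) (Nat.ble 1296384 i))) ((Bool.rec (motive := fun _ => Nat) (nd1181 i) (nd1182 i) (Nat.ble 1300480 i))) (Nat.ble 1298432 i))
noncomputable def nd1184 (i : Nat) : Nat := (Bool.rec (motive := fun _ => Nat) (nl2482 i) (nl2483 i) (Nat.ble 1304576 i))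
noncomputable def nd1185 (i : Nat) : Nat := (Bool.rec (motive := fun _ => Nat) (nl2485 i) (nl2486 i) (Nat.ble 1307648 i))
noncomputable def nd1183 (i : Nat) : Nat := (Bool.rec (motive := fun _ => Nat) ((Bool.rec (motive := fun _ => Nat) (nl2481 i) (nd1184 i) (Nat.ble 1303552 i))) ((Bool.rec (motive := fun _ => Nat) (nl2484 i) (nd1185 i) (Nat.ble 1306624 i))) (Nat.ble 1305600 i))
noncomputable def nd1187 (i : Nat) : Nat := (Bool.rec (motive := fun _ => Nat) (nl2488 i) (nl2489 i) (Nat.ble 1310720 i))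
noncomputable def nd1188 (i : Nat) : Nat := (Bool.rec (motive := fun _ => Nat) (nl2490 i) (nl2491 i) (Nat.ble 1312768 i))
noncomputable def nd1189 (i : Nat) : Nat := (Bool.rec (motive := fun _ => Nat) (nl2492 i) (nl2493 i) (Nat.ble 1314816 i))
noncomputable def nd1186 (i : Nat) : Nat := (Bool.rec (motive := fun _ => Nat) ((Bool.rec (motive := fun _ => Nat) (nl2487 i) (nd1187 i) (Nat.ble 1309696 i))) ((Bool.rec (motive := fun _ => Nat) (nd1188 i) (nd1189 i) (Nat.ble 1313792 i))) (Nat.ble 1311744 i))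
noncomputable def nd1175 (i : Nat) : Nat := (Bool.rec (motive := fun _ => Nat) ((Bool.rec (motive := fun _ => Nat) (nd1176 i) (nd1179 i) (Nat.ble 1295360 i))) ((Bool.rec (motive := fun _ => Nat) (nd1183 i) (nd1186 i) (Nat.ble 1308672 i))) (Nat.ble 1302528 i))
noncomputable def nd1192 (i : Nat) : Nat := (Bool.rec (motive := fun _ => Nat) (nl2495 i) (nl2496 i) (Nat.ble 1317888 i))
noncomputable def nd1193 (i : Nat) : Nat := (Bool.rec (motive := fun _ => Nat) (nl2498 i) (nl2499 i) (Nat.ble 1320960 i))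
noncomputable def nd1191 (i : Nat) : Nat := (Bool.rec (motive := fun _ => Nat) ((Bool.rec (motive := fun _ => Nat) (nl2494 i) (nd1192 i) (Nat.ble 1316864 i))) ((Bool.rec (motive := fun _ => Nat) (nl2497 i) (nd1193 i) (Nat.ble 1319936 i))) (Nat.ble 1318912 i))
noncomputable def nd1195 (i : Nat) : Nat := (Bool.rec (motive := fun _ => Nat) (nl2501 i) (nl2502 i) (Nat.ble 1324032 i))
noncomputable def nd1196 (i : Nat) : Nat := (Bool.rec (motive := fun _ => Nat) (nl2503 i) (nl2504 i) (Nat.ble 1326080 i))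
noncomputable def nd1197 (i : Nat) : Nat := (Bool.rec (motive := fun _ => Nat) (nl2505 i) (nl2506 i) (Nat.ble 1328128 i))
noncomputable def nd1194 (i : Nat) : Nat := (Bool.rec (motive := fun _ => Nat) ((Bool.rec (motive := fun _ => Nat) (nl2500 i) (nd1195 i) (Nat.ble 1323008 i))) ((Bool.rec (motive := fun _ => Nat) (nd1196 i) (nd1197 i) (Nat.ble 1327104 i))) (Nat.ble 1325056 i))
noncomputable def nd1199 (i : Nat) : Nat := (Bool.rec (motive := fun _ => Nat) (nl2508 i) (nl2509 i) (Nat.ble 1331200 i))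
noncomputable def nd1200 (i : Nat) : Nat := (Bool.rec (motive := fun _ => Nat) (nl2511 i) (nl2512 i) (Nat.ble 1334272 i))
noncomputable def nd1198 (i : Nat) : Nat := (Bool.rec (motive := fun _ => Nat) ((Bool.rec (motive := fun _ => Nat) (nl2507 i) (nd1199 i) (Nat.ble 1330176 i))) ((Bool.rec (motive := fun _ => Nat) (nl2510 i) (nd1200 i) (Nat.ble 1333248 i))) (Nat.ble 1332224 i))
noncomputable def nd1202 (i : Nat) : Nat := (Bool.rec (motive := fun _ => Nat) (nl2514 i) (nl2515 i) (Nat.ble 1337344 i))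
noncomputable def nd1203 (i : Nat) : Nat := (Bool.rec (motive := fun _ => Nat) (nl2516 i) (nl2517 i) (Nat.ble 1339392 i))
noncomputable def nd1204 (i : Nat) : Nat := (Bool.rec (motive := fun _ => Nat) (nl2518 i) (nl2519 i) (Nat.ble 1341440 i))
noncomputable def nd1201 (i : Nat) : Nat := (Bool.rec (motive := fun _ => Nat) ((Bool.rec (motive := fun _ => Nat) (nl2513 i) (nd1202 i) (Nat.ble 1336320 i))) ((Bool.rec (motive := fun _ => Nat) (nd1203 i) (nd1204 i) (Nat.ble 1340416 i))) (Nat.ble 1338368 i))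
noncomputable def nd1190 (i : Nat) : Nat := (Bool.rec (motive := fun _ => Nat) ((Bool.rec (motive := fun _ => Nat) (nd1191 i) (nd1194 i) (Nat.ble 1321984 i))) ((Bool.rec (motive := fun _ => Nat) (nd1198 i) (nd1201 i) (Nat.ble 1335296 i))) (Nat.ble 1329152 i))
noncomputable def nd1207 (i : Nat) : Nat := (Bool.rec (motive := fun _ => Nat) (nl2521 i) (nl2522 i) (Nat.ble 1344512 i))
noncomputable def nd1208 (i : Nat) : Nat := (Bool.rec (motive := fun _ => Nat) (nl2524 i) (nl2525 i) (Nat.ble 1347584 i))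
noncomputable def nd1206 (i : Nat) : Nat := (Bool.rec (motive := fun _ => Nat) ((Bool.rec (motive := fun _ => Nat) (nl2520 i) (nd1207 i) (Nat.ble 1343488 i))) ((Bool.rec (motive := fun _ => Nat) (nl2523 i) (nd1208 i) (Nat.ble 1346560 i))) (Nat.ble 1345536 i))
noncomputable def nd1210 (i : Nat) : Nat := (Bool.rec (motive := fun _ => Nat) (nl2527 i) (nl2528 i) (Nat.ble 1350656 i))
noncomputable def nd1211 (i : Nat) : Nat := (Bool.rec (motive := fun _ => Nat) (nl2529 i) (nl2530 i) (Nat.ble 1352704 i))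
noncomputable def nd1212 (i : Nat) : Nat := (Bool.rec (motive := fun _ => Nat) (nl2531 i) (nl2532 i) (Nat.ble 1354752 i))
noncomputable def nd1209 (i : Nat) : Nat := (Bool.rec (motive := fun _ => Nat) ((Bool.rec (motive := fun _ => Nat) (nl2526 i) (nd1210 i) (Nat.ble 1349632 i))) ((Bool.rec (motive := fun _ => Nat) (nd1211 i) (nd1212 i) (Nat.ble 1353728 i))) (Nat.ble 1351680 i))
noncomputable def nd1214 (i : Nat) : Nat := (Bool.rec (motive := fun _ => Nat) (nl2534 i) (nl2535 i) (Nat.ble 1357824 i))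
noncomputable def nd1215 (i : Nat) : Nat := (Bool.rec (motive := fun _ => Nat) (nl2537 i) (nl2538 i) (Nat.ble 1360896 i))
noncomputable def nd1213 (i : Nat) : Nat := (Bool.rec (motive := fun _ => Nat) ((Bool.rec (motive := fun _ => Nat) (nl2533 i) (nd1214 i) (Nat.ble 1356800 i))) ((Bool.rec (motive := fun _ => Nat) (nl2536 i) (nd1215 i) (Nat.ble 1359872 i))) (Nat.ble 1358848 i))
noncomputable def nd1217 (i : Nat) : Nat := (Bool.rec (motive := fun _ => Nat) (nl2540 i) (nl2541 i) (Nat.ble 1363968 i))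
noncomputable def nd1218 (i : Nat) : Nat := (Bool.rec (motive := fun _ => Nat) (nl2542 i) (nl2543 i) (Nat.ble 1366016 i))
noncomputable def nd1219 (i : Nat) : Nat := (Bool.rec (motive := fun _ => Nat) (nl2544 i) (nl2545 i) (Nat.ble 1368064 i))
noncomputable def nd1216 (i : Nat) : Nat := (Bool.rec (motive := fun _ => Nat) ((Bool.rec (motive := fun _ => Nat) (nl2539 i) (nd1217 i) (Nat.ble 1362944 i))) ((Bool.rec (motive := fun _ => Nat) (nd1218 i) (nd1219 i) (Nat.ble 1367040 i))) (Nat.ble 1364992 i))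
noncomputable def nd1205 (i : Nat) : Nat := (Bool.rec (motive := fun _ => Nat) ((Bool.rec (motive := fun _ => Nat) (nd1206 i) (nd1209 i) (Nat.ble 1348608 i))) ((Bool.rec (motive := fun _ => Nat) (nd1213 i) (nd1216 i) (Nat.ble 1361920 i))) (Nat.ble 1355776 i))
noncomputable def nd1222 (i : Nat) : Nat := (Bool.rec (motive := fun _ => Nat) (nl2547 i) (nl2548 i) (Nat.ble 1371136 i))
noncomputable def nd1223 (i : Nat) : Nat := (Bool.rec (motive := fun _ => Nat) (nl2550 i) (nl2551 i) (Nat.ble 1374208 i))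
noncomputable def nd1221 (i : Nat) : Nat := (Bool.rec (motive := fun _ => Nat) ((Bool.rec (motive := fun _ => Nat) (nl2546 i) (nd1222 i) (Nat.ble 1370112 i))) ((Bool.rec (motive := fun _ => Nat) (nl2549 i) (nd1223 i) (Nat.ble 1373184 i))) (Nat.ble 1372160 i))
noncomputable def nd1225 (i : Nat) : Nat := (Bool.rec (motive := fun _ => Nat) (nl2553 i) (nl2554 i) (Nat.ble 1377280 i))
noncomputable def nd1226 (i : Nat) : Nat := (Bool.rec (motive := fun _ => Nat) (nl2555 i) (nl2556 i) (Nat.ble 1379328 i))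
noncomputable def nd1227 (i : Nat) : Nat := (Bool.rec (motive := fun _ => Nat) (nl2557 i) (nl2558 i) (Nat.ble 1381376 i))
noncomputable def nd1224 (i : Nat) : Nat := (Bool.rec (motive := fun _ => Nat) ((Bool.rec (motive := fun _ => Nat) (nl2552 i) (nd1225 i) (Nat.ble 1376256 i))) ((Bool.rec (motive := fun _ => Nat) (nd1226 i) (nd1227 i) (Nat.ble 1380352 i))) (Nat.ble 1378304 i))
noncomputable def nd1229 (i : Nat) : Nat := (Bool.rec (motive := fun _ => Nat) (nl2560 i) (nl2561 i) (Nat.ble 1384448 i))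
noncomputable def nd1230 (i : Nat) : Nat := (Bool.rec (motive := fun _ => Nat) (nl2562 i) (nl2563 i) (Nat.ble 1386496 i))
noncomputable def nd1231 (i : Nat) : Nat := (Bool.rec (motive := fun _ => Nat) (nl2564 i) (nl2565 i) (Nat.ble 1388544 i))
noncomputable def nd1228 (i : Nat) : Nat := (Bool.rec (motive := fun _ => Nat) ((Bool.rec (motive := fun _ => Nat) (nl2559 i) (nd1229 i) (Nat.ble 1383424 i))) ((Bool.rec (motive := fun _ => Nat) (nd1230 i) (nd1231 i) (Nat.ble 1387520 i))) (Nat.ble 1385472 i))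
noncomputable def nd1233 (i : Nat) : Nat := (Bool.rec (motive := fun _ => Nat) (nl2567 i) (nl2568 i) (Nat.ble 1391616 i))
noncomputable def nd1234 (i : Nat) : Nat := (Bool.rec (motive := fun _ => Nat) (nl2569 i) (nl2570 i) (Nat.ble 1393664 i))
noncomputable def nd1235 (i : Nat) : Nat := (Bool.rec (motive := fun _ => Nat) (nl2571 i) (nl2572 i) (Nat.ble 1395712 i))
noncomputable def nd1232 (i : Nat) : Nat := (Bool.rec (motive := fun _ => Nat) ((Bool.rec (motive := fun _ => Nat) (nl2566 i) (nd1233 i) (Nat.ble 1390592 i))) ((Bool.rec (motive := fun _ => Nat) (nd1234 i) (nd1235 i) (Nat.ble 1394688 i))) (Nat.ble 1392640 i))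
noncomputable def nd1220 (i : Nat) : Nat := (Bool.rec (motive := fun _ => Nat) ((Bool.rec (motive := fun _ => Nat) (nd1221 i) (nd1224 i) (Nat.ble 1375232 i))) ((Bool.rec (motive := fun _ => Nat) (nd1228 i) (nd1232 i) (Nat.ble 1389568 i))) (Nat.ble 1382400 i))
noncomputable def nd1174 (i : Nat) : Nat := (Bool.rec (motive := fun _ => Nat) ((Bool.rec (motive := fun _ => Nat) (nd1175 i) (nd1190 i) (Nat.ble 1315840 i))) ((Bool.rec (motive := fun _ => Nat) (nd1205 i) (nd1220 i) (Nat.ble 1369088 i))) (Nat.ble 1342464 i))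
noncomputable def nd1239 (i : Nat) : Nat := (Bool.rec (motive := fun _ => Nat) (nl2574 i) (nl2575 i) (Nat.ble 1398784 i))
noncomputable def nd1240 (i : Nat) : Nat := (Bool.rec (motive := fun _ => Nat) (nl2577 i) (nl2578 i) (Nat.ble 1401856 i))
noncomputable def nd1238 (i : Nat) : Nat := (Bool.rec (motive := fun _ => Nat) ((Bool.rec (motive := fun _ => Nat) (nl2573 i) (nd1239 i) (Nat.ble 1397760 i))) ((Bool.rec (motive := fun _ => Nat) (nl2576 i) (nd1240 i) (Nat.ble 1400832 i))) (Nat.ble 1399808 i))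
noncomputable def nd1242 (i : Nat) : Nat := (Bool.rec (motive := fun _ => Nat) (nl2580 i) (nl2581 i) (Nat.ble 1404928 i))
noncomputable def nd1243 (i : Nat) : Nat := (Bool.rec (motive := fun _ => Nat) (nl2582 i) (nl2583 i) (Nat.ble 1406976 i))
noncomputable def nd1244 (i : Nat) : Nat := (Bool.rec (motive := fun _ => Nat) (nl2584 i) (nl2585 i) (Nat.ble 1409024 i))
noncomputable def nd1241 (i : Nat) : Nat := (Bool.rec (motive := fun _ => Nat) ((Bool.rec (motive := fun _ => Nat) (nl2579 i) (nd1242 i) (Nat.ble 1403904 i))) ((Bool.rec (motive := fun _ => Nat) (nd1243 i) (nd1244 i) (Nat.ble 1408000 i))) (Nat.ble 1405952 i))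
noncomputable def nd1246 (i : Nat) : Nat := (Bool.rec (motive := fun _ => Nat) (nl2587 i) (nl2588 i) (Nat.ble 1412096 i))
noncomputable def nd1247 (i : Nat) : Nat := (Bool.rec (motive := fun _ => Nat) (nl2590 i) (nl2591 i) (Nat.ble 1415168 i))
noncomputable def nd1245 (i : Nat) : Nat := (Bool.rec (motive := fun _ => Nat) ((Bool.rec (motive := fun _ => Nat) (nl2586 i) (nd1246 i) (Nat.ble 1411072 i))) ((Bool.rec (motive := fun _ => Nat) (nl2589 i) (nd1247 i) (Nat.ble 1414144 i))) (Nat.ble 1413120 i))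
noncomputable def nd1249 (i : Nat) : Nat := (Bool.rec (motive := fun _ => Nat) (nl2593 i) (nl2594 i) (Nat.ble 1418240 i))
noncomputable def nd1250 (i : Nat) : Nat := (Bool.rec (motive := fun _ => Nat) (nl2595 i) (nl2596 i) (Nat.ble 1420288 i))
noncomputable def nd1251 (i : Nat) : Nat := (Bool.rec (motive := fun _ => Nat) (nl2597 i) (nl2598 i) (Nat.ble 1422336 i))
noncomputable def nd1248 (i : Nat) : Nat := (Bool.rec (motive := fun _ => Nat) ((Bool.rec (motive := fun _ => Nat) (nl2592 i) (nd1249 i) (Nat.ble 1417216 i))) ((Bool.rec (motive := fun _ => Nat) (nd1250 i) (nd1251 i) (Nat.ble 1421312 i))) (Nat.ble 1419264 i))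
noncomputable def nd1237 (i : Nat) : Nat := (Bool.rec (motive := fun _ => Nat) ((Bool.rec (motive := fun _ => Nat) (nd1238 i) (nd1241 i) (Nat.ble 1402880 i))) ((Bool.rec (motive := fun _ => Nat) (nd1245 i) (nd1248 i) (Nat.ble 1416192 i))) (Nat.ble 1410048 i))
noncomputable def nd1254 (i : Nat) : Nat := (Bool.rec (motive := fun _ => Nat) (nl2600 i) (nl2601 i) (Nat.ble 1425408 i))
noncomputable def nd1255 (i : Nat) : Nat := (Bool.rec (motive := fun _ => Nat) (nl2603 i) (nl2604 i) (Nat.ble 1428480 i))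
noncomputable def nd1253 (i : Nat) : Nat := (Bool.rec (motive := fun _ => Nat) ((Bool.rec (motive := fun _ => Nat) (nl2599 i) (nd1254 i) (Nat.ble 1424384 i))) ((Bool.rec (motive := fun _ => Nat) (nl2602 i) (nd1255 i) (Nat.ble 1427456 i))) (Nat.ble 1426432 i))
noncomputable def nd1257 (i : Nat) : Nat := (Bool.rec (motive := fun _ => Nat) (nl2606 i) (nl2607 i) (Nat.ble 1431552 i))
noncomputable def nd1258 (i : Nat) : Nat := (Bool.rec (motive := fun _ => Nat) (nl2608 i) (nl2609 i) (Nat.ble 1433600 i))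
noncomputable def nd1259 (i : Nat) : Nat := (Bool.rec (motive := fun _ => Nat) (nl2610 i) (nl2611 i) (Nat.ble 1435648 i))
noncomputable def nd1256 (i : Nat) : Nat := (Bool.rec (motive := fun _ => Nat) ((Bool.rec (motive := fun _ => Nat) (nl2605 i) (nd1257 i) (Nat.ble 1430528 i))) ((Bool.rec (motive := fun _ => Nat) (nd1258 i) (nd1259 i) (Nat.ble 1434624 i))) (Nat.ble 1432576 i))
noncomputable def nd1261 (i : Nat) : Nat := (Bool.rec (motive := fun _ => Nat) (nl2613 i) (nl2614 i) (Nat.ble 1438720 i))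
noncomputable def nd1262 (i : Nat) : Nat := (Bool.rec (motive := fun _ => Nat) (nl2616 i) (nl2617 i) (Nat.ble 1441792 i))
noncomputable def nd1260 (i : Nat) : Nat := (Bool.rec (motive := fun _ => Nat) ((Bool.rec (motive := fun _ => Nat) (nl2612 i) (nd1261 i) (Nat.ble 1437696 i))) ((Bool.rec (motive := fun _ => Nat) (nl2615 i) (nd1262 i) (Nat.ble 1440768 i))) (Nat.ble 1439744 i))
noncomputable def nd1264 (i : Nat) : Nat := (Bool.rec (motive := fun _ => Nat) (nl2619 i) (nl2620 i) (Nat.ble 1444864 i))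
noncomputable def nd1265 (i : Nat) : Nat := (Bool.rec (motive := fun _ => Nat) (nl2621 i) (nl2622 i) (Nat.ble 1446912 i))
noncomputable def nd1266 (i : Nat) : Nat := (Bool.rec (motive := fun _ => Nat) (nl2623 i) (nl2624 i) (Nat.ble 1448960 i))
noncomputable def nd1263 (i : Nat) : Nat := (Bool.rec (motive := fun _ => Nat) ((Bool.rec (motive := fun _ => Nat) (nl2618 i) (nd1264 i) (Nat.ble 1443840 i))) ((Bool.rec (motive := fun _ => Nat) (nd1265 i) (nd1266 i) (Nat.ble 1447936 i))) (Nat.ble 1445888 i))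
noncomputable def nd1252 (i : Nat) : Nat := (Bool.rec (motive := fun _ => Nat) ((Bool.rec (motive := fun _ => Nat) (nd1253 i) (nd1256 i) (Nat.ble 1429504 i))) ((Bool.rec (motive := fun _ => Nat) (nd1260 i) (nd1263 i) (Nat.ble 1442816 i))) (Nat.ble 1436672 i))
noncomputable def nd1269 (i : Nat) : Nat := (Bool.rec (motive := fun _ => Nat) (nl2626 i) (nl2627 i) (Nat.ble 1452032 i))
noncomputable def nd1270 (i : Nat) : Nat := (Bool.rec (motive := fun _ => Nat) (nl2629 i) (nl2630 i) (Nat.ble 1455104 i))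
noncomputable def nd1268 (i : Nat) : Nat := (Bool.rec (motive := fun _ => Nat) ((Bool.rec (motive := fun _ => Nat) (nl2625 i) (nd1269 i) (Nat.ble 1451008 i))) ((Bool.rec (motive := fun _ => Nat) (nl2628 i) (nd1270 i) (Nat.ble 1454080 i))) (Nat.ble 1453056 i))
noncomputable def nd1272 (i : Nat) : Nat := (Bool.rec (motive := fun _ => Nat) (nl2632 i) (nl2633 i) (Nat.ble 1458176 i))
noncomputable def nd1273 (i : Nat) : Nat := (Bool.rec (motive := fun _ => Nat) (nl2634 i) (nl2635 i) (Nat.ble 1460224 i))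
noncomputable def nd1274 (i : Nat) : Nat := (Bool.rec (motive := fun _ => Nat) (nl2636 i) (nl2637 i) (Nat.ble 1462272 i))
noncomputable def nd1271 (i : Nat) : Nat := (Bool.rec (motive := fun _ => Nat) ((Bool.rec (motive := fun _ => Nat) (nl2631 i) (nd1272 i) (Nat.ble 1457152 i))) ((Bool.rec (motive := fun _ => Nat) (nd1273 i) (nd1274 i) (Nat.ble 1461248 i))) (Nat.ble 1459200 i))
noncomputable def nd1276 (i : Nat) : Nat := (Bool.rec (motive := fun _ => Nat) (nl2639 i) (nl2640 i) (Nat.ble 1465344 i))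
noncomputable def nd1277 (i : Nat) : Nat := (Bool.rec (motive := fun _ => Nat) (nl2642 i) (nl2643 i) (Nat.ble 1468416 i))
noncomputable def nd1275 (i : Nat) : Nat := (Bool.rec (motive := fun _ => Nat) ((Bool.rec (motive := fun _ => Nat) (nl2638 i) (nd1276 i) (Nat.ble 1464320 i))) ((Bool.rec (motive := fun _ => Nat) (nl2641 i) (nd1277 i) (Nat.ble 1467392 i))) (Nat.ble 1466368 i))
noncomputable def nd1279 (i : Nat) : Nat := (Bool.rec (motive := fun _ => Nat) (nl2645 i) (nl2646 i) (Nat.ble 1471488 i))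
noncomputable def nd1280 (i : Nat) : Nat := (Bool.rec (motive := fun _ => Nat) (nl2647 i) (nl2648 i) (Nat.ble 1473536 i))
noncomputable def nd1281 (i : Nat) : Nat := (Bool.rec (motive := fun _ => Nat) (nl2649 i) (nl2650 i) (Nat.ble 1475584 i))
noncomputable def nd1278 (i : Nat) : Nat := (Bool.rec (motive := fun _ => Nat) ((Bool.rec (motive := fun _ => Nat) (nl2644 i) (nd1279 i) (Nat.ble 1470464 i))) ((Bool.rec (motive := fun _ => Nat) (nd1280 i) (nd1281 i) (Nat.ble 1474560 i))) (Nat.ble 1472512 i))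
noncomputable def nd1267 (i : Nat) : Nat := (Bool.rec (motive := fun _ => Nat) ((Bool.rec (motive := fun _ => Nat) (nd1268 i) (nd1271 i) (Nat.ble 1456128 i))) ((Bool.rec (motive := fun _ => Nat) (nd1275 i) (nd1278 i) (Nat.ble 1469440 i))) (Nat.ble 1463296 i))
noncomputable def nd1284 (i : Nat) : Nat := (Bool.rec (motive := fun _ => Nat) (nl2652 i) (nl2653 i) (Nat.ble 1478656 i))
noncomputable def nd1285 (i : Nat) : Nat := (Bool.rec (motive := fun _ => Nat) (nl2655 i) (nl2656 i) (Nat.ble 1481728 i))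
noncomputable def nd1283 (i : Nat) : Nat := (Bool.rec (motive := fun _ => Nat) ((Bool.rec (motive := fun _ => Nat) (nl2651 i) (nd1284 i) (Nat.ble 1477632 i))) ((Bool.rec (motive := fun _ => Nat) (nl2654 i) (nd1285 i) (Nat.ble 1480704 i))) (Nat.ble 1479680 i))
noncomputable def nd1287 (i : Nat) : Nat := (Bool.rec (motive := fun _ => Nat) (nl2658 i) (nl2659 i) (Nat.ble 1484800 i))
noncomputable def nd1288 (i : Nat) : Nat := (Bool.rec (motive := fun _ => Nat) (nl2660 i) (nl2661 i) (Nat.ble 1486848 i))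
noncomputable def nd1289 (i : Nat) : Nat := (Bool.rec (motive := fun _ => Nat) (nl2662 i) (nl2663 i) (Nat.ble 1488896 i))
noncomputable def nd1286 (i : Nat) : Nat := (Bool.rec (motive := fun _ => Nat) ((Bool.rec (motive := fun _ => Nat) (nl2657 i) (nd1287 i) (Nat.ble 1483776 i))) ((Bool.rec (motive := fun _ => Nat) (nd1288 i) (nd1289 i) (Nat.ble 1487872 i))) (Nat.ble 1485824 i))
noncomputable def nd1291 (i : Nat) : Nat := (Bool.rec (motive := fun _ => Nat) (nl2665 i) (nl2666 i) (Nat.ble 1491968 i))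
noncomputable def nd1292 (i : Nat) : Nat := (Bool.rec (motive := fun _ => Nat) (nl2667 i) (nl2668 i) (Nat.ble 1494016 i))
noncomputable def nd1293 (i : Nat) : Nat := (Bool.rec (motive := fun _ => Nat) (nl2669 i) (nl2670 i) (Nat.ble 1496064 i))
noncomputable def nd1290 (i : Nat) : Nat := (Bool.rec (motive := fun _ => Nat) ((Bool.rec (motive := fun _ => Nat) (nl2664 i) (nd1291 i) (Nat.ble 1490944 i))) ((Bool.rec (motive := fun _ => Nat) (nd1292 i) (nd1293 i) (Nat.ble 1495040 i))) (Nat.ble 1492992 i))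
noncomputable def nd1295 (i : Nat) : Nat := (Bool.rec (motive := fun _ => Nat) (nl2672 i) (nl2673 i) (Nat.ble 1499136 i))
noncomputable def nd1296 (i : Nat) : Nat := (Bool.rec (motive := fun _ => Nat) (nl2674 i) (nl2675 i) (Nat.ble 1501184 i))
noncomputable def nd1297 (i : Nat) : Nat := (Bool.rec (motive := fun _ => Nat) (nl2676 i) (nl2677 i) (Nat.ble 1503232 i))
noncomputable def nd1294 (i : Nat) : Nat := (Bool.rec (motive := fun _ => Nat) ((Bool.rec (motive := fun _ => Nat) (nl2671 i) (nd1295 i) (Nat.ble 1498112 i))) ((Bool.rec (motive := fun _ => Nat) (nd1296 i) (nd1297 i) (Nat.ble 1502208 i))) (Nat.ble 1500160 i))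
noncomputable def nd1282 (i : Nat) : Nat := (Bool.rec (motive := fun _ => Nat) ((Bool.rec (motive := fun _ => Nat) (nd1283 i) (nd1286 i) (Nat.ble 1482752 i))) ((Bool.rec (motive := fun _ => Nat) (nd1290 i) (nd1294 i) (Nat.ble 1497088 i))) (Nat.ble 1489920 i))
noncomputable def nd1236 (i : Nat) : Nat := (Bool.rec (motive := fun _ => Nat) ((Bool.rec (motive := fun _ => Nat) (nd1237 i) (nd1252 i) (Nat.ble 1423360 i))) ((Bool.rec (motive := fun _ => Nat) (nd1267 i) (nd1282 i) (Nat.ble 1476608 i))) (Nat.ble 1449984 i))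
noncomputable def nd1301 (i : Nat) : Nat := (Bool.rec (motive := fun _ => Nat) (nl2679 i) (nl2680 i) (Nat.ble 1506304 i))
noncomputable def nd1302 (i : Nat) : Nat := (Bool.rec (motive := fun _ => Nat) (nl2682 i) (nl2683 i) (Nat.ble 1509376 i))
noncomputable def nd1300 (i : Nat) : Nat := (Bool.rec (motive := fun _ => Nat) ((Bool.rec (motive := fun _ => Nat) (nl2678 i) (nd1301 i) (Nat.ble 1505280 i))) ((Bool.rec (motive := fun _ => Nat) (nl2681 i) (nd1302 i) (Nat.ble 1508352 i))) (Nat.ble 1507328 i))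
noncomputable def nd1304 (i : Nat) : Nat := (Bool.rec (motive := fun _ => Nat) (nl2685 i) (nl2686 i) (Nat.ble 1512448 i))
noncomputable def nd1305 (i : Nat) : Nat := (Bool.rec (motive := fun _ => Nat) (nl2687 i) (nl2688 i) (Nat.ble 1514496 i))
noncomputable def nd1306 (i : Nat) : Nat := (Bool.rec (motive := fun _ => Nat) (nl2689 i) (nl2690 i) (Nat.ble 1516544 i))
noncomputable def nd1303 (i : Nat) : Nat := (Bool.rec (motive := fun _ => Nat) ((Bool.rec (motive := fun _ => Nat) (nl2684 i) (nd1304 i) (Nat.ble 1511424 i))) ((Bool.rec (motive := fun _ => Nat) (nd1305 i) (nd1306 i) (Nat.ble 1515520 i))) (Nat.ble 1513472 i))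
noncomputable def nd1308 (i : Nat) : Nat := (Bool.rec (motive := fun _ => Nat) (nl2692 i) (nl2693 i) (Nat.ble 1519616 i))
noncomputable def nd1309 (i : Nat) : Nat := (Bool.rec (motive := fun _ => Nat) (nl2695 i) (nl2696 i) (Nat.ble 1522688 i))
noncomputable def nd1307 (i : Nat) : Nat := (Bool.rec (motive := fun _ => Nat) ((Bool.rec (motive := fun _ => Nat) (nl2691 i) (nd1308 i) (Nat.ble 1518592 i))) ((Bool.rec (motive := fun _ => Nat) (nl2694 i) (nd1309 i) (Nat.ble 1521664 i))) (Nat.ble 1520640 i))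
noncomputable def nd1311 (i : Nat) : Nat := (Bool.rec (motive := fun _ => Nat) (nl2698 i) (nl2699 i) (Nat.ble 1525760 i))
noncomputable def nd1312 (i : Nat) : Nat := (Bool.rec (motive := fun _ => Nat) (nl2700 i) (nl2701 i) (Nat.ble 1527808 i))
noncomputable def nd1313 (i : Nat) : Nat := (Bool.rec (motive := fun _ => Nat) (nl2702 i) (nl2703 i) (Nat.ble 1529856 i))
noncomputable def nd1310 (i : Nat) : Nat := (Bool.rec (motive := fun _ => Nat) ((Bool.rec (motive := fun _ => Nat) (nl2697 i) (nd1311 i) (Nat.ble 1524736 i))) ((Bool.rec (motive := fun _ => Nat) (nd1312 i) (nd1313 i) (Nat.ble 1528832 i))) (Nat.ble 1526784 i))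
noncomputable def nd1299 (i : Nat) : Nat := (Bool.rec (motive := fun _ => Nat) ((Bool.rec (motive := fun _ => Nat) (nd1300 i) (nd1303 i) (Nat.ble 1510400 i))) ((Bool.rec (motive := fun _ => Nat) (nd1307 i) (nd1310 i) (Nat.ble 1523712 i))) (Nat.ble 1517568 i))
noncomputable def nd1316 (i : Nat) : Nat := (Bool.rec (motive := fun _ => Nat) (nl2705 i) (nl2706 i) (Nat.ble 1532928 i))
noncomputable def nd1317 (i : Nat) : Nat := (Bool.rec (motive := fun _ => Nat) (nl2708 i) (nl2709 i) (Nat.ble 1536000 i))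
noncomputable def nd1315 (i : Nat) : Nat := (Bool.rec (motive := fun _ => Nat) ((Bool.rec (motive := fun _ => Nat) (nl2704 i) (nd1316 i) (Nat.ble 1531904 i))) ((Bool.rec (motive := fun _ => Nat) (nl2707 i) (nd1317 i) (Nat.ble 1534976 i))) (Nat.ble 1533952 i))
noncomputable def nd1319 (i : Nat) : Nat := (Bool.rec (motive := fun _ => Nat) (nl2711 i) (nl2712 i) (Nat.ble 1539072 i))
noncomputable def nd1320 (i : Nat) : Nat := (Bool.rec (motive := fun _ => Nat) (nl2713 i) (nl2714 i) (Nat.ble 1541120 i))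
noncomputable def nd1321 (i : Nat) : Nat := (Bool.rec (motive := fun _ => Nat) (nl2715 i) (nl2716 i) (Nat.ble 1543168 i))
noncomputable def nd1318 (i : Nat) : Nat := (Bool.rec (motive := fun _ => Nat) ((Bool.rec (motive := fun _ => Nat) (nl2710 i) (nd1319 i) (Nat.ble 1538048 i))) ((Bool.rec (motive := fun _ => Nat) (nd1320 i) (nd1321 i) (Nat.ble 1542144 i))) (Nat.ble 1540096 i))
noncomputable def nd1323 (i : Nat) : Nat := (Bool.rec (motive := fun _ => Nat) (nl2718 i) (nl2719 i) (Nat.ble 1546240 i))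
noncomputable def nd1324 (i : Nat) : Nat := (Bool.rec (motive := fun _ => Nat) (nl2721 i) (nl2722 i) (Nat.ble 1549312 i))
noncomputable def nd1322 (i : Nat) : Nat := (Bool.rec (motive := fun _ => Nat) ((Bool.rec (motive := fun _ => Nat) (nl2717 i) (nd1323 i) (Nat.ble 1545216 i))) ((Bool.rec (motive := fun _ => Nat) (nl2720 i) (nd1324 i) (Nat.ble 1548288 i))) (Nat.ble 1547264 i))
noncomputable def nd1326 (i : Nat) : Nat := (Bool.rec (motive := fun _ => Nat) (nl2724 i) (nl2725 i) (Nat.ble 1552384 i))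
noncomputable def nd1327 (i : Nat) : Nat := (Bool.rec (motive := fun _ => Nat) (nl2726 i) (nl2727 i) (Nat.ble 1554432 i))
noncomputable def nd1328 (i : Nat) : Nat := (Bool.rec (motive := fun _ => Nat) (nl2728 i) (nl2729 i) (Nat.ble 1556480 i))
noncomputable def nd1325 (i : Nat) : Nat := (Bool.rec (motive := fun _ => Nat) ((Bool.rec (motive := fun _ => Nat) (nl2723 i) (nd1326 i) (Nat.ble 1551360 i))) ((Bool.rec (motive := fun _ => Nat) (nd1327 i) (nd1328 i) (Nat.ble 1555456 i))) (Nat.ble 1553408 i))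
noncomputable def nd1314 (i : Nat) : Nat := (Bool.rec (motive := fun _ => Nat) ((Bool.rec (motive := fun _ => Nat) (nd1315 i) (nd1318 i) (Nat.ble 1537024 i))) ((Bool.rec (motive := fun _ => Nat) (nd1322 i) (nd1325 i) (Nat.ble 1550336 i))) (Nat.ble 1544192 i))
noncomputable def nd1331 (i : Nat) : Nat := (Bool.rec (motive := fun _ => Nat) (nl2731 i) (nl2732 i) (Nat.ble 1559552 i))
noncomputable def nd1332 (i : Nat) : Nat := (Bool.rec (motive := fun _ => Nat) (nl2734 i) (nl2735 i) (Nat.ble 1562624 i))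
noncomputable def nd1330 (i : Nat) : Nat := (Bool.rec (motive := fun _ => Nat) ((Bool.rec (motive := fun _ => Nat) (nl2730 i) (nd1331 i) (Nat.ble 1558528 i))) ((Bool.rec (motive := fun _ => Nat) (nl2733 i) (nd1332 i) (Nat.ble 1561600 i))) (Nat.ble 1560576 i))
noncomputable def nd1334 (i : Nat) : Nat := (Bool.rec (motive := fun _ => Nat) (nl2737 i) (nl2738 i) (Nat.ble 1565696 i))
noncomputable def nd1335 (i : Nat) : Nat := (Bool.rec (motive := fun _ => Nat) (nl2739 i) (nl2740 i) (Nat.ble 1567744 i))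
noncomputable def nd1336 (i : Nat) : Nat := (Bool.rec (motive := fun _ => Nat) (nl2741 i) (nl2742 i) (Nat.ble 1569792 i))
noncomputable def nd1333 (i : Nat) : Nat := (Bool.rec (motive := fun _ => Nat) ((Bool.rec (motive := fun _ => Nat) (nl2736 i) (nd1334 i) (Nat.ble 1564672 i))) ((Bool.rec (motive := fun _ => Nat) (nd1335 i) (nd1336 i) (Nat.ble 1568768 i))) (Nat.ble 1566720 i))
noncomputable def nd1338 (i : Nat) : Nat := (Bool.rec (motive := fun _ => Nat) (nl2744 i) (nl2745 i) (Nat.ble 1572864 i))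
noncomputable def nd1339 (i : Nat) : Nat := (Bool.rec (motive := fun _ => Nat) (nl2747 i) (nl2748 i) (Nat.ble 1575936 i))
noncomputable def nd1337 (i : Nat) : Nat := (Bool.rec (motive := fun _ => Nat) ((Bool.rec (motive := fun _ => Nat) (nl2743 i) (nd1338 i) (Nat.ble 1571840 i))) ((Bool.rec (motive := fun _ => Nat) (nl2746 i) (nd1339 i) (Nat.ble 1574912 i))) (Nat.ble 1573888 i))
noncomputable def nd1341 (i : Nat) : Nat := (Bool.rec (motive := fun _ => Nat) (nl2750 i) (nl2751 i) (Nat.ble 1579008 i))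
noncomputable def nd1342 (i : Nat) : Nat := (Bool.rec (motive := fun _ => Nat) (nl2752 i) (nl2753 i) (Nat.ble 1581056 i))
noncomputable def nd1343 (i : Nat) : Nat := (Bool.rec (motive := fun _ => Nat) (nl2754 i) (nl2755 i) (Nat.ble 1583104 i))
noncomputable def nd1340 (i : Nat) : Nat := (Bool.rec (motive := fun _ => Nat) ((Bool.rec (motive := fun _ => Nat) (nl2749 i) (nd1341 i) (Nat.ble 1577984 i))) ((Bool.rec (motive := fun _ => Nat) (nd1342 i) (nd1343 i) (Nat.ble 1582080 i))) (Nat.ble 1580032 i))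
noncomputable def nd1329 (i : Nat) : Nat := (Bool.rec (motive := fun _ => Nat) ((Bool.rec (motive := fun _ => Nat) (nd1330 i) (nd1333 i) (Nat.ble 1563648 i))) ((Bool.rec (motive := fun _ => Nat) (nd1337 i) (nd1340 i) (Nat.ble 1576960 i))) (Nat.ble 1570816 i))
noncomputable def nd1346 (i : Nat) : Nat := (Bool.rec (motive := fun _ => Nat) (nl2757 i) (nl2758 i) (Nat.ble 1586176 i))
noncomputable def nd1347 (i : Nat) : Nat := (Bool.rec (motive := fun _ => Nat) (nl2760 i) (nl2761 i) (Nat.ble 1589248 i))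
noncomputable def nd1345 (i : Nat) : Nat := (Bool.rec (motive := fun _ => Nat) ((Bool.rec (motive := fun _ => Nat) (nl2756 i) (nd1346 i) (Nat.ble 1585152 i))) ((Bool.rec (motive := fun _ => Nat) (nl2759 i) (nd1347 i) (Nat.ble 1588224 i))) (Nat.ble 1587200 i))
noncomputable def nd1349 (i : Nat) : Nat := (Bool.rec (motive := fun _ => Nat) (nl2763 i) (nl2764 i) (Nat.ble 1592320 i))
noncomputable def nd1350 (i : Nat) : Nat := (Bool.rec (motive := fun _ => Nat) (nl2765 i) (nl2766 i) (Nat.ble 1594368 i))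
noncomputable def nd1351 (i : Nat) : Nat := (Bool.rec (motive := fun _ => Nat) (nl2767 i) (nl2768 i) (Nat.ble 1596416 i))
noncomputable def nd1348 (i : Nat) : Nat := (Bool.rec (motive := fun _ => Nat) ((Bool.rec (motive := fun _ => Nat) (nl2762 i) (nd1349 i) (Nat.ble 1591296 i))) ((Bool.rec (motive := fun _ => Nat) (nd1350 i) (nd1351 i) (Nat.ble 1595392 i))) (Nat.ble 1593344 i))
noncomputable def nd1353 (i : Nat) : Nat := (Bool.rec (motive := fun _ => Nat) (nl2770 i) (nl2771 i) (Nat.ble 1599488 i))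
noncomputable def nd1354 (i : Nat) : Nat := (Bool.rec (motive := fun _ => Nat) (nl2772 i) (nl2773 i) (Nat.ble 1601536 i))
noncomputable def nd1355 (i : Nat) : Nat := (Bool.rec (motive := fun _ => Nat) (nl2774 i) (nl2775 i) (Nat.ble 1603584 i))
noncomputable def nd1352 (i : Nat) : Nat := (Bool.rec (motive := fun _ => Nat) ((Bool.rec (motive := fun _ => Nat) (nl2769 i) (nd1353 i) (Nat.ble 1598464 i))) ((Bool.rec (motive := fun _ => Nat) (nd1354 i) (nd1355 i) (Nat.ble 1602560 i))) (Nat.ble 1600512 i))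
noncomputable def nd1357 (i : Nat) : Nat := (Bool.rec (motive := fun _ => Nat) (nl2777 i) (nl2778 i) (Nat.ble 1606656 i))
noncomputable def nd1358 (i : Nat) : Nat := (Bool.rec (motive := fun _ => Nat) (nl2779 i) (nl2780 i) (Nat.ble 1608704 i))
noncomputable def nd1359 (i : Nat) : Nat := (Bool.rec (motive := fun _ => Nat) (nl2781 i) (nl2782 i) (Nat.ble 1610752 i))
noncomputable def nd1356 (i : Nat) : Nat := (Bool.rec (motive := fun _ => Nat) ((Bool.rec (motive := fun _ => Nat) (nl2776 i) (nd1357 i) (Nat.ble 1605632 i))) ((Bool.rec (motive := fun _ => Nat) (nd1358 i) (nd1359 i) (Nat.ble 1609728 i))) (Nat.ble 1607680 i))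
noncomputable def nd1344 (i : Nat) : Nat := (Bool.rec (motive := fun _ => Nat) ((Bool.rec (motive := fun _ => Nat) (nd1345 i) (nd1348 i) (Nat.ble 1590272 i))) ((Bool.rec (motive := fun _ => Nat) (nd1352 i) (nd1356 i) (Nat.ble 1604608 i))) (Nat.ble 1597440 i))
noncomputable def nd1298 (i : Nat) : Nat := (Bool.rec (motive := fun _ => Nat) ((Bool.rec (motive := fun _ => Nat) (nd1299 i) (nd1314 i) (Nat.ble 1530880 i))) ((Bool.rec (motive := fun _ => Nat) (nd1329 i) (nd1344 i) (Nat.ble 1584128 i))) (Nat.ble 1557504 i))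
noncomputable def nd1363 (i : Nat) : Nat := (Bool.rec (motive := fun _ => Nat) (nl2784 i) (nl2785 i) (Nat.ble 1613824 i))
noncomputable def nd1364 (i : Nat) : Nat := (Bool.rec (motive := fun _ => Nat) (nl2787 i) (nl2788 i) (Nat.ble 1616896 i))
noncomputable def nd1362 (i : Nat) : Nat := (Bool.rec (motive := fun _ => Nat) ((Bool.rec (motive := fun _ => Nat) (nl2783 i) (nd1363 i) (Nat.ble 1612800 i))) ((Bool.rec (motive := fun _ => Nat) (nl2786 i) (nd1364 i) (Nat.ble 1615872 i))) (Nat.ble 1614848 i))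
noncomputable def nd1366 (i : Nat) : Nat := (Bool.rec (motive := fun _ => Nat) (nl2790 i) (nl2791 i) (Nat.ble 1619968 i))
noncomputable def nd1367 (i : Nat) : Nat := (Bool.rec (motive := fun _ => Nat) (nl2792 i) (nl2793 i) (Nat.ble 1622016 i))
noncomputable def nd1368 (i : Nat) : Nat := (Bool.rec (motive := fun _ => Nat) (nl2794 i) (nl2795 i) (Nat.ble 1624064 i))
noncomputable def nd1365 (i : Nat) : Nat := (Bool.rec (motive := fun _ => Nat) ((Bool.rec (motive := fun _ => Nat) (nl2789 i) (nd1366 i) (Nat.ble 1618944 i))) ((Bool.rec (motive := fun _ => Nat) (nd1367 i) (nd1368 i) (Nat.ble 1623040 i))) (Nat.ble 1620992 i))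
noncomputable def nd1370 (i : Nat) : Nat := (Bool.rec (motive := fun _ => Nat) (nl2797 i) (nl2798 i) (Nat.ble 1627136 i))
noncomputable def nd1371 (i : Nat) : Nat := (Bool.rec (motive := fun _ => Nat) (nl2800 i) (nl2801 i) (Nat.ble 1630208 i))
noncomputable def nd1369 (i : Nat) : Nat := (Bool.rec (motive := fun _ => Nat) ((Bool.rec (motive := fun _ => Nat) (nl2796 i) (nd1370 i) (Nat.ble 1626112 i))) ((Bool.rec (motive := fun _ => Nat) (nl2799 i) (nd1371 i) (Nat.ble 1629184 i))) (Nat.ble 1628160 i))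
noncomputable def nd1373 (i : Nat) : Nat := (Bool.rec (motive := fun _ => Nat) (nl2803 i) (nl2804 i) (Nat.ble 1633280 i))
noncomputable def nd1374 (i : Nat) : Nat := (Bool.rec (motive := fun _ => Nat) (nl2805 i) (nl2806 i) (Nat.ble 1635328 i))
noncomputable def nd1375 (i : Nat) : Nat := (Bool.rec (motive := fun _ => Nat) (nl2807 i) (nl2808 i) (Nat.ble 1637376 i))
noncomputable def nd1372 (i : Nat) : Nat := (Bool.rec (motive := fun _ => Nat) ((Bool.rec (motive := fun _ => Nat) (nl2802 i) (nd1373 i) (Nat.ble 1632256 i))) ((Bool.rec (motive := fun _ => Nat) (nd1374 i) (nd1375 i) (Nat.ble 1636352 i))) (Nat.ble 1634304 i))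
noncomputable def nd1361 (i : Nat) : Nat := (Bool.rec (motive := fun _ => Nat) ((Bool.rec (motive := fun _ => Nat) (nd1362 i) (nd1365 i) (Nat.ble 1617920 i))) ((Bool.rec (motive := fun _ => Nat) (nd1369 i) (nd1372 i) (Nat.ble 1631232 i))) (Nat.ble 1625088 i))
noncomputable def nd1378 (i : Nat) : Nat := (Bool.rec (motive := fun _ => Nat) (nl2810 i) (nl2811 i) (Nat.ble 1640448 i))
noncomputable def nd1379 (i : Nat) : Nat := (Bool.rec (motive := fun _ => Nat) (nl2813 i) (nl2814 i) (Nat.ble 1643520 i))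
noncomputable def nd1377 (i : Nat) : Nat := (Bool.rec (motive := fun _ => Nat) ((Bool.rec (motive := fun _ => Nat) (nl2809 i) (nd1378 i) (Nat.ble 1639424 i))) ((Bool.rec (motive := fun _ => Nat) (nl2812 i) (nd1379 i) (Nat.ble 1642496 i))) (Nat.ble 1641472 i))
noncomputable def nd1381 (i : Nat) : Nat := (Bool.rec (motive := fun _ => Nat) (nl2816 i) (nl2817 i) (Nat.ble 1646592 i))
noncomputable def nd1382 (i : Nat) : Nat := (Bool.rec (motive := fun _ => Nat) (nl2818 i) (nl2819 i) (Nat.ble 1648640 i))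
noncomputable def nd1383 (i : Nat) : Nat := (Bool.rec (motive := fun _ => Nat) (nl2820 i) (nl2821 i) (Nat.ble 1650688 i))
noncomputable def nd1380 (i : Nat) : Nat := (Bool.rec (motive := fun _ => Nat) ((Bool.rec (motive := fun _ => Nat) (nl2815 i) (nd1381 i) (Nat.ble 1645568 i))) ((Bool.rec (motive := fun _ => Nat) (nd1382 i) (nd1383 i) (Nat.ble 1649664 i))) (Nat.ble 1647616 i))
noncomputable def nd1385 (i : Nat) : Nat := (Bool.rec (motive := fun _ => Nat) (nl2823 i) (nl2824 i) (Nat.ble 1653760 i))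
noncomputable def nd1386 (i : Nat) : Nat := (Bool.rec (motive := fun _ => Nat) (nl2826 i) (nl2827 i) (Nat.ble 1656832 i))
noncomputable def nd1384 (i : Nat) : Nat := (Bool.rec (motive := fun _ => Nat) ((Bool.rec (motive := fun _ => Nat) (nl2822 i) (nd1385 i) (Nat.ble 1652736 i))) ((Bool.rec (motive := fun _ => Nat) (nl2825 i) (nd1386 i) (Nat.ble 1655808 i))) (Nat.ble 1654784 i))
noncomputable def nd1388 (i : Nat) : Nat := (Bool.rec (motive := fun _ => Nat) (nl2829 i) (nl2830 i) (Nat.ble 1659904 i))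
noncomputable def nd1389 (i : Nat) : Nat := (Bool.rec (motive := fun _ => Nat) (nl2831 i) (nl2832 i) (Nat.ble 1661952 i))
noncomputable def nd1390 (i : Nat) : Nat := (Bool.rec (motive := fun _ => Nat) (nl2833 i) (nl2834 i) (Nat.ble 1664000 i))
noncomputable def nd1387 (i : Nat) : Nat := (Bool.rec (motive := fun _ => Nat) ((Bool.rec (motive := fun _ => Nat) (nl2828 i) (nd1388 i) (Nat.ble 1658880 i))) ((Bool.rec (motive := fun _ => Nat) (nd1389 i) (nd1390 i) (Nat.ble 1662976 i))) (Nat.ble 1660928 i))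
noncomputable def nd1376 (i : Nat) : Nat := (Bool.rec (motive := fun _ => Nat) ((Bool.rec (motive := fun _ => Nat) (nd1377 i) (nd1380 i) (Nat.ble 1644544 i))) ((Bool.rec (motive := fun _ => Nat) (nd1384 i) (nd1387 i) (Nat.ble 1657856 i))) (Nat.ble 1651712 i))
noncomputable def nd1393 (i : Nat) : Nat := (Bool.rec (motive := fun _ => Nat) (nl2836 i) (nl2837 i) (Nat.ble 1667072 i))
noncomputable def nd1394 (i : Nat) : Nat := (Bool.rec (motive := fun _ => Nat) (nl2839 i) (nl2840 i) (Nat.ble 1670144 i))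
noncomputable def nd1392 (i : Nat) : Nat := (Bool.rec (motive := fun _ => Nat) ((Bool.rec (motive := fun _ => Nat) (nl2835 i) (nd1393 i) (Nat.ble 1666048 i))) ((Bool.rec (motive := fun _ => Nat) (nl2838 i) (nd1394 i) (Nat.ble 1669120 i))) (Nat.ble 1668096 i))
noncomputable def nd1396 (i : Nat) : Nat := (Bool.rec (motive := fun _ => Nat) (nl2842 i) (nl2843 i) (Nat.ble 1673216 i))
noncomputable def nd1397 (i : Nat) : Nat := (Bool.rec (motive := fun _ => Nat) (nl2844 i) (nl2845 i) (Nat.ble 1675264 i))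
noncomputable def nd1398 (i : Nat) : Nat := (Bool.rec (motive := fun _ => Nat) (nl2846 i) (nl2847 i) (Nat.ble 1677312 i))
noncomputable def nd1395 (i : Nat) : Nat := (Bool.rec (motive := fun _ => Nat) ((Bool.rec (motive := fun _ => Nat) (nl2841 i) (nd1396 i) (Nat.ble 1672192 i))) ((Bool.rec (motive := fun _ => Nat) (nd1397 i) (nd1398 i) (Nat.ble 1676288 i))) (Nat.ble 1674240 i))
noncomputable def nd1400 (i : Nat) : Nat := (Bool.rec (motive := fun _ => Nat) (nl2849 i) (nl2850 i) (Nat.ble 1680384 i))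
noncomputable def nd1401 (i : Nat) : Nat := (Bool.rec (motive := fun _ => Nat) (nl2852 i) (nl2853 i) (Nat.ble 1683456 i))
noncomputable def nd1399 (i : Nat) : Nat := (Bool.rec (motive := fun _ => Nat) ((Bool.rec (motive := fun _ => Nat) (nl2848 i) (nd1400 i) (Nat.ble 1679360 i))) ((Bool.rec (motive := fun _ => Nat) (nl2851 i) (nd1401 i) (Nat.ble 1682432 i))) (Nat.ble 1681408 i))
noncomputable def nd1403 (i : Nat) : Nat := (Bool.rec (motive := fun _ => Nat) (nl2855 i) (nl2856 i) (Nat.ble 1686528 i))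
noncomputable def nd1404 (i : Nat) : Nat := (Bool.rec (motive := fun _ => Nat) (nl2857 i) (nl2858 i) (Nat.ble 1688576 i))
noncomputable def nd1405 (i : Nat) : Nat := (Bool.rec (motive := fun _ => Nat) (nl2859 i) (nl2860 i) (Nat.ble 1690624 i))
noncomputable def nd1402 (i : Nat) : Nat := (Bool.rec (motive := fun _ => Nat) ((Bool.rec (motive := fun _ => Nat) (nl2854 i) (nd1403 i) (Nat.ble 1685504 i))) ((Bool.rec (motive := fun _ => Nat) (nd1404 i) (nd1405 i) (Nat.ble 1689600 i))) (Nat.ble 1687552 i))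
noncomputable def nd1391 (i : Nat) : Nat := (Bool.rec (motive := fun _ => Nat) ((Bool.rec (motive := fun _ => Nat) (nd1392 i) (nd1395 i) (Nat.ble 1671168 i))) ((Bool.rec (motive := fun _ => Nat) (nd1399 i) (nd1402 i) (Nat.ble 1684480 i))) (Nat.ble 1678336 i))
noncomputable def nd1408 (i : Nat) : Nat := (Bool.rec (motive := fun _ => Nat) (nl2862 i) (nl2863 i) (Nat.ble 1693696 i))
noncomputable def nd1409 (i : Nat) : Nat := (Bool.rec (motive := fun _ => Nat) (nl2865 i) (nl2866 i) (Nat.ble 1696768 i))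
noncomputable def nd1407 (i : Nat) : Nat := (Bool.rec (motive := fun _ => Nat) ((Bool.rec (motive := fun _ => Nat) (nl2861 i) (nd1408 i) (Nat.ble 1692672 i))) ((Bool.rec (motive := fun _ => Nat) (nl2864 i) (nd1409 i) (Nat.ble 1695744 i))) (Nat.ble 1694720 i))
noncomputable def nd1411 (i : Nat) : Nat := (Bool.rec (motive := fun _ => Nat) (nl2868 i) (nl2869 i) (Nat.ble 1699840 i))
noncomputable def nd1412 (i : Nat) : Nat := (Bool.rec (motive := fun _ => Nat) (nl2870 i) (nl2871 i) (Nat.ble 1701888 i))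
noncomputable def nd1413 (i : Nat) : Nat := (Bool.rec (motive := fun _ => Nat) (nl2872 i) (nl2873 i) (Nat.ble 1703936 i))
noncomputable def nd1410 (i : Nat) : Nat := (Bool.rec (motive := fun _ => Nat) ((Bool.rec (motive := fun _ => Nat) (nl2867 i) (nd1411 i) (Nat.ble 1698816 i))) ((Bool.rec (motive := fun _ => Nat) (nd1412 i) (nd1413 i) (Nat.ble 1702912 i))) (Nat.ble 1700864 i))
noncomputable def nd1415 (i : Nat) : Nat := (Bool.rec (motive := fun _ => Nat) (nl2875 i) (nl2876 i) (Nat.ble 1707008 i))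
noncomputable def nd1416 (i : Nat) : Nat := (Bool.rec (motive := fun _ => Nat) (nl2877 i) (nl2878 i) (Nat.ble 1709056 i))
noncomputable def nd1417 (i : Nat) : Nat := (Bool.rec (motive := fun _ => Nat) (nl2879 i) (nl2880 i) (Nat.ble 1711104 i))
noncomputable def nd1414 (i : Nat) : Nat := (Bool.rec (motive := fun _ => Nat) ((Bool.rec (motive := fun _ => Nat) (nl2874 i) (nd1415 i) (Nat.ble 1705984 i))) ((Bool.rec (motive := fun _ => Nat) (nd1416 i) (nd1417 i) (Nat.ble 1710080 i))) (Nat.ble 1708032 i))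
noncomputable def nd1419 (i : Nat) : Nat := (Bool.rec (motive := fun _ => Nat) (nl2882 i) (nl2883 i) (Nat.ble 1714176 i))
noncomputable def nd1420 (i : Nat) : Nat := (Bool.rec (motive := fun _ => Nat) (nl2884 i) (nl2885 i) (Nat.ble 1716224 i))
noncomputable def nd1421 (i : Nat) : Nat := (Bool.rec (motive := fun _ => Nat) (nl2886 i) (nl2887 i) (Nat.ble 1718272 i))
noncomputable def nd1418 (i : Nat) : Nat := (Bool.rec (motive := fun _ => Nat) ((Bool.rec (motive := fun _ => Nat) (nl2881 i) (nd1419 i) (Nat.ble 1713152 i))) ((Bool.rec (motive := fun _ => Nat) (nd1420 i) (nd1421 i) (Nat.ble 1717248 i))) (Nat.ble 1715200 i))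
noncomputable def nd1406 (i : Nat) : Nat := (Bool.rec (motive := fun _ => Nat) ((Bool.rec (motive := fun _ => Nat) (nd1407 i) (nd1410 i) (Nat.ble 1697792 i))) ((Bool.rec (motive := fun _ => Nat) (nd1414 i) (nd1418 i) (Nat.ble 1712128 i))) (Nat.ble 1704960 i))
noncomputable def nd1360 (i : Nat) : Nat := (Bool.rec (motive := fun _ => Nat) ((Bool.rec (motive := fun _ => Nat) (nd1361 i) (nd1376 i) (Nat.ble 1638400 i))) ((Bool.rec (motive := fun _ => Nat) (nd1391 i) (nd1406 i) (Nat.ble 1691648 i))) (Nat.ble 1665024 i))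
noncomputable def nd1173 (i : Nat) : Nat := (Bool.rec (motive := fun _ => Nat) ((Bool.rec (motive := fun _ => Nat) (nd1174 i) (nd1236 i) (Nat.ble 1396736 i))) ((Bool.rec (motive := fun _ => Nat) (nd1298 i) (nd1360 i) (Nat.ble 1611776 i))) (Nat.ble 1504256 i))
noncomputable def nd426 (i : Nat) : Nat := (Bool.rec (motive := fun _ => Nat) ((Bool.rec (motive := fun _ => Nat) (nd427 i) (nd675 i) (Nat.ble 429056 i))) ((Bool.rec (motive := fun _ => Nat) (nd924 i) (nd1173 i) (Nat.ble 1289216 i))) (Nat.ble 859136 i))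
noncomputable def nd1425 (i : Nat) : Nat := (Bool.rec (motive := fun _ => Nat) (nl2889 i) (nl2890 i) (Nat.ble 2048 i))
noncomputable def nd1426 (i : Nat) : Nat := (Bool.rec (motive := fun _ => Nat) (nl2891 i) (nl2892 i) (Nat.ble 4096 i))
noncomputable def nd1427 (i : Nat) : Nat := (Bool.rec (motive := fun _ => Nat) (nl2893 i) (nl2894 i) (Nat.ble 6144 i))
noncomputable def nd1424 (i : Nat) : Nat := (Bool.rec (motive := fun _ => Nat) ((Bool.rec (motive := fun _ => Nat) (nl2888 i) (nd1425 i) (Nat.ble 1024 i))) ((Bool.rec (motive := fun _ => Nat) (nd1426 i) (nd1427 i) (Nat.ble 5120 i))) (Nat.ble 3072 i))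
noncomputable def nd1429 (i : Nat) : Nat := (Bool.rec (motive := fun _ => Nat) (nl2895 i) (nl2896 i) (Nat.ble 8192 i))
noncomputable def nd1430 (i : Nat) : Nat := (Bool.rec (motive := fun _ => Nat) (nl2897 i) (nl2898 i) (Nat.ble 10240 i))
noncomputable def nd1431 (i : Nat) : Nat := (Bool.rec (motive := fun _ => Nat) (nl2899 i) (nl2900 i) (Nat.ble 12288 i))
noncomputable def nd1432 (i : Nat) : Nat := (Bool.rec (motive := fun _ => Nat) (nl2901 i) (nl2902 i) (Nat.ble 14336 i))
noncomputable def nd1428 (i : Nat) : Nat := (Bool.rec (motive := fun _ => Nat) ((Bool.rec (motive := fun _ => Nat) (nd1429 i) (nd1430 i) (Nat.ble 9216 i))) ((Bool.rec (motive := fun _ => Nat) (nd1431 i) (nd1432 i) (Nat.ble 13312 i))) (Nat.ble 11264 i))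
noncomputable def nd1434 (i : Nat) : Nat := (Bool.rec (motive := fun _ => Nat) (nl2904 i) (nl2905 i) (Nat.ble 17408 i))
noncomputable def nd1435 (i : Nat) : Nat := (Bool.rec (motive := fun _ => Nat) (nl2906 i) (nl2907 i) (Nat.ble 19456 i))
noncomputable def nd1436 (i : Nat) : Nat := (Bool.rec (motive := fun _ => Nat) (nl2908 i) (nl2909 i) (Nat.ble 21504 i))
noncomputable def nd1433 (i : Nat) : Nat := (Bool.rec (motive := fun _ => Nat) ((Bool.rec (motive := fun _ => Nat) (nl2903 i) (nd1434 i) (Nat.ble 16384 i))) ((Bool.rec (motive := fun _ => Nat) (nd1435 i) (nd1436 i) (Nat.ble 20480 i))) (Nat.ble 18432 i))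
noncomputable def nd1438 (i : Nat) : Nat := (Bool.rec (motive := fun _ => Nat) (nl2910 i) (nl2911 i) (Nat.ble 23552 i))
noncomputable def nd1439 (i : Nat) : Nat := (Bool.rec (motive := fun _ => Nat) (nl2912 i) (nl2913 i) (Nat.ble 25600 i))
noncomputable def nd1440 (i : Nat) : Nat := (Bool.rec (motive := fun _ => Nat) (nl2914 i) (nl2915 i) (Nat.ble 27648 i))
noncomputable def nd1441 (i : Nat) : Nat := (Bool.rec (motive := fun _ => Nat) (nl2916 i) (nl2917 i) (Nat.ble 29696 i))
noncomputable def nd1437 (i : Nat) : Nat := (Bool.rec (motive := fun _ => Nat) ((Bool.rec (motive := fun _ => Nat) (nd1438 i) (nd1439 i) (Nat.ble 24576 i))) ((Bool.rec (motive := fun _ => Nat) (nd1440 i) (nd1441 i) (Nat.ble 28672 i))) (Nat.ble 26624 i))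
noncomputable def nd1423 (i : Nat) : Nat := (Bool.rec (motive := fun _ => Nat) ((Bool.rec (motive := fun _ => Nat) (nd1424 i) (nd1428 i) (Nat.ble 7168 i))) ((Bool.rec (motive := fun _ => Nat) (nd1433 i) (nd1437 i) (Nat.ble 22528 i))) (Nat.ble 15360 i))
noncomputable def nd1444 (i : Nat) : Nat := (Bool.rec (motive := fun _ => Nat) (nl2919 i) (nl2920 i) (Nat.ble 32768 i))
noncomputable def nd1445 (i : Nat) : Nat := (Bool.rec (motive := fun _ => Nat) (nl2921 i) (nl2922 i) (Nat.ble 34816 i))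
noncomputable def nd1446 (i : Nat) : Nat := (Bool.rec (motive := fun _ => Nat) (nl2923 i) (nl2924 i) (Nat.ble 36864 i))
noncomputable def nd1443 (i : Nat) : Nat := (Bool.rec (motive := fun _ => Nat) ((Bool.rec (motive := fun _ => Nat) (nl2918 i) (nd1444 i) (Nat.ble 31744 i))) ((Bool.rec (motive := fun _ => Nat) (nd1445 i) (nd1446 i) (Nat.ble 35840 i))) (Nat.ble 33792 i))
noncomputable def nd1448 (i : Nat) : Nat := (Bool.rec (motive := fun _ => Nat) (nl2925 i) (nl2926 i) (Nat.ble 38912 i))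
noncomputable def nd1449 (i : Nat) : Nat := (Bool.rec (motive := fun _ => Nat) (nl2927 i) (nl2928 i) (Nat.ble 40960 i))
noncomputable def nd1450 (i : Nat) : Nat := (Bool.rec (motive := fun _ => Nat) (nl2929 i) (nl2930 i) (Nat.ble 43008 i))
noncomputable def nd1451 (i : Nat) : Nat := (Bool.rec (motive := fun _ => Nat) (nl2931 i) (nl2932 i) (Nat.ble 45056 i))
noncomputable def nd1447 (i : Nat) : Nat := (Bool.rec (motive := fun _ => Nat) ((Bool.rec (motive := fun _ => Nat) (nd1448 i) (nd1449 i) (Nat.ble 39936 i))) ((Bool.rec (motive := fun _ => Nat) (nd1450 i) (nd1451 i) (Nat.ble 44032 i))) (Nat.ble 41984 i))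
noncomputable def nd1453 (i : Nat) : Nat := (Bool.rec (motive := fun _ => Nat) (nl2934 i) (nl2935 i) (Nat.ble 48128 i))
noncomputable def nd1454 (i : Nat) : Nat := (Bool.rec (motive := fun _ => Nat) (nl2936 i) (nl2937 i) (Nat.ble 50176 i))
noncomputable def nd1455 (i : Nat) : Nat := (Bool.rec (motive := fun _ => Nat) (nl2938 i) (nl2939 i) (Nat.ble 52224 i))
noncomputable def nd1452 (i : Nat) : Nat := (Bool.rec (motive := fun _ => Nat) ((Bool.rec (motive := fun _ => Nat) (nl2933 i) (nd1453 i) (Nat.ble 47104 i))) ((Bool.rec (motive := fun _ => Nat) (nd1454 i) (nd1455 i) (Nat.ble 51200 i))) (Nat.ble 49152 i))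
noncomputable def nd1457 (i : Nat) : Nat := (Bool.rec (motive := fun _ => Nat) (nl2940 i) (nl2941 i) (Nat.ble 54272 i))
noncomputable def nd1458 (i : Nat) : Nat := (Bool.rec (motive := fun _ => Nat) (nl2942 i) (nl2943 i) (Nat.ble 56320 i))
noncomputable def nd1459 (i : Nat) : Nat := (Bool.rec (motive := fun _ => Nat) (nl2944 i) (nl2945 i) (Nat.ble 58368 i))
noncomputable def nd1460 (i : Nat) : Nat := (Bool.rec (motive := fun _ => Nat) (nl2946 i) (nl2947 i) (Nat.ble 60416 i))
noncomputable def nd1456 (i : Nat) : Nat := (Bool.rec (motive := fun _ => Nat) ((Bool.rec (motive := fun _ => Nat) (nd1457 i) (nd1458 i) (Nat.ble 55296 i))) ((Bool.rec (motive := fun _ => Nat) (nd1459 i) (nd1460 i) (Nat.ble 59392 i))) (Nat.ble 57344 i))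
noncomputable def nd1442 (i : Nat) : Nat := (Bool.rec (motive := fun _ => Nat) ((Bool.rec (motive := fun _ => Nat) (nd1443 i) (nd1447 i) (Nat.ble 37888 i))) ((Bool.rec (motive := fun _ => Nat) (nd1452 i) (nd1456 i) (Nat.ble 53248 i))) (Nat.ble 46080 i))
noncomputable def nd1463 (i : Nat) : Nat := (Bool.rec (motive := fun _ => Nat) (nl2949 i) (nl2950 i) (Nat.ble 63488 i))
noncomputable def nd1464 (i : Nat) : Nat := (Bool.rec (motive := fun _ => Nat) (nl2951 i) (nl2952 i) (Nat.ble 65536 i))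
noncomputable def nd1465 (i : Nat) : Nat := (Bool.rec (motive := fun _ => Nat) (nl2953 i) (nl2954 i) (Nat.ble 67584 i))
noncomputable def nd1462 (i : Nat) : Nat := (Bool.rec (motive := fun _ => Nat) ((Bool.rec (motive := fun _ => Nat) (nl2948 i) (nd1463 i) (Nat.ble 62464 i))) ((Bool.rec (motive := fun _ => Nat) (nd1464 i) (nd1465 i) (Nat.ble 66560 i))) (Nat.ble 64512 i))
noncomputable def nd1467 (i : Nat) : Nat := (Bool.rec (motive := fun _ => Nat) (nl2955 i) (nl2956 i) (Nat.ble 69632 i))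
noncomputable def nd1468 (i : Nat) : Nat := (Bool.rec (motive := fun _ => Nat) (nl2957 i) (nl2958 i) (Nat.ble 71680 i))
noncomputable def nd1469 (i : Nat) : Nat := (Bool.rec (motive := fun _ => Nat) (nl2959 i) (nl2960 i) (Nat.ble 73728 i))
noncomputable def nd1470 (i : Nat) : Nat := (Bool.rec (motive := fun _ => Nat) (nl2961 i) (nl2962 i) (Nat.ble 75776 i))
noncomputable def nd1466 (i : Nat) : Nat := (Bool.rec (motive := fun _ => Nat) ((Bool.rec (motive := fun _ => Nat) (nd1467 i) (nd1468 i) (Nat.ble 70656 i))) ((Bool.rec (motive := fun _ => Nat) (nd1469 i) (nd1470 i) (Nat.ble 74752 i))) (Nat.ble 72704 i))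
noncomputable def nd1472 (i : Nat) : Nat := (Bool.rec (motive := fun _ => Nat) (nl2964 i) (nl2965 i) (Nat.ble 78848 i))
noncomputable def nd1473 (i : Nat) : Nat := (Bool.rec (motive := fun _ => Nat) (nl2966 i) (nl2967 i) (Nat.ble 80896 i))
noncomputable def nd1474 (i : Nat) : Nat := (Bool.rec (motive := fun _ => Nat) (nl2968 i) (nl2969 i) (Nat.ble 82944 i))
noncomputable def nd1471 (i : Nat) : Nat := (Bool.rec (motive := fun _ => Nat) ((Bool.rec (motive := fun _ => Nat) (nl2963 i) (nd1472 i) (Nat.ble 77824 i))) ((Bool.rec (motive := fun _ => Nat) (nd1473 i) (nd1474 i) (Nat.ble 81920 i))) (Nat.ble 79872 i))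
noncomputable def nd1476 (i : Nat) : Nat := (Bool.rec (motive := fun _ => Nat) (nl2970 i) (nl2971 i) (Nat.ble 84992 i))
noncomputable def nd1477 (i : Nat) : Nat := (Bool.rec (motive := fun _ => Nat) (nl2972 i) (nl2973 i) (Nat.ble 87040 i))
noncomputable def nd1478 (i : Nat) : Nat := (Bool.rec (motive := fun _ => Nat) (nl2974 i) (nl2975 i) (Nat.ble 89088 i))
noncomputable def nd1479 (i : Nat) : Nat := (Bool.rec (motive := fun _ => Nat) (nl2976 i) (nl2977 i) (Nat.ble 91136 i))
noncomputable def nd1475 (i : Nat) : Nat := (Bool.rec (motive := fun _ => Nat) ((Bool.rec (motive := fun _ => Nat) (nd1476 i) (nd1477 i) (Nat.ble 86016 i))) ((Bool.rec (motive := fun _ => Nat) (nd1478 i) (nd1479 i) (Nat.ble 90112 i))) (Nat.ble 88064 i))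
noncomputable def nd1461 (i : Nat) : Nat := (Bool.rec (motive := fun _ => Nat) ((Bool.rec (motive := fun _ => Nat) (nd1462 i) (nd1466 i) (Nat.ble 68608 i))) ((Bool.rec (motive := fun _ => Nat) (nd1471 i) (nd1475 i) (Nat.ble 83968 i))) (Nat.ble 76800 i))
noncomputable def nd1482 (i : Nat) : Nat := (Bool.rec (motive := fun _ => Nat) (nl2979 i) (nl2980 i) (Nat.ble 94208 i))
noncomputable def nd1483 (i : Nat) : Nat := (Bool.rec (motive := fun _ => Nat) (nl2981 i) (nl2982 i) (Nat.ble 96256 i))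
noncomputable def nd1484 (i : Nat) : Nat := (Bool.rec (motive := fun _ => Nat) (nl2983 i) (nl2984 i) (Nat.ble 98304 i))
noncomputable def nd1481 (i : Nat) : Nat := (Bool.rec (motive := fun _ => Nat) ((Bool.rec (motive := fun _ => Nat) (nl2978 i) (nd1482 i) (Nat.ble 93184 i))) ((Bool.rec (motive := fun _ => Nat) (nd1483 i) (nd1484 i) (Nat.ble 97280 i))) (Nat.ble 95232 i))
noncomputable def nd1486 (i : Nat) : Nat := (Bool.rec (motive := fun _ => Nat) (nl2985 i) (nl2986 i) (Nat.ble 100352 i))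
noncomputable def nd1487 (i : Nat) : Nat := (Bool.rec (motive := fun _ => Nat) (nl2987 i) (nl2988 i) (Nat.ble 102400 i))
noncomputable def nd1488 (i : Nat) : Nat := (Bool.rec (motive := fun _ => Nat) (nl2989 i) (nl2990 i) (Nat.ble 104448 i))
noncomputable def nd1489 (i : Nat) : Nat := (Bool.rec (motive := fun _ => Nat) (nl2991 i) (nl2992 i) (Nat.ble 106496 i))
noncomputable def nd1485 (i : Nat) : Nat := (Bool.rec (motive := fun _ => Nat) ((Bool.rec (motive := fun _ => Nat) (nd1486 i) (nd1487 i) (Nat.ble 101376 i))) ((Bool.rec (motive := fun _ => Nat) (nd1488 i) (nd1489 i) (Nat.ble 105472 i))) (Nat.ble 103424 i))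
noncomputable def nd1491 (i : Nat) : Nat := (Bool.rec (motive := fun _ => Nat) (nl2994 i) (nl2995 i) (Nat.ble 109568 i))
noncomputable def nd1492 (i : Nat) : Nat := (Bool.rec (motive := fun _ => Nat) (nl2996 i) (nl2997 i) (Nat.ble 111616 i))
noncomputable def nd1493 (i : Nat) : Nat := (Bool.rec (motive := fun _ => Nat) (nl2998 i) (nl2999 i) (Nat.ble 113664 i))
noncomputable def nd1490 (i : Nat) : Nat := (Bool.rec (motive := fun _ => Nat) ((Bool.rec (motive := fun _ => Nat) (nl2993 i) (nd1491 i) (Nat.ble 108544 i))) ((Bool.rec (motive := fun _ => Nat) (nd1492 i) (nd1493 i) (Nat.ble 112640 i))) (Nat.ble 110592 i))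
noncomputable def nd1495 (i : Nat) : Nat := (Bool.rec (motive := fun _ => Nat) (nl3000 i) (nl3001 i) (Nat.ble 115712 i))
noncomputable def nd1496 (i : Nat) : Nat := (Bool.rec (motive := fun _ => Nat) (nl3002 i) (nl3003 i) (Nat.ble 117760 i))
noncomputable def nd1497 (i : Nat) : Nat := (Bool.rec (motive := fun _ => Nat) (nl3004 i) (nl3005 i) (Nat.ble 119808 i))
noncomputable def nd1498 (i : Nat) : Nat := (Bool.rec (motive := fun _ => Nat) (nl3006 i) (nl3007 i) (Nat.ble 121856 i))
noncomputable def nd1494 (i : Nat) : Nat := (Bool.rec (motive := fun _ => Nat) ((Bool.rec (motive := fun _ => Nat) (nd1495 i) (nd1496 i) (Nat.ble 116736 i))) ((Bool.rec (motive := fun _ => Nat) (nd1497 i) (nd1498 i) (Nat.ble 120832 i))) (Nat.ble 118784 i))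
noncomputable def nd1480 (i : Nat) : Nat := (Bool.rec (motive := fun _ => Nat) ((Bool.rec (motive := fun _ => Nat) (nd1481 i) (nd1485 i) (Nat.ble 99328 i))) ((Bool.rec (motive := fun _ => Nat) (nd1490 i) (nd1494 i) (Nat.ble 114688 i))) (Nat.ble 107520 i))
noncomputable def nd1422 (i : Nat) : Nat := (Bool.rec (motive := fun _ => Nat) ((Bool.rec (motive := fun _ => Nat) (nd1423 i) (nd1442 i) (Nat.ble 30720 i))) ((Bool.rec (motive := fun _ => Nat) (nd1461 i) (nd1480 i) (Nat.ble 92160 i))) (Nat.ble 61440 i))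
noncomputable def nd1502 (i : Nat) : Nat := (Bool.rec (motive := fun _ => Nat) (nl3009 i) (nl3010 i) (Nat.ble 2048 i))
noncomputable def nd1503 (i : Nat) : Nat := (Bool.rec (motive := fun _ => Nat) (nl3011 i) (nl3012 i) (Nat.ble 4096 i))
noncomputable def nd1504 (i : Nat) : Nat := (Bool.rec (motive := fun _ => Nat) (nl3013 i) (nl3014 i) (Nat.ble 6144 i))
noncomputable def nd1501 (i : Nat) : Nat := (Bool.rec (motive := fun _ => Nat) ((Bool.rec (motive := fun _ => Nat) (nl3008 i) (nd1502 i) (Nat.ble 1024 i))) ((Bool.rec (motive := fun _ => Nat) (nd1503 i) (nd1504 i) (Nat.ble 5120 i))) (Nat.ble 3072 i))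
noncomputable def nd1506 (i : Nat) : Nat := (Bool.rec (motive := fun _ => Nat) (nl3015 i) (nl3016 i) (Nat.ble 8192 i))
noncomputable def nd1507 (i : Nat) : Nat := (Bool.rec (motive := fun _ => Nat) (nl3017 i) (nl3018 i) (Nat.ble 10240 i))
noncomputable def nd1508 (i : Nat) : Nat := (Bool.rec (motive := fun _ => Nat) (nl3019 i) (nl3020 i) (Nat.ble 12288 i))
noncomputable def nd1509 (i : Nat) : Nat := (Bool.rec (motive := fun _ => Nat) (nl3021 i) (nl3022 i) (Nat.ble 14336 i))
noncomputable def nd1505 (i : Nat) : Nat := (Bool.rec (motive := fun _ => Nat) ((Bool.rec (motive := fun _ => Nat) (nd1506 i) (nd1507 i) (Nat.ble 9216 i))) ((Bool.rec (motive := fun _ => Nat) (nd1508 i) (nd1509 i) (Nat.ble 13312 i))) (Nat.ble 11264 i))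
noncomputable def nd1511 (i : Nat) : Nat := (Bool.rec (motive := fun _ => Nat) (nl3024 i) (nl3025 i) (Nat.ble 17408 i))
noncomputable def nd1512 (i : Nat) : Nat := (Bool.rec (motive := fun _ => Nat) (nl3026 i) (nl3027 i) (Nat.ble 19456 i))
noncomputable def nd1513 (i : Nat) : Nat := (Bool.rec (motive := fun _ => Nat) (nl3028 i) (nl3029 i) (Nat.ble 21504 i))
noncomputable def nd1510 (i : Nat) : Nat := (Bool.rec (motive := fun _ => Nat) ((Bool.rec (motive := fun _ => Nat) (nl3023 i) (nd1511 i) (Nat.ble 16384 i))) ((Bool.rec (motive := fun _ => Nat) (nd1512 i) (nd1513 i) (Nat.ble 20480 i))) (Nat.ble 18432 i))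
noncomputable def nd1515 (i : Nat) : Nat := (Bool.rec (motive := fun _ => Nat) (nl3030 i) (nl3031 i) (Nat.ble 23552 i))
noncomputable def nd1516 (i : Nat) : Nat := (Bool.rec (motive := fun _ => Nat) (nl3032 i) (nl3033 i) (Nat.ble 25600 i))
noncomputable def nd1517 (i : Nat) : Nat := (Bool.rec (motive := fun _ => Nat) (nl3034 i) (nl3035 i) (Nat.ble 27648 i))
noncomputable def nd1518 (i : Nat) : Nat := (Bool.rec (motive := fun _ => Nat) (nl3036 i) (nl3037 i) (Nat.ble 29696 i))
noncomputable def nd1514 (i : Nat) : Nat := (Bool.rec (motive := fun _ => Nat) ((Bool.rec (motive := fun _ => Nat) (nd1515 i) (nd1516 i) (Nat.ble 24576 i))) ((Bool.rec (motive := fun _ => Nat) (nd1517 i) (nd1518 i) (Nat.ble 28672 i))) (Nat.ble 26624 i))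
noncomputable def nd1500 (i : Nat) : Nat := (Bool.rec (motive := fun _ => Nat) ((Bool.rec (motive := fun _ => Nat) (nd1501 i) (nd1505 i) (Nat.ble 7168 i))) ((Bool.rec (motive := fun _ => Nat) (nd1510 i) (nd1514 i) (Nat.ble 22528 i))) (Nat.ble 15360 i))
noncomputable def nd1521 (i : Nat) : Nat := (Bool.rec (motive := fun _ => Nat) (nl3039 i) (nl3040 i) (Nat.ble 32768 i))
noncomputable def nd1522 (i : Nat) : Nat := (Bool.rec (motive := fun _ => Nat) (nl3041 i) (nl3042 i) (Nat.ble 34816 i))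
noncomputable def nd1523 (i : Nat) : Nat := (Bool.rec (motive := fun _ => Nat) (nl3043 i) (nl3044 i) (Nat.ble 36864 i))
noncomputable def nd1520 (i : Nat) : Nat := (Bool.rec (motive := fun _ => Nat) ((Bool.rec (motive := fun _ => Nat) (nl3038 i) (nd1521 i) (Nat.ble 31744 i))) ((Bool.rec (motive := fun _ => Nat) (nd1522 i) (nd1523 i) (Nat.ble 35840 i))) (Nat.ble 33792 i))
noncomputable def nd1525 (i : Nat) : Nat := (Bool.rec (motive := fun _ => Nat) (nl3045 i) (nl3046 i) (Nat.ble 38912 i))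
noncomputable def nd1526 (i : Nat) : Nat := (Bool.rec (motive := fun _ => Nat) (nl3047 i) (nl3048 i) (Nat.ble 40960 i))
noncomputable def nd1527 (i : Nat) : Nat := (Bool.rec (motive := fun _ => Nat) (nl3049 i) (nl3050 i) (Nat.ble 43008 i))
noncomputable def nd1528 (i : Nat) : Nat := (Bool.rec (motive := fun _ => Nat) (nl3051 i) (nl3052 i) (Nat.ble 45056 i))
noncomputable def nd1524 (i : Nat) : Nat := (Bool.rec (motive := fun _ => Nat) ((Bool.rec (motive := fun _ => Nat) (nd1525 i) (nd1526 i) (Nat.ble 39936 i))) ((Bool.rec (motive := fun _ => Nat) (nd1527 i) (nd1528 i) (Nat.ble 44032 i))) (Nat.ble 41984 i))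
noncomputable def nd1530 (i : Nat) : Nat := (Bool.rec (motive := fun _ => Nat) (nl3054 i) (nl3055 i) (Nat.ble 48128 i))
noncomputable def nd1531 (i : Nat) : Nat := (Bool.rec (motive := fun _ => Nat) (nl3056 i) (nl3057 i) (Nat.ble 50176 i))
noncomputable def nd1532 (i : Nat) : Nat := (Bool.rec (motive := fun _ => Nat) (nl3058 i) (nl3059 i) (Nat.ble 52224 i))
noncomputable def nd1529 (i : Nat) : Nat := (Bool.rec (motive := fun _ => Nat) ((Bool.rec (motive := fun _ => Nat) (nl3053 i) (nd1530 i) (Nat.ble 47104 i))) ((Bool.rec (motive := fun _ => Nat) (nd1531 i) (nd1532 i) (Nat.ble 51200 i))) (Nat.ble 49152 i))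
noncomputable def nd1534 (i : Nat) : Nat := (Bool.rec (motive := fun _ => Nat) (nl3060 i) (nl3061 i) (Nat.ble 54272 i))
noncomputable def nd1535 (i : Nat) : Nat := (Bool.rec (motive := fun _ => Nat) (nl3062 i) (nl3063 i) (Nat.ble 56320 i))
noncomputable def nd1536 (i : Nat) : Nat := (Bool.rec (motive := fun _ => Nat) (nl3064 i) (nl3065 i) (Nat.ble 58368 i))
noncomputable def nd1537 (i : Nat) : Nat := (Bool.rec (motive := fun _ => Nat) (nl3066 i) (nl3067 i) (Nat.ble 60416 i))
noncomputable def nd1533 (i : Nat) : Nat := (Bool.rec (motive := fun _ => Nat) ((Bool.rec (motive := fun _ => Nat) (nd1534 i) (nd1535 i) (Nat.ble 55296 i))) ((Bool.rec (motive := fun _ => Nat) (nd1536 i) (nd1537 i) (Nat.ble 59392 i))) (Nat.ble 57344 i))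
noncomputable def nd1519 (i : Nat) : Nat := (Bool.rec (motive := fun _ => Nat) ((Bool.rec (motive := fun _ => Nat) (nd1520 i) (nd1524 i) (Nat.ble 37888 i))) ((Bool.rec (motive := fun _ => Nat) (nd1529 i) (nd1533 i) (Nat.ble 53248 i))) (Nat.ble 46080 i))
noncomputable def nd1540 (i : Nat) : Nat := (Bool.rec (motive := fun _ => Nat) (nl3069 i) (nl3070 i) (Nat.ble 63488 i))
noncomputable def nd1541 (i : Nat) : Nat := (Bool.rec (motive := fun _ => Nat) (nl3071 i) (nl3072 i) (Nat.ble 65536 i))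
noncomputable def nd1542 (i : Nat) : Nat := (Bool.rec (motive := fun _ => Nat) (nl3073 i) (nl3074 i) (Nat.ble 67584 i))
noncomputable def nd1539 (i : Nat) : Nat := (Bool.rec (motive := fun _ => Nat) ((Bool.rec (motive := fun _ => Nat) (nl3068 i) (nd1540 i) (Nat.ble 62464 i))) ((Bool.rec (motive := fun _ => Nat) (nd1541 i) (nd1542 i) (Nat.ble 66560 i))) (Nat.ble 64512 i))
noncomputable def nd1544 (i : Nat) : Nat := (Bool.rec (motive := fun _ => Nat) (nl3075 i) (nl3076 i) (Nat.ble 69632 i))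
noncomputable def nd1545 (i : Nat) : Nat := (Bool.rec (motive := fun _ => Nat) (nl3077 i) (nl3078 i) (Nat.ble 71680 i))
noncomputable def nd1546 (i : Nat) : Nat := (Bool.rec (motive := fun _ => Nat) (nl3079 i) (nl3080 i) (Nat.ble 73728 i))
noncomputable def nd1547 (i : Nat) : Nat := (Bool.rec (motive := fun _ => Nat) (nl3081 i) (nl3082 i) (Nat.ble 75776 i))
noncomputable def nd1543 (i : Nat) : Nat := (Bool.rec (motive := fun _ => Nat) ((Bool.rec (motive := fun _ => Nat) (nd1544 i) (nd1545 i) (Nat.ble 70656 i))) ((Bool.rec (motive := fun _ => Nat) (nd1546 i) (nd1547 i) (Nat.ble 74752 i))) (Nat.ble 72704 i))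
noncomputable def nd1549 (i : Nat) : Nat := (Bool.rec (motive := fun _ => Nat) (nl3084 i) (nl3085 i) (Nat.ble 78848 i))
noncomputable def nd1550 (i : Nat) : Nat := (Bool.rec (motive := fun _ => Nat) (nl3086 i) (nl3087 i) (Nat.ble 80896 i))
noncomputable def nd1551 (i : Nat) : Nat := (Bool.rec (motive := fun _ => Nat) (nl3088 i) (nl3089 i) (Nat.ble 82944 i))
noncomputable def nd1548 (i : Nat) : Nat := (Bool.rec (motive := fun _ => Nat) ((Bool.rec (motive := fun _ => Nat) (nl3083 i) (nd1549 i) (Nat.ble 77824 i))) ((Bool.rec (motive := fun _ => Nat) (nd1550 i) (nd1551 i) (Nat.ble 81920 i))) (Nat.ble 79872 i))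
noncomputable def nd1553 (i : Nat) : Nat := (Bool.rec (motive := fun _ => Nat) (nl3090 i) (nl3091 i) (Nat.ble 84992 i))
noncomputable def nd1554 (i : Nat) : Nat := (Bool.rec (motive := fun _ => Nat) (nl3092 i) (nl3093 i) (Nat.ble 87040 i))
noncomputable def nd1555 (i : Nat) : Nat := (Bool.rec (motive := fun _ => Nat) (nl3094 i) (nl3095 i) (Nat.ble 89088 i))
noncomputable def nd1556 (i : Nat) : Nat := (Bool.rec (motive := fun _ => Nat) (nl3096 i) (nl3097 i) (Nat.ble 91136 i))
noncomputable def nd1552 (i : Nat) : Nat := (Bool.rec (motive := fun _ => Nat) ((Bool.rec (motive := fun _ => Nat) (nd1553 i) (nd1554 i) (Nat.ble 86016 i))) ((Bool.rec (motive := fun _ => Nat) (nd1555 i) (nd1556 i) (Nat.ble 90112 i))) (Nat.ble 88064 i))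
noncomputable def nd1538 (i : Nat) : Nat := (Bool.rec (motive := fun _ => Nat) ((Bool.rec (motive := fun _ => Nat) (nd1539 i) (nd1543 i) (Nat.ble 68608 i))) ((Bool.rec (motive := fun _ => Nat) (nd1548 i) (nd1552 i) (Nat.ble 83968 i))) (Nat.ble 76800 i))
noncomputable def nd1559 (i : Nat) : Nat := (Bool.rec (motive := fun _ => Nat) (nl3099 i) (nl3100 i) (Nat.ble 94208 i))
noncomputable def nd1560 (i : Nat) : Nat := (Bool.rec (motive := fun _ => Nat) (nl3101 i) (nl3102 i) (Nat.ble 96256 i))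
noncomputable def nd1561 (i : Nat) : Nat := (Bool.rec (motive := fun _ => Nat) (nl3103 i) (nl3104 i) (Nat.ble 98304 i))
noncomputable def nd1558 (i : Nat) : Nat := (Bool.rec (motive := fun _ => Nat) ((Bool.rec (motive := fun _ => Nat) (nl3098 i) (nd1559 i) (Nat.ble 93184 i))) ((Bool.rec (motive := fun _ => Nat) (nd1560 i) (nd1561 i) (Nat.ble 97280 i))) (Nat.ble 95232 i))
noncomputable def nd1563 (i : Nat) : Nat := (Bool.rec (motive := fun _ => Nat) (nl3105 i) (nl3106 i) (Nat.ble 100352 i))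
noncomputable def nd1564 (i : Nat) : Nat := (Bool.rec (motive := fun _ => Nat) (nl3107 i) (nl3108 i) (Nat.ble 102400 i))
noncomputable def nd1565 (i : Nat) : Nat := (Bool.rec (motive := fun _ => Nat) (nl3109 i) (nl3110 i) (Nat.ble 104448 i))
noncomputable def nd1566 (i : Nat) : Nat := (Bool.rec (motive := fun _ => Nat) (nl3111 i) (nl3112 i) (Nat.ble 106496 i))
noncomputable def nd1562 (i : Nat) : Nat := (Bool.rec (motive := fun _ => Nat) ((Bool.rec (motive := fun _ => Nat) (nd1563 i) (nd1564 i) (Nat.ble 101376 i))) ((Bool.rec (motive := fun _ => Nat) (nd1565 i) (nd1566 i) (Nat.ble 105472 i))) (Nat.ble 103424 i))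
noncomputable def nd1568 (i : Nat) : Nat := (Bool.rec (motive := fun _ => Nat) (nl3114 i) (nl3115 i) (Nat.ble 109568 i))
noncomputable def nd1569 (i : Nat) : Nat := (Bool.rec (motive := fun _ => Nat) (nl3116 i) (nl3117 i) (Nat.ble 111616 i))
noncomputable def nd1570 (i : Nat) : Nat := (Bool.rec (motive := fun _ => Nat) (nl3118 i) (nl3119 i) (Nat.ble 113664 i))
noncomputable def nd1567 (i : Nat) : Nat := (Bool.rec (motive := fun _ => Nat) ((Bool.rec (motive := fun _ => Nat) (nl3113 i) (nd1568 i) (Nat.ble 108544 i))) ((Bool.rec (motive := fun _ => Nat) (nd1569 i) (nd1570 i) (Nat.ble 112640 i))) (Nat.ble 110592 i))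
noncomputable def nd1572 (i : Nat) : Nat := (Bool.rec (motive := fun _ => Nat) (nl3120 i) (nl3121 i) (Nat.ble 115712 i))
noncomputable def nd1573 (i : Nat) : Nat := (Bool.rec (motive := fun _ => Nat) (nl3122 i) (nl3123 i) (Nat.ble 117760 i))
noncomputable def nd1574 (i : Nat) : Nat := (Bool.rec (motive := fun _ => Nat) (nl3124 i) (nl3125 i) (Nat.ble 119808 i))
noncomputable def nd1575 (i : Nat) : Nat := (Bool.rec (motive := fun _ => Nat) (nl3126 i) (nl3127 i) (Nat.ble 121856 i))
noncomputable def nd1571 (i : Nat) : Nat := (Bool.rec (motive := fun _ => Nat) ((Bool.rec (motive := fun _ => Nat) (nd1572 i) (nd1573 i) (Nat.ble 116736 i))) ((Bool.rec (motive := fun _ => Nat) (nd1574 i) (nd1575 i) (Nat.ble 120832 i))) (Nat.ble 118784 i))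
noncomputable def nd1557 (i : Nat) : Nat := (Bool.rec (motive := fun _ => Nat) ((Bool.rec (motive := fun _ => Nat) (nd1558 i) (nd1562 i) (Nat.ble 99328 i))) ((Bool.rec (motive := fun _ => Nat) (nd1567 i) (nd1571 i) (Nat.ble 114688 i))) (Nat.ble 107520 i))
noncomputable def nd1499 (i : Nat) : Nat := (Bool.rec (motive := fun _ => Nat) ((Bool.rec (motive := fun _ => Nat) (nd1500 i) (nd1519 i) (Nat.ble 30720 i))) ((Bool.rec (motive := fun _ => Nat) (nd1538 i) (nd1557 i) (Nat.ble 92160 i))) (Nat.ble 61440 i))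
noncomputable def nd1579 (i : Nat) : Nat := (Bool.rec (motive := fun _ => Nat) (nl3129 i) (nl3130 i) (Nat.ble 2048 i))
noncomputable def nd1580 (i : Nat) : Nat := (Bool.rec (motive := fun _ => Nat) (nl3131 i) (nl3132 i) (Nat.ble 4096 i))
noncomputable def nd1581 (i : Nat) : Nat := (Bool.rec (motive := fun _ => Nat) (nl3133 i) (nl3134 i) (Nat.ble 6144 i))
noncomputable def nd1578 (i : Nat) : Nat := (Bool.rec (motive := fun _ => Nat) ((Bool.rec (motive := fun _ => Nat) (nl3128 i) (nd1579 i) (Nat.ble 1024 i))) ((Bool.rec (motive := fun _ => Nat) (nd1580 i) (nd1581 i) (Nat.ble 5120 i))) (Nat.ble 3072 i))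
noncomputable def nd1583 (i : Nat) : Nat := (Bool.rec (motive := fun _ => Nat) (nl3135 i) (nl3136 i) (Nat.ble 8192 i))
noncomputable def nd1584 (i : Nat) : Nat := (Bool.rec (motive := fun _ => Nat) (nl3137 i) (nl3138 i) (Nat.ble 10240 i))
noncomputable def nd1585 (i : Nat) : Nat := (Bool.rec (motive := fun _ => Nat) (nl3139 i) (nl3140 i) (Nat.ble 12288 i))
noncomputable def nd1586 (i : Nat) : Nat := (Bool.rec (motive := fun _ => Nat) (nl3141 i) (nl3142 i) (Nat.ble 14336 i))
noncomputable def nd1582 (i : Nat) : Nat := (Bool.rec (motive := fun _ => Nat) ((Bool.rec (motive := fun _ => Nat) (nd1583 i) (nd1584 i) (Nat.ble 9216 i))) ((Bool.rec (motive := fun _ => Nat) (nd1585 i) (nd1586 i) (Nat.ble 13312 i))) (Nat.ble 11264 i))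
noncomputable def nd1588 (i : Nat) : Nat := (Bool.rec (motive := fun _ => Nat) (nl3144 i) (nl3145 i) (Nat.ble 17408 i))
noncomputable def nd1589 (i : Nat) : Nat := (Bool.rec (motive := fun _ => Nat) (nl3146 i) (nl3147 i) (Nat.ble 19456 i))
noncomputable def nd1590 (i : Nat) : Nat := (Bool.rec (motive := fun _ => Nat) (nl3148 i) (nl3149 i) (Nat.ble 21504 i))
noncomputable def nd1587 (i : Nat) : Nat := (Bool.rec (motive := fun _ => Nat) ((Bool.rec (motive := fun _ => Nat) (nl3143 i) (nd1588 i) (Nat.ble 16384 i))) ((Bool.rec (motive := fun _ => Nat) (nd1589 i) (nd1590 i) (Nat.ble 20480 i))) (Nat.ble 18432 i))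
noncomputable def nd1592 (i : Nat) : Nat := (Bool.rec (motive := fun _ => Nat) (nl3150 i) (nl3151 i) (Nat.ble 23552 i))
noncomputable def nd1593 (i : Nat) : Nat := (Bool.rec (motive := fun _ => Nat) (nl3152 i) (nl3153 i) (Nat.ble 25600 i))
noncomputable def nd1594 (i : Nat) : Nat := (Bool.rec (motive := fun _ => Nat) (nl3154 i) (nl3155 i) (Nat.ble 27648 i))
noncomputable def nd1595 (i : Nat) : Nat := (Bool.rec (motive := fun _ => Nat) (nl3156 i) (nl3157 i) (Nat.ble 29696 i))
noncomputable def nd1591 (i : Nat) : Nat := (Bool.rec (motive := fun _ => Nat) ((Bool.rec (motive := fun _ => Nat) (nd1592 i) (nd1593 i) (Nat.ble 24576 i))) ((Bool.rec (motive := fun _ => Nat) (nd1594 i) (nd1595 i) (Nat.ble 28672 i))) (Nat.ble 26624 i))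
noncomputable def nd1577 (i : Nat) : Nat := (Bool.rec (motive := fun _ => Nat) ((Bool.rec (motive := fun _ => Nat) (nd1578 i) (nd1582 i) (Nat.ble 7168 i))) ((Bool.rec (motive := fun _ => Nat) (nd1587 i) (nd1591 i) (Nat.ble 22528 i))) (Nat.ble 15360 i))
noncomputable def nd1598 (i : Nat) : Nat := (Bool.rec (motive := fun _ => Nat) (nl3159 i) (nl3160 i) (Nat.ble 32768 i))
noncomputable def nd1599 (i : Nat) : Nat := (Bool.rec (motive := fun _ => Nat) (nl3161 i) (nl3162 i) (Nat.ble 34816 i))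
noncomputable def nd1600 (i : Nat) : Nat := (Bool.rec (motive := fun _ => Nat) (nl3163 i) (nl3164 i) (Nat.ble 36864 i))
noncomputable def nd1597 (i : Nat) : Nat := (Bool.rec (motive := fun _ => Nat) ((Bool.rec (motive := fun _ => Nat) (nl3158 i) (nd1598 i) (Nat.ble 31744 i))) ((Bool.rec (motive := fun _ => Nat) (nd1599 i) (nd1600 i) (Nat.ble 35840 i))) (Nat.ble 33792 i))
noncomputable def nd1602 (i : Nat) : Nat := (Bool.rec (motive := fun _ => Nat) (nl3165 i) (nl3166 i) (Nat.ble 38912 i))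
noncomputable def nd1603 (i : Nat) : Nat := (Bool.rec (motive := fun _ => Nat) (nl3167 i) (nl3168 i) (Nat.ble 40960 i))
noncomputable def nd1604 (i : Nat) : Nat := (Bool.rec (motive := fun _ => Nat) (nl3169 i) (nl3170 i) (Nat.ble 43008 i))
noncomputable def nd1605 (i : Nat) : Nat := (Bool.rec (motive := fun _ => Nat) (nl3171 i) (nl3172 i) (Nat.ble 45056 i))
noncomputable def nd1601 (i : Nat) : Nat := (Bool.rec (motive := fun _ => Nat) ((Bool.rec (motive := fun _ => Nat) (nd1602 i) (nd1603 i) (Nat.ble 39936 i))) ((Bool.rec (motive := fun _ => Nat) (nd1604 i) (nd1605 i) (Nat.ble 44032 i))) (Nat.ble 41984 i))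
noncomputable def nd1607 (i : Nat) : Nat := (Bool.rec (motive := fun _ => Nat) (nl3174 i) (nl3175 i) (Nat.ble 48128 i))
noncomputable def nd1608 (i : Nat) : Nat := (Bool.rec (motive := fun _ => Nat) (nl3176 i) (nl3177 i) (Nat.ble 50176 i))
noncomputable def nd1609 (i : Nat) : Nat := (Bool.rec (motive := fun _ => Nat) (nl3178 i) (nl3179 i) (Nat.ble 52224 i))
noncomputable def nd1606 (i : Nat) : Nat := (Bool.rec (motive := fun _ => Nat) ((Bool.rec (motive := fun _ => Nat) (nl3173 i) (nd1607 i) (Nat.ble 47104 i))) ((Bool.rec (motive := fun _ => Nat) (nd1608 i) (nd1609 i) (Nat.ble 51200 i))) (Nat.ble 49152 i))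
noncomputable def nd1611 (i : Nat) : Nat := (Bool.rec (motive := fun _ => Nat) (nl3180 i) (nl3181 i) (Nat.ble 54272 i))
noncomputable def nd1612 (i : Nat) : Nat := (Bool.rec (motive := fun _ => Nat) (nl3182 i) (nl3183 i) (Nat.ble 56320 i))
noncomputable def nd1613 (i : Nat) : Nat := (Bool.rec (motive := fun _ => Nat) (nl3184 i) (nl3185 i) (Nat.ble 58368 i))
noncomputable def nd1614 (i : Nat) : Nat := (Bool.rec (motive := fun _ => Nat) (nl3186 i) (nl3187 i) (Nat.ble 60416 i))
noncomputable def nd1610 (i : Nat) : Nat := (Bool.rec (motive := fun _ => Nat) ((Bool.rec (motive := fun _ => Nat) (nd1611 i) (nd1612 i) (Nat.ble 55296 i))) ((Bool.rec (motive := fun _ => Nat) (nd1613 i) (nd1614 i) (Nat.ble 59392 i))) (Nat.ble 57344 i))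
noncomputable def nd1596 (i : Nat) : Nat := (Bool.rec (motive := fun _ => Nat) ((Bool.rec (motive := fun _ => Nat) (nd1597 i) (nd1601 i) (Nat.ble 37888 i))) ((Bool.rec (motive := fun _ => Nat) (nd1606 i) (nd1610 i) (Nat.ble 53248 i))) (Nat.ble 46080 i))
noncomputable def nd1617 (i : Nat) : Nat := (Bool.rec (motive := fun _ => Nat) (nl3189 i) (nl3190 i) (Nat.ble 63488 i))
noncomputable def nd1618 (i : Nat) : Nat := (Bool.rec (motive := fun _ => Nat) (nl3191 i) (nl3192 i) (Nat.ble 65536 i))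
noncomputable def nd1619 (i : Nat) : Nat := (Bool.rec (motive := fun _ => Nat) (nl3193 i) (nl3194 i) (Nat.ble 67584 i))
noncomputable def nd1616 (i : Nat) : Nat := (Bool.rec (motive := fun _ => Nat) ((Bool.rec (motive := fun _ => Nat) (nl3188 i) (nd1617 i) (Nat.ble 62464 i))) ((Bool.rec (motive := fun _ => Nat) (nd1618 i) (nd1619 i) (Nat.ble 66560 i))) (Nat.ble 64512 i))
noncomputable def nd1621 (i : Nat) : Nat := (Bool.rec (motive := fun _ => Nat) (nl3195 i) (nl3196 i) (Nat.ble 69632 i))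
noncomputable def nd1622 (i : Nat) : Nat := (Bool.rec (motive := fun _ => Nat) (nl3197 i) (nl3198 i) (Nat.ble 71680 i))
noncomputable def nd1623 (i : Nat) : Nat := (Bool.rec (motive := fun _ => Nat) (nl3199 i) (nl3200 i) (Nat.ble 73728 i))
noncomputable def nd1624 (i : Nat) : Nat := (Bool.rec (motive := fun _ => Nat) (nl3201 i) (nl3202 i) (Nat.ble 75776 i))
noncomputable def nd1620 (i : Nat) : Nat := (Bool.rec (motive := fun _ => Nat) ((Bool.rec (motive := fun _ => Nat) (nd1621 i) (nd1622 i) (Nat.ble 70656 i))) ((Bool.rec (motive := fun _ => Nat) (nd1623 i) (nd1624 i) (Nat.ble 74752 i))) (Nat.ble 72704 i))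
noncomputable def nd1626 (i : Nat) : Nat := (Bool.rec (motive := fun _ => Nat) (nl3204 i) (nl3205 i) (Nat.ble 78848 i))
noncomputable def nd1627 (i : Nat) : Nat := (Bool.rec (motive := fun _ => Nat) (nl3206 i) (nl3207 i) (Nat.ble 80896 i))
noncomputable def nd1628 (i : Nat) : Nat := (Bool.rec (motive := fun _ => Nat) (nl3208 i) (nl3209 i) (Nat.ble 82944 i))
noncomputable def nd1625 (i : Nat) : Nat := (Bool.rec (motive := fun _ => Nat) ((Bool.rec (motive := fun _ => Nat) (nl3203 i) (nd1626 i) (Nat.ble 77824 i))) ((Bool.rec (motive := fun _ => Nat) (nd1627 i) (nd1628 i) (Nat.ble 81920 i))) (Nat.ble 79872 i))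
noncomputable def nd1630 (i : Nat) : Nat := (Bool.rec (motive := fun _ => Nat) (nl3210 i) (nl3211 i) (Nat.ble 84992 i))
noncomputable def nd1631 (i : Nat) : Nat := (Bool.rec (motive := fun _ => Nat) (nl3212 i) (nl3213 i) (Nat.ble 87040 i))
noncomputable def nd1632 (i : Nat) : Nat := (Bool.rec (motive := fun _ => Nat) (nl3214 i) (nl3215 i) (Nat.ble 89088 i))
noncomputable def nd1633 (i : Nat) : Nat := (Bool.rec (motive := fun _ => Nat) (nl3216 i) (nl3217 i) (Nat.ble 91136 i))
noncomputable def nd1629 (i : Nat) : Nat := (Bool.rec (motive := fun _ => Nat) ((Bool.rec (motive := fun _ => Nat) (nd1630 i) (nd1631 i) (Nat.ble 86016 i))) ((Bool.rec (motive := fun _ => Nat) (nd1632 i) (nd1633 i) (Nat.ble 90112 i))) (Nat.ble 88064 i))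
noncomputable def nd1615 (i : Nat) : Nat := (Bool.rec (motive := fun _ => Nat) ((Bool.rec (motive := fun _ => Nat) (nd1616 i) (nd1620 i) (Nat.ble 68608 i))) ((Bool.rec (motive := fun _ => Nat) (nd1625 i) (nd1629 i) (Nat.ble 83968 i))) (Nat.ble 76800 i))
noncomputable def nd1636 (i : Nat) : Nat := (Bool.rec (motive := fun _ => Nat) (nl3219 i) (nl3220 i) (Nat.ble 94208 i))
noncomputable def nd1637 (i : Nat) : Nat := (Bool.rec (motive := fun _ => Nat) (nl3221 i) (nl3222 i) (Nat.ble 96256 i))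
noncomputable def nd1638 (i : Nat) : Nat := (Bool.rec (motive := fun _ => Nat) (nl3223 i) (nl3224 i) (Nat.ble 98304 i))
noncomputable def nd1635 (i : Nat) : Nat := (Bool.rec (motive := fun _ => Nat) ((Bool.rec (motive := fun _ => Nat) (nl3218 i) (nd1636 i) (Nat.ble 93184 i))) ((Bool.rec (motive := fun _ => Nat) (nd1637 i) (nd1638 i) (Nat.ble 97280 i))) (Nat.ble 95232 i))
noncomputable def nd1640 (i : Nat) : Nat := (Bool.rec (motive := fun _ => Nat) (nl3225 i) (nl3226 i) (Nat.ble 100352 i))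
noncomputable def nd1641 (i : Nat) : Nat := (Bool.rec (motive := fun _ => Nat) (nl3227 i) (nl3228 i) (Nat.ble 102400 i))
noncomputable def nd1642 (i : Nat) : Nat := (Bool.rec (motive := fun _ => Nat) (nl3229 i) (nl3230 i) (Nat.ble 104448 i))
noncomputable def nd1643 (i : Nat) : Nat := (Bool.rec (motive := fun _ => Nat) (nl3231 i) (nl3232 i) (Nat.ble 106496 i))
noncomputable def nd1639 (i : Nat) : Nat := (Bool.rec (motive := fun _ => Nat) ((Bool.rec (motive := fun _ => Nat) (nd1640 i) (nd1641 i) (Nat.ble 101376 i))) ((Bool.rec (motive := fun _ => Nat) (nd1642 i) (nd1643 i) (Nat.ble 105472 i))) (Nat.ble 103424 i))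
noncomputable def nd1645 (i : Nat) : Nat := (Bool.rec (motive := fun _ => Nat) (nl3234 i) (nl3235 i) (Nat.ble 109568 i))
noncomputable def nd1646 (i : Nat) : Nat := (Bool.rec (motive := fun _ => Nat) (nl3236 i) (nl3237 i) (Nat.ble 111616 i))
noncomputable def nd1647 (i : Nat) : Nat := (Bool.rec (motive := fun _ => Nat) (nl3238 i) (nl3239 i) (Nat.ble 113664 i))
noncomputable def nd1644 (i : Nat) : Nat := (Bool.rec (motive := fun _ => Nat) ((Bool.rec (motive := fun _ => Nat) (nl3233 i) (nd1645 i) (Nat.ble 108544 i))) ((Bool.rec (motive := fun _ => Nat) (nd1646 i) (nd1647 i) (Nat.ble 112640 i))) (Nat.ble 110592 i))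
noncomputable def nd1649 (i : Nat) : Nat := (Bool.rec (motive := fun _ => Nat) (nl3240 i) (nl3241 i) (Nat.ble 115712 i))
noncomputable def nd1650 (i : Nat) : Nat := (Bool.rec (motive := fun _ => Nat) (nl3242 i) (nl3243 i) (Nat.ble 117760 i))
noncomputable def nd1651 (i : Nat) : Nat := (Bool.rec (motive := fun _ => Nat) (nl3244 i) (nl3245 i) (Nat.ble 119808 i))
noncomputable def nd1652 (i : Nat) : Nat := (Bool.rec (motive := fun _ => Nat) (nl3246 i) (nl3247 i) (Nat.ble 121856 i))
noncomputable def nd1648 (i : Nat) : Nat := (Bool.rec (motive := fun _ => Nat) ((Bool.rec (motive := fun _ => Nat) (nd1649 i) (nd1650 i) (Nat.ble 116736 i))) ((Bool.rec (motive := fun _ => Nat) (nd1651 i) (nd1652 i) (Nat.ble 120832 i))) (Nat.ble 118784 i))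
noncomputable def nd1634 (i : Nat) : Nat := (Bool.rec (motive := fun _ => Nat) ((Bool.rec (motive := fun _ => Nat) (nd1635 i) (nd1639 i) (Nat.ble 99328 i))) ((Bool.rec (motive := fun _ => Nat) (nd1644 i) (nd1648 i) (Nat.ble 114688 i))) (Nat.ble 107520 i))
noncomputable def nd1576 (i : Nat) : Nat := (Bool.rec (motive := fun _ => Nat) ((Bool.rec (motive := fun _ => Nat) (nd1577 i) (nd1596 i) (Nat.ble 30720 i))) ((Bool.rec (motive := fun _ => Nat) (nd1615 i) (nd1634 i) (Nat.ble 92160 i))) (Nat.ble 61440 i))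
noncomputable def nd1656 (i : Nat) : Nat := (Bool.rec (motive := fun _ => Nat) (nl3249 i) (nl3250 i) (Nat.ble 2048 i))
noncomputable def nd1657 (i : Nat) : Nat := (Bool.rec (motive := fun _ => Nat) (nl3251 i) (nl3252 i) (Nat.ble 4096 i))
noncomputable def nd1658 (i : Nat) : Nat := (Bool.rec (motive := fun _ => Nat) (nl3253 i) (nl3254 i) (Nat.ble 6144 i))
noncomputable def nd1655 (i : Nat) : Nat := (Bool.rec (motive := fun _ => Nat) ((Bool.rec (motive := fun _ => Nat) (nl3248 i) (nd1656 i) (Nat.ble 1024 i))) ((Bool.rec (motive := fun _ => Nat) (nd1657 i) (nd1658 i) (Nat.ble 5120 i))) (Nat.ble 3072 i))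
noncomputable def nd1660 (i : Nat) : Nat := (Bool.rec (motive := fun _ => Nat) (nl3255 i) (nl3256 i) (Nat.ble 8192 i))
noncomputable def nd1661 (i : Nat) : Nat := (Bool.rec (motive := fun _ => Nat) (nl3257 i) (nl3258 i) (Nat.ble 10240 i))
noncomputable def nd1662 (i : Nat) : Nat := (Bool.rec (motive := fun _ => Nat) (nl3259 i) (nl3260 i) (Nat.ble 12288 i))
noncomputable def nd1663 (i : Nat) : Nat := (Bool.rec (motive := fun _ => Nat) (nl3261 i) (nl3262 i) (Nat.ble 14336 i))
noncomputable def nd1659 (i : Nat) : Nat := (Bool.rec (motive := fun _ => Nat) ((Bool.rec (motive := fun _ => Nat) (nd1660 i) (nd1661 i) (Nat.ble 9216 i))) ((Bool.rec (motive := fun _ => Nat) (nd1662 i) (nd1663 i) (Nat.ble 13312 i))) (Nat.ble 11264 i))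
noncomputable def nd1665 (i : Nat) : Nat := (Bool.rec (motive := fun _ => Nat) (nl3264 i) (nl3265 i) (Nat.ble 17408 i))
noncomputable def nd1666 (i : Nat) : Nat := (Bool.rec (motive := fun _ => Nat) (nl3266 i) (nl3267 i) (Nat.ble 19456 i))
noncomputable def nd1667 (i : Nat) : Nat := (Bool.rec (motive := fun _ => Nat) (nl3268 i) (nl3269 i) (Nat.ble 21504 i))
noncomputable def nd1664 (i : Nat) : Nat := (Bool.rec (motive := fun _ => Nat) ((Bool.rec (motive := fun _ => Nat) (nl3263 i) (nd1665 i) (Nat.ble 16384 i))) ((Bool.rec (motive := fun _ => Nat) (nd1666 i) (nd1667 i) (Nat.ble 20480 i))) (Nat.ble 18432 i))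
noncomputable def nd1669 (i : Nat) : Nat := (Bool.rec (motive := fun _ => Nat) (nl3270 i) (nl3271 i) (Nat.ble 23552 i))
noncomputable def nd1670 (i : Nat) : Nat := (Bool.rec (motive := fun _ => Nat) (nl3272 i) (nl3273 i) (Nat.ble 25600 i))
noncomputable def nd1671 (i : Nat) : Nat := (Bool.rec (motive := fun _ => Nat) (nl3274 i) (nl3275 i) (Nat.ble 27648 i))
noncomputable def nd1672 (i : Nat) : Nat := (Bool.rec (motive := fun _ => Nat) (nl3276 i) (nl3277 i) (Nat.ble 29696 i))
noncomputable def nd1668 (i : Nat) : Nat := (Bool.rec (motive := fun _ => Nat) ((Bool.rec (motive := fun _ => Nat) (nd1669 i) (nd1670 i) (Nat.ble 24576 i))) ((Bool.rec (motive := fun _ => Nat) (nd1671 i) (nd1672 i) (Nat.ble 28672 i))) (Nat.ble 26624 i))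
noncomputable def nd1654 (i : Nat) : Nat := (Bool.rec (motive := fun _ => Nat) ((Bool.rec (motive := fun _ => Nat) (nd1655 i) (nd1659 i) (Nat.ble 7168 i))) ((Bool.rec (motive := fun _ => Nat) (nd1664 i) (nd1668 i) (Nat.ble 22528 i))) (Nat.ble 15360 i))
noncomputable def nd1675 (i : Nat) : Nat := (Bool.rec (motive := fun _ => Nat) (nl3279 i) (nl3280 i) (Nat.ble 32768 i))
noncomputable def nd1676 (i : Nat) : Nat := (Bool.rec (motive := fun _ => Nat) (nl3281 i) (nl3282 i) (Nat.ble 34816 i))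
noncomputable def nd1677 (i : Nat) : Nat := (Bool.rec (motive := fun _ => Nat) (nl3283 i) (nl3284 i) (Nat.ble 36864 i))
noncomputable def nd1674 (i : Nat) : Nat := (Bool.rec (motive := fun _ => Nat) ((Bool.rec (motive := fun _ => Nat) (nl3278 i) (nd1675 i) (Nat.ble 31744 i))) ((Bool.rec (motive := fun _ => Nat) (nd1676 i) (nd1677 i) (Nat.ble 35840 i))) (Nat.ble 33792 i))
noncomputable def nd1679 (i : Nat) : Nat := (Bool.rec (motive := fun _ => Nat) (nl3285 i) (nl3286 i) (Nat.ble 38912 i))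
noncomputable def nd1680 (i : Nat) : Nat := (Bool.rec (motive := fun _ => Nat) (nl3287 i) (nl3288 i) (Nat.ble 40960 i))
noncomputable def nd1681 (i : Nat) : Nat := (Bool.rec (motive := fun _ => Nat) (nl3289 i) (nl3290 i) (Nat.ble 43008 i))
noncomputable def nd1682 (i : Nat) : Nat := (Bool.rec (motive := fun _ => Nat) (nl3291 i) (nl3292 i) (Nat.ble 45056 i))
noncomputable def nd1678 (i : Nat) : Nat := (Bool.rec (motive := fun _ => Nat) ((Bool.rec (motive := fun _ => Nat) (nd1679 i) (nd1680 i) (Nat.ble 39936 i))) ((Bool.rec (motive := fun _ => Nat) (nd1681 i) (nd1682 i) (Nat.ble 44032 i))) (Nat.ble 41984 i))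
noncomputable def nd1684 (i : Nat) : Nat := (Bool.rec (motive := fun _ => Nat) (nl3294 i) (nl3295 i) (Nat.ble 48128 i))
noncomputable def nd1685 (i : Nat) : Nat := (Bool.rec (motive := fun _ => Nat) (nl3296 i) (nl3297 i) (Nat.ble 50176 i))
noncomputable def nd1686 (i : Nat) : Nat := (Bool.rec (motive := fun _ => Nat) (nl3298 i) (nl3299 i) (Nat.ble 52224 i))
noncomputable def nd1683 (i : Nat) : Nat := (Bool.rec (motive := fun _ => Nat) ((Bool.rec (motive := fun _ => Nat) (nl3293 i) (nd1684 i) (Nat.ble 47104 i))) ((Bool.rec (motive := fun _ => Nat) (nd1685 i) (nd1686 i) (Nat.ble 51200 i))) (Nat.ble 49152 i))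
noncomputable def nd1688 (i : Nat) : Nat := (Bool.rec (motive := fun _ => Nat) (nl3300 i) (nl3301 i) (Nat.ble 54272 i))
noncomputable def nd1689 (i : Nat) : Nat := (Bool.rec (motive := fun _ => Nat) (nl3302 i) (nl3303 i) (Nat.ble 56320 i))
noncomputable def nd1690 (i : Nat) : Nat := (Bool.rec (motive := fun _ => Nat) (nl3304 i) (nl3305 i) (Nat.ble 58368 i))
noncomputable def nd1691 (i : Nat) : Nat := (Bool.rec (motive := fun _ => Nat) (nl3306 i) (nl3307 i) (Nat.ble 60416 i))
noncomputable def nd1687 (i : Nat) : Nat := (Bool.rec (motive := fun _ => Nat) ((Bool.rec (motive := fun _ => Nat) (nd1688 i) (nd1689 i) (Nat.ble 55296 i))) ((Bool.rec (motive := fun _ => Nat) (nd1690 i) (nd1691 i) (Nat.ble 59392 i))) (Nat.ble 57344 i))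
noncomputable def nd1673 (i : Nat) : Nat := (Bool.rec (motive := fun _ => Nat) ((Bool.rec (motive := fun _ => Nat) (nd1674 i) (nd1678 i) (Nat.ble 37888 i))) ((Bool.rec (motive := fun _ => Nat) (nd1683 i) (nd1687 i) (Nat.ble 53248 i))) (Nat.ble 46080 i))
noncomputable def nd1694 (i : Nat) : Nat := (Bool.rec (motive := fun _ => Nat) (nl3309 i) (nl3310 i) (Nat.ble 63488 i))
noncomputable def nd1695 (i : Nat) : Nat := (Bool.rec (motive := fun _ => Nat) (nl3311 i) (nl3312 i) (Nat.ble 65536 i))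
noncomputable def nd1696 (i : Nat) : Nat := (Bool.rec (motive := fun _ => Nat) (nl3313 i) (nl3314 i) (Nat.ble 67584 i))
noncomputable def nd1693 (i : Nat) : Nat := (Bool.rec (motive := fun _ => Nat) ((Bool.rec (motive := fun _ => Nat) (nl3308 i) (nd1694 i) (Nat.ble 62464 i))) ((Bool.rec (motive := fun _ => Nat) (nd1695 i) (nd1696 i) (Nat.ble 66560 i))) (Nat.ble 64512 i))
noncomputable def nd1698 (i : Nat) : Nat := (Bool.rec (motive := fun _ => Nat) (nl3315 i) (nl3316 i) (Nat.ble 69632 i))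
noncomputable def nd1699 (i : Nat) : Nat := (Bool.rec (motive := fun _ => Nat) (nl3317 i) (nl3318 i) (Nat.ble 71680 i))
noncomputable def nd1700 (i : Nat) : Nat := (Bool.rec (motive := fun _ => Nat) (nl3319 i) (nl3320 i) (Nat.ble 73728 i))
noncomputable def nd1701 (i : Nat) : Nat := (Bool.rec (motive := fun _ => Nat) (nl3321 i) (nl3322 i) (Nat.ble 75776 i))
noncomputable def nd1697 (i : Nat) : Nat := (Bool.rec (motive := fun _ => Nat) ((Bool.rec (motive := fun _ => Nat) (nd1698 i) (nd1699 i) (Nat.ble 70656 i))) ((Bool.rec (motive := fun _ => Nat) (nd1700 i) (nd1701 i) (Nat.ble 74752 i))) (Nat.ble 72704 i))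
noncomputable def nd1703 (i : Nat) : Nat := (Bool.rec (motive := fun _ => Nat) (nl3324 i) (nl3325 i) (Nat.ble 78848 i))
noncomputable def nd1704 (i : Nat) : Nat := (Bool.rec (motive := fun _ => Nat) (nl3326 i) (nl3327 i) (Nat.ble 80896 i))
noncomputable def nd1705 (i : Nat) : Nat := (Bool.rec (motive := fun _ => Nat) (nl3328 i) (nl3329 i) (Nat.ble 82944 i))
noncomputable def nd1702 (i : Nat) : Nat := (Bool.rec (motive := fun _ => Nat) ((Bool.rec (motive := fun _ => Nat) (nl3323 i) (nd1703 i) (Nat.ble 77824 i))) ((Bool.rec (motive := fun _ => Nat) (nd1704 i) (nd1705 i) (Nat.ble 81920 i))) (Nat.ble 79872 i))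
noncomputable def nd1707 (i : Nat) : Nat := (Bool.rec (motive := fun _ => Nat) (nl3330 i) (nl3331 i) (Nat.ble 84992 i))
noncomputable def nd1708 (i : Nat) : Nat := (Bool.rec (motive := fun _ => Nat) (nl3332 i) (nl3333 i) (Nat.ble 87040 i))
noncomputable def nd1709 (i : Nat) : Nat := (Bool.rec (motive := fun _ => Nat) (nl3334 i) (nl3335 i) (Nat.ble 89088 i))
noncomputable def nd1710 (i : Nat) : Nat := (Bool.rec (motive := fun _ => Nat) (nl3336 i) (nl3337 i) (Nat.ble 91136 i))
noncomputable def nd1706 (i : Nat) : Nat := (Bool.rec (motive := fun _ => Nat) ((Bool.rec (motive := fun _ => Nat) (nd1707 i) (nd1708 i) (Nat.ble 86016 i))) ((Bool.rec (motive := fun _ => Nat) (nd1709 i) (nd1710 i) (Nat.ble 90112 i))) (Nat.ble 88064 i))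
noncomputable def nd1692 (i : Nat) : Nat := (Bool.rec (motive := fun _ => Nat) ((Bool.rec (motive := fun _ => Nat) (nd1693 i) (nd1697 i) (Nat.ble 68608 i))) ((Bool.rec (motive := fun _ => Nat) (nd1702 i) (nd1706 i) (Nat.ble 83968 i))) (Nat.ble 76800 i))
noncomputable def nd1713 (i : Nat) : Nat := (Bool.rec (motive := fun _ => Nat) (nl3339 i) (nl3340 i) (Nat.ble 94208 i))
noncomputable def nd1714 (i : Nat) : Nat := (Bool.rec (motive := fun _ => Nat) (nl3341 i) (nl3342 i) (Nat.ble 96256 i))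
noncomputable def nd1715 (i : Nat) : Nat := (Bool.rec (motive := fun _ => Nat) (nl3343 i) (nl3344 i) (Nat.ble 98304 i))
noncomputable def nd1712 (i : Nat) : Nat := (Bool.rec (motive := fun _ => Nat) ((Bool.rec (motive := fun _ => Nat) (nl3338 i) (nd1713 i) (Nat.ble 93184 i))) ((Bool.rec (motive := fun _ => Nat) (nd1714 i) (nd1715 i) (Nat.ble 97280 i))) (Nat.ble 95232 i))
noncomputable def nd1717 (i : Nat) : Nat := (Bool.rec (motive := fun _ => Nat) (nl3345 i) (nl3346 i) (Nat.ble 100352 i))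
noncomputable def nd1718 (i : Nat) : Nat := (Bool.rec (motive := fun _ => Nat) (nl3347 i) (nl3348 i) (Nat.ble 102400 i))
noncomputable def nd1719 (i : Nat) : Nat := (Bool.rec (motive := fun _ => Nat) (nl3349 i) (nl3350 i) (Nat.ble 104448 i))
noncomputable def nd1720 (i : Nat) : Nat := (Bool.rec (motive := fun _ => Nat) (nl3351 i) (nl3352 i) (Nat.ble 106496 i))
noncomputable def nd1716 (i : Nat) : Nat := (Bool.rec (motive := fun _ => Nat) ((Bool.rec (motive := fun _ => Nat) (nd1717 i) (nd1718 i) (Nat.ble 101376 i))) ((Bool.rec (motive := fun _ => Nat) (nd1719 i) (nd1720 i) (Nat.ble 105472 i))) (Nat.ble 103424 i))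
noncomputable def nd1722 (i : Nat) : Nat := (Bool.rec (motive := fun _ => Nat) (nl3354 i) (nl3355 i) (Nat.ble 109568 i))
noncomputable def nd1723 (i : Nat) : Nat := (Bool.rec (motive := fun _ => Nat) (nl3356 i) (nl3357 i) (Nat.ble 111616 i))
noncomputable def nd1724 (i : Nat) : Nat := (Bool.rec (motive := fun _ => Nat) (nl3358 i) (nl3359 i) (Nat.ble 113664 i))
noncomputable def nd1721 (i : Nat) : Nat := (Bool.rec (motive := fun _ => Nat) ((Bool.rec (motive := fun _ => Nat) (nl3353 i) (nd1722 i) (Nat.ble 108544 i))) ((Bool.rec (motive := fun _ => Nat) (nd1723 i) (nd1724 i) (Nat.ble 112640 i))) (Nat.ble 110592 i))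
noncomputable def nd1726 (i : Nat) : Nat := (Bool.rec (motive := fun _ => Nat) (nl3360 i) (nl3361 i) (Nat.ble 115712 i))
noncomputable def nd1727 (i : Nat) : Nat := (Bool.rec (motive := fun _ => Nat) (nl3362 i) (nl3363 i) (Nat.ble 117760 i))
noncomputable def nd1728 (i : Nat) : Nat := (Bool.rec (motive := fun _ => Nat) (nl3364 i) (nl3365 i) (Nat.ble 119808 i))
noncomputable def nd1729 (i : Nat) : Nat := (Bool.rec (motive := fun _ => Nat) (nl3366 i) (nl3367 i) (Nat.ble 121856 i))
noncomputable def nd1725 (i : Nat) : Nat := (Bool.rec (motive := fun _ => Nat) ((Bool.rec (motive := fun _ => Nat) (nd1726 i) (nd1727 i) (Nat.ble 116736 i))) ((Bool.rec (motive := fun _ => Nat) (nd1728 i) (nd1729 i) (Nat.ble 120832 i))) (Nat.ble 118784 i))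
noncomputable def nd1711 (i : Nat) : Nat := (Bool.rec (motive := fun _ => Nat) ((Bool.rec (motive := fun _ => Nat) (nd1712 i) (nd1716 i) (Nat.ble 99328 i))) ((Bool.rec (motive := fun _ => Nat) (nd1721 i) (nd1725 i) (Nat.ble 114688 i))) (Nat.ble 107520 i))
noncomputable def nd1653 (i : Nat) : Nat := (Bool.rec (motive := fun _ => Nat) ((Bool.rec (motive := fun _ => Nat) (nd1654 i) (nd1673 i) (Nat.ble 30720 i))) ((Bool.rec (motive := fun _ => Nat) (nd1692 i) (nd1711 i) (Nat.ble 92160 i))) (Nat.ble 61440 i))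
noncomputable def nd1733 (i : Nat) : Nat := (Bool.rec (motive := fun _ => Nat) (nl3369 i) (nl3370 i) (Nat.ble 2048 i))
noncomputable def nd1734 (i : Nat) : Nat := (Bool.rec (motive := fun _ => Nat) (nl3371 i) (nl3372 i) (Nat.ble 4096 i))
noncomputable def nd1735 (i : Nat) : Nat := (Bool.rec (motive := fun _ => Nat) (nl3373 i) (nl3374 i) (Nat.ble 6144 i))
noncomputable def nd1732 (i : Nat) : Nat := (Bool.rec (motive := fun _ => Nat) ((Bool.rec (motive := fun _ => Nat) (nl3368 i) (nd1733 i) (Nat.ble 1024 i))) ((Bool.rec (motive := fun _ => Nat) (nd1734 i) (nd1735 i) (Nat.ble 5120 i))) (Nat.ble 3072 i))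
noncomputable def nd1737 (i : Nat) : Nat := (Bool.rec (motive := fun _ => Nat) (nl3375 i) (nl3376 i) (Nat.ble 8192 i))
noncomputable def nd1738 (i : Nat) : Nat := (Bool.rec (motive := fun _ => Nat) (nl3377 i) (nl3378 i) (Nat.ble 10240 i))
noncomputable def nd1739 (i : Nat) : Nat := (Bool.rec (motive := fun _ => Nat) (nl3379 i) (nl3380 i) (Nat.ble 12288 i))
noncomputable def nd1740 (i : Nat) : Nat := (Bool.rec (motive := fun _ => Nat) (nl3381 i) (nl3382 i) (Nat.ble 14336 i))
noncomputable def nd1736 (i : Nat) : Nat := (Bool.rec (motive := fun _ => Nat) ((Bool.rec (motive := fun _ => Nat) (nd1737 i) (nd1738 i) (Nat.ble 9216 i))) ((Bool.rec (motive := fun _ => Nat) (nd1739 i) (nd1740 i) (Nat.ble 13312 i))) (Nat.ble 11264 i))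
noncomputable def nd1742 (i : Nat) : Nat := (Bool.rec (motive := fun _ => Nat) (nl3384 i) (nl3385 i) (Nat.ble 17408 i))
noncomputable def nd1743 (i : Nat) : Nat := (Bool.rec (motive := fun _ => Nat) (nl3386 i) (nl3387 i) (Nat.ble 19456 i))
noncomputable def nd1744 (i : Nat) : Nat := (Bool.rec (motive := fun _ => Nat) (nl3388 i) (nl3389 i) (Nat.ble 21504 i))
noncomputable def nd1741 (i : Nat) : Nat := (Bool.rec (motive := fun _ => Nat) ((Bool.rec (motive := fun _ => Nat) (nl3383 i) (nd1742 i) (Nat.ble 16384 i))) ((Bool.rec (motive := fun _ => Nat) (nd1743 i) (nd1744 i) (Nat.ble 20480 i))) (Nat.ble 18432 i))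
noncomputable def nd1746 (i : Nat) : Nat := (Bool.rec (motive := fun _ => Nat) (nl3390 i) (nl3391 i) (Nat.ble 23552 i))
noncomputable def nd1747 (i : Nat) : Nat := (Bool.rec (motive := fun _ => Nat) (nl3392 i) (nl3393 i) (Nat.ble 25600 i))
noncomputable def nd1748 (i : Nat) : Nat := (Bool.rec (motive := fun _ => Nat) (nl3394 i) (nl3395 i) (Nat.ble 27648 i))
noncomputable def nd1749 (i : Nat) : Nat := (Bool.rec (motive := fun _ => Nat) (nl3396 i) (nl3397 i) (Nat.ble 29696 i))
noncomputable def nd1745 (i : Nat) : Nat := (Bool.rec (motive := fun _ => Nat) ((Bool.rec (motive := fun _ => Nat) (nd1746 i) (nd1747 i) (Nat.ble 24576 i))) ((Bool.rec (motive := fun _ => Nat) (nd1748 i) (nd1749 i) (Nat.ble 28672 i))) (Nat.ble 26624 i))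
noncomputable def nd1731 (i : Nat) : Nat := (Bool.rec (motive := fun _ => Nat) ((Bool.rec (motive := fun _ => Nat) (nd1732 i) (nd1736 i) (Nat.ble 7168 i))) ((Bool.rec (motive := fun _ => Nat) (nd1741 i) (nd1745 i) (Nat.ble 22528 i))) (Nat.ble 15360 i))
noncomputable def nd1752 (i : Nat) : Nat := (Bool.rec (motive := fun _ => Nat) (nl3399 i) (nl3400 i) (Nat.ble 32768 i))
noncomputable def nd1753 (i : Nat) : Nat := (Bool.rec (motive := fun _ => Nat) (nl3401 i) (nl3402 i) (Nat.ble 34816 i))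
noncomputable def nd1754 (i : Nat) : Nat := (Bool.rec (motive := fun _ => Nat) (nl3403 i) (nl3404 i) (Nat.ble 36864 i))
noncomputable def nd1751 (i : Nat) : Nat := (Bool.rec (motive := fun _ => Nat) ((Bool.rec (motive := fun _ => Nat) (nl3398 i) (nd1752 i) (Nat.ble 31744 i))) ((Bool.rec (motive := fun _ => Nat) (nd1753 i) (nd1754 i) (Nat.ble 35840 i))) (Nat.ble 33792 i))
noncomputable def nd1756 (i : Nat) : Nat := (Bool.rec (motive := fun _ => Nat) (nl3405 i) (nl3406 i) (Nat.ble 38912 i))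
noncomputable def nd1757 (i : Nat) : Nat := (Bool.rec (motive := fun _ => Nat) (nl3407 i) (nl3408 i) (Nat.ble 40960 i))
noncomputable def nd1758 (i : Nat) : Nat := (Bool.rec (motive := fun _ => Nat) (nl3409 i) (nl3410 i) (Nat.ble 43008 i))
noncomputable def nd1759 (i : Nat) : Nat := (Bool.rec (motive := fun _ => Nat) (nl3411 i) (nl3412 i) (Nat.ble 45056 i))
noncomputable def nd1755 (i : Nat) : Nat := (Bool.rec (motive := fun _ => Nat) ((Bool.rec (motive := fun _ => Nat) (nd1756 i) (nd1757 i) (Nat.ble 39936 i))) ((Bool.rec (motive := fun _ => Nat) (nd1758 i) (nd1759 i) (Nat.ble 44032 i))) (Nat.ble 41984 i))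
noncomputable def nd1761 (i : Nat) : Nat := (Bool.rec (motive := fun _ => Nat) (nl3414 i) (nl3415 i) (Nat.ble 48128 i))
noncomputable def nd1762 (i : Nat) : Nat := (Bool.rec (motive := fun _ => Nat) (nl3416 i) (nl3417 i) (Nat.ble 50176 i))
noncomputable def nd1763 (i : Nat) : Nat := (Bool.rec (motive := fun _ => Nat) (nl3418 i) (nl3419 i) (Nat.ble 52224 i))
noncomputable def nd1760 (i : Nat) : Nat := (Bool.rec (motive := fun _ => Nat) ((Bool.rec (motive := fun _ => Nat) (nl3413 i) (nd1761 i) (Nat.ble 47104 i))) ((Bool.rec (motive := fun _ => Nat) (nd1762 i) (nd1763 i) (Nat.ble 51200 i))) (Nat.ble 49152 i))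
noncomputable def nd1765 (i : Nat) : Nat := (Bool.rec (motive := fun _ => Nat) (nl3420 i) (nl3421 i) (Nat.ble 54272 i))
noncomputable def nd1766 (i : Nat) : Nat := (Bool.rec (motive := fun _ => Nat) (nl3422 i) (nl3423 i) (Nat.ble 56320 i))
noncomputable def nd1767 (i : Nat) : Nat := (Bool.rec (motive := fun _ => Nat) (nl3424 i) (nl3425 i) (Nat.ble 58368 i))
noncomputable def nd1768 (i : Nat) : Nat := (Bool.rec (motive := fun _ => Nat) (nl3426 i) (nl3427 i) (Nat.ble 60416 i))
noncomputable def nd1764 (i : Nat) : Nat := (Bool.rec (motive := fun _ => Nat) ((Bool.rec (motive := fun _ => Nat) (nd1765 i) (nd1766 i) (Nat.ble 55296 i))) ((Bool.rec (motive := fun _ => Nat) (nd1767 i) (nd1768 i) (Nat.ble 59392 i))) (Nat.ble 57344 i))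
noncomputable def nd1750 (i : Nat) : Nat := (Bool.rec (motive := fun _ => Nat) ((Bool.rec (motive := fun _ => Nat) (nd1751 i) (nd1755 i) (Nat.ble 37888 i))) ((Bool.rec (motive := fun _ => Nat) (nd1760 i) (nd1764 i) (Nat.ble 53248 i))) (Nat.ble 46080 i))
noncomputable def nd1771 (i : Nat) : Nat := (Bool.rec (motive := fun _ => Nat) (nl3429 i) (nl3430 i) (Nat.ble 63488 i))
noncomputable def nd1772 (i : Nat) : Nat := (Bool.rec (motive := fun _ => Nat) (nl3431 i) (nl3432 i) (Nat.ble 65536 i))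
noncomputable def nd1773 (i : Nat) : Nat := (Bool.rec (motive := fun _ => Nat) (nl3433 i) (nl3434 i) (Nat.ble 67584 i))
noncomputable def nd1770 (i : Nat) : Nat := (Bool.rec (motive := fun _ => Nat) ((Bool.rec (motive := fun _ => Nat) (nl3428 i) (nd1771 i) (Nat.ble 62464 i))) ((Bool.rec (motive := fun _ => Nat) (nd1772 i) (nd1773 i) (Nat.ble 66560 i))) (Nat.ble 64512 i))
noncomputable def nd1775 (i : Nat) : Nat := (Bool.rec (motive := fun _ => Nat) (nl3435 i) (nl3436 i) (Nat.ble 69632 i))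
noncomputable def nd1776 (i : Nat) : Nat := (Bool.rec (motive := fun _ => Nat) (nl3437 i) (nl3438 i) (Nat.ble 71680 i))
noncomputable def nd1777 (i : Nat) : Nat := (Bool.rec (motive := fun _ => Nat) (nl3439 i) (nl3440 i) (Nat.ble 73728 i))
noncomputable def nd1778 (i : Nat) : Nat := (Bool.rec (motive := fun _ => Nat) (nl3441 i) (nl3442 i) (Nat.ble 75776 i))
noncomputable def nd1774 (i : Nat) : Nat := (Bool.rec (motive := fun _ => Nat) ((Bool.rec (motive := fun _ => Nat) (nd1775 i) (nd1776 i) (Nat.ble 70656 i))) ((Bool.rec (motive := fun _ => Nat) (nd1777 i) (nd1778 i) (Nat.ble 74752 i))) (Nat.ble 72704 i))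
noncomputable def nd1780 (i : Nat) : Nat := (Bool.rec (motive := fun _ => Nat) (nl3444 i) (nl3445 i) (Nat.ble 78848 i))
noncomputable def nd1781 (i : Nat) : Nat := (Bool.rec (motive := fun _ => Nat) (nl3446 i) (nl3447 i) (Nat.ble 80896 i))
noncomputable def nd1782 (i : Nat) : Nat := (Bool.rec (motive := fun _ => Nat) (nl3448 i) (nl3449 i) (Nat.ble 82944 i))
noncomputable def nd1779 (i : Nat) : Nat := (Bool.rec (motive := fun _ => Nat) ((Bool.rec (motive := fun _ => Nat) (nl3443 i) (nd1780 i) (Nat.ble 77824 i))) ((Bool.rec (motive := fun _ => Nat) (nd1781 i) (nd1782 i) (Nat.ble 81920 i))) (Nat.ble 79872 i))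
noncomputable def nd1784 (i : Nat) : Nat := (Bool.rec (motive := fun _ => Nat) (nl3450 i) (nl3451 i) (Nat.ble 84992 i))
noncomputable def nd1785 (i : Nat) : Nat := (Bool.rec (motive := fun _ => Nat) (nl3452 i) (nl3453 i) (Nat.ble 87040 i))
noncomputable def nd1786 (i : Nat) : Nat := (Bool.rec (motive := fun _ => Nat) (nl3454 i) (nl3455 i) (Nat.ble 89088 i))
noncomputable def nd1787 (i : Nat) : Nat := (Bool.rec (motive := fun _ => Nat) (nl3456 i) (nl3457 i) (Nat.ble 91136 i))
noncomputable def nd1783 (i : Nat) : Nat := (Bool.rec (motive := fun _ => Nat) ((Bool.rec (motive := fun _ => Nat) (nd1784 i) (nd1785 i) (Nat.ble 86016 i))) ((Bool.rec (motive := fun _ => Nat) (nd1786 i) (nd1787 i) (Nat.ble 90112 i))) (Nat.ble 88064 i))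
noncomputable def nd1769 (i : Nat) : Nat := (Bool.rec (motive := fun _ => Nat) ((Bool.rec (motive := fun _ => Nat) (nd1770 i) (nd1774 i) (Nat.ble 68608 i))) ((Bool.rec (motive := fun _ => Nat) (nd1779 i) (nd1783 i) (Nat.ble 83968 i))) (Nat.ble 76800 i))
noncomputable def nd1790 (i : Nat) : Nat := (Bool.rec (motive := fun _ => Nat) (nl3459 i) (nl3460 i) (Nat.ble 94208 i))
noncomputable def nd1791 (i : Nat) : Nat := (Bool.rec (motive := fun _ => Nat) (nl3461 i) (nl3462 i) (Nat.ble 96256 i))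
noncomputable def nd1792 (i : Nat) : Nat := (Bool.rec (motive := fun _ => Nat) (nl3463 i) (nl3464 i) (Nat.ble 98304 i))
noncomputable def nd1789 (i : Nat) : Nat := (Bool.rec (motive := fun _ => Nat) ((Bool.rec (motive := fun _ => Nat) (nl3458 i) (nd1790 i) (Nat.ble 93184 i))) ((Bool.rec (motive := fun _ => Nat) (nd1791 i) (nd1792 i) (Nat.ble 97280 i))) (Nat.ble 95232 i))
noncomputable def nd1794 (i : Nat) : Nat := (Bool.rec (motive := fun _ => Nat) (nl3465 i) (nl3466 i) (Nat.ble 100352 i))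
noncomputable def nd1795 (i : Nat) : Nat := (Bool.rec (motive := fun _ => Nat) (nl3467 i) (nl3468 i) (Nat.ble 102400 i))
noncomputable def nd1796 (i : Nat) : Nat := (Bool.rec (motive := fun _ => Nat) (nl3469 i) (nl3470 i) (Nat.ble 104448 i))
noncomputable def nd1797 (i : Nat) : Nat := (Bool.rec (motive := fun _ => Nat) (nl3471 i) (nl3472 i) (Nat.ble 106496 i))
noncomputable def nd1793 (i : Nat) : Nat := (Bool.rec (motive := fun _ => Nat) ((Bool.rec (motive := fun _ => Nat) (nd1794 i) (nd1795 i) (Nat.ble 101376 i))) ((Bool.rec (motive := fun _ => Nat) (nd1796 i) (nd1797 i) (Nat.ble 105472 i))) (Nat.ble 103424 i))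
noncomputable def nd1799 (i : Nat) : Nat := (Bool.rec (motive := fun _ => Nat) (nl3474 i) (nl3475 i) (Nat.ble 109568 i))
noncomputable def nd1800 (i : Nat) : Nat := (Bool.rec (motive := fun _ => Nat) (nl3476 i) (nl3477 i) (Nat.ble 111616 i))
noncomputable def nd1801 (i : Nat) : Nat := (Bool.rec (motive := fun _ => Nat) (nl3478 i) (nl3479 i) (Nat.ble 113664 i))
noncomputable def nd1798 (i : Nat) : Nat := (Bool.rec (motive := fun _ => Nat) ((Bool.rec (motive := fun _ => Nat) (nl3473 i) (nd1799 i) (Nat.ble 108544 i))) ((Bool.rec (motive := fun _ => Nat) (nd1800 i) (nd1801 i) (Nat.ble 112640 i))) (Nat.ble 110592 i))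
noncomputable def nd1803 (i : Nat) : Nat := (Bool.rec (motive := fun _ => Nat) (nl3480 i) (nl3481 i) (Nat.ble 115712 i))
noncomputable def nd1804 (i : Nat) : Nat := (Bool.rec (motive := fun _ => Nat) (nl3482 i) (nl3483 i) (Nat.ble 117760 i))
noncomputable def nd1805 (i : Nat) : Nat := (Bool.rec (motive := fun _ => Nat) (nl3484 i) (nl3485 i) (Nat.ble 119808 i))
noncomputable def nd1806 (i : Nat) : Nat := (Bool.rec (motive := fun _ => Nat) (nl3486 i) (nl3487 i) (Nat.ble 121856 i))
noncomputable def nd1802 (i : Nat) : Nat := (Bool.rec (motive := fun _ => Nat) ((Bool.rec (motive := fun _ => Nat) (nd1803 i) (nd1804 i) (Nat.ble 116736 i))) ((Bool.rec (motive := fun _ => Nat) (nd1805 i) (nd1806 i) (Nat.ble 120832 i))) (Nat.ble 118784 i))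
noncomputable def nd1788 (i : Nat) : Nat := (Bool.rec (motive := fun _ => Nat) ((Bool.rec (motive := fun _ => Nat) (nd1789 i) (nd1793 i) (Nat.ble 99328 i))) ((Bool.rec (motive := fun _ => Nat) (nd1798 i) (nd1802 i) (Nat.ble 114688 i))) (Nat.ble 107520 i))
noncomputable def nd1730 (i : Nat) : Nat := (Bool.rec (motive := fun _ => Nat) ((Bool.rec (motive := fun _ => Nat) (nd1731 i) (nd1750 i) (Nat.ble 30720 i))) ((Bool.rec (motive := fun _ => Nat) (nd1769 i) (nd1788 i) (Nat.ble 92160 i))) (Nat.ble 61440 i))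
noncomputable def nd1810 (i : Nat) : Nat := (Bool.rec (motive := fun _ => Nat) (nl3489 i) (nl3490 i) (Nat.ble 2048 i))
noncomputable def nd1811 (i : Nat) : Nat := (Bool.rec (motive := fun _ => Nat) (nl3491 i) (nl3492 i) (Nat.ble 4096 i))
noncomputable def nd1812 (i : Nat) : Nat := (Bool.rec (motive := fun _ => Nat) (nl3493 i) (nl3494 i) (Nat.ble 6144 i))
noncomputable def nd1809 (i : Nat) : Nat := (Bool.rec (motive := fun _ => Nat) ((Bool.rec (motive := fun _ => Nat) (nl3488 i) (nd1810 i) (Nat.ble 1024 i))) ((Bool.rec (motive := fun _ => Nat) (nd1811 i) (nd1812 i) (Nat.ble 5120 i))) (Nat.ble 3072 i))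
noncomputable def nd1814 (i : Nat) : Nat := (Bool.rec (motive := fun _ => Nat) (nl3495 i) (nl3496 i) (Nat.ble 8192 i))
noncomputable def nd1815 (i : Nat) : Nat := (Bool.rec (motive := fun _ => Nat) (nl3497 i) (nl3498 i) (Nat.ble 10240 i))
noncomputable def nd1816 (i : Nat) : Nat := (Bool.rec (motive := fun _ => Nat) (nl3499 i) (nl3500 i) (Nat.ble 12288 i))
noncomputable def nd1817 (i : Nat) : Nat := (Bool.rec (motive := fun _ => Nat) (nl3501 i) (nl3502 i) (Nat.ble 14336 i))
noncomputable def nd1813 (i : Nat) : Nat := (Bool.rec (motive := fun _ => Nat) ((Bool.rec (motive := fun _ => Nat) (nd1814 i) (nd1815 i) (Nat.ble 9216 i))) ((Bool.rec (motive := fun _ => Nat) (nd1816 i) (nd1817 i) (Nat.ble 13312 i))) (Nat.ble 11264 i))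
noncomputable def nd1819 (i : Nat) : Nat := (Bool.rec (motive := fun _ => Nat) (nl3504 i) (nl3505 i) (Nat.ble 17408 i))
noncomputable def nd1820 (i : Nat) : Nat := (Bool.rec (motive := fun _ => Nat) (nl3506 i) (nl3507 i) (Nat.ble 19456 i))
noncomputable def nd1821 (i : Nat) : Nat := (Bool.rec (motive := fun _ => Nat) (nl3508 i) (nl3509 i) (Nat.ble 21504 i))
noncomputable def nd1818 (i : Nat) : Nat := (Bool.rec (motive := fun _ => Nat) ((Bool.rec (motive := fun _ => Nat) (nl3503 i) (nd1819 i) (Nat.ble 16384 i))) ((Bool.rec (motive := fun _ => Nat) (nd1820 i) (nd1821 i) (Nat.ble 20480 i))) (Nat.ble 18432 i))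
noncomputable def nd1823 (i : Nat) : Nat := (Bool.rec (motive := fun _ => Nat) (nl3510 i) (nl3511 i) (Nat.ble 23552 i))
noncomputable def nd1824 (i : Nat) : Nat := (Bool.rec (motive := fun _ => Nat) (nl3512 i) (nl3513 i) (Nat.ble 25600 i))
noncomputable def nd1825 (i : Nat) : Nat := (Bool.rec (motive := fun _ => Nat) (nl3514 i) (nl3515 i) (Nat.ble 27648 i))
noncomputable def nd1826 (i : Nat) : Nat := (Bool.rec (motive := fun _ => Nat) (nl3516 i) (nl3517 i) (Nat.ble 29696 i))
noncomputable def nd1822 (i : Nat) : Nat := (Bool.rec (motive := fun _ => Nat) ((Bool.rec (motive := fun _ => Nat) (nd1823 i) (nd1824 i) (Nat.ble 24576 i))) ((Bool.rec (motive := fun _ => Nat) (nd1825 i) (nd1826 i) (Nat.ble 28672 i))) (Nat.ble 26624 i))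
noncomputable def nd1808 (i : Nat) : Nat := (Bool.rec (motive := fun _ => Nat) ((Bool.rec (motive := fun _ => Nat) (nd1809 i) (nd1813 i) (Nat.ble 7168 i))) ((Bool.rec (motive := fun _ => Nat) (nd1818 i) (nd1822 i) (Nat.ble 22528 i))) (Nat.ble 15360 i))
noncomputable def nd1829 (i : Nat) : Nat := (Bool.rec (motive := fun _ => Nat) (nl3519 i) (nl3520 i) (Nat.ble 32768 i))
noncomputable def nd1830 (i : Nat) : Nat := (Bool.rec (motive := fun _ => Nat) (nl3521 i) (nl3522 i) (Nat.ble 34816 i))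
noncomputable def nd1831 (i : Nat) : Nat := (Bool.rec (motive := fun _ => Nat) (nl3523 i) (nl3524 i) (Nat.ble 36864 i))
noncomputable def nd1828 (i : Nat) : Nat := (Bool.rec (motive := fun _ => Nat) ((Bool.rec (motive := fun _ => Nat) (nl3518 i) (nd1829 i) (Nat.ble 31744 i))) ((Bool.rec (motive := fun _ => Nat) (nd1830 i) (nd1831 i) (Nat.ble 35840 i))) (Nat.ble 33792 i))
noncomputable def nd1833 (i : Nat) : Nat := (Bool.rec (motive := fun _ => Nat) (nl3525 i) (nl3526 i) (Nat.ble 38912 i))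
noncomputable def nd1834 (i : Nat) : Nat := (Bool.rec (motive := fun _ => Nat) (nl3527 i) (nl3528 i) (Nat.ble 40960 i))
noncomputable def nd1835 (i : Nat) : Nat := (Bool.rec (motive := fun _ => Nat) (nl3529 i) (nl3530 i) (Nat.ble 43008 i))
noncomputable def nd1836 (i : Nat) : Nat := (Bool.rec (motive := fun _ => Nat) (nl3531 i) (nl3532 i) (Nat.ble 45056 i))
noncomputable def nd1832 (i : Nat) : Nat := (Bool.rec (motive := fun _ => Nat) ((Bool.rec (motive := fun _ => Nat) (nd1833 i) (nd1834 i) (Nat.ble 39936 i))) ((Bool.rec (motive := fun _ => Nat) (nd1835 i) (nd1836 i) (Nat.ble 44032 i))) (Nat.ble 41984 i))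
noncomputable def nd1838 (i : Nat) : Nat := (Bool.rec (motive := fun _ => Nat) (nl3534 i) (nl3535 i) (Nat.ble 48128 i))
noncomputable def nd1839 (i : Nat) : Nat := (Bool.rec (motive := fun _ => Nat) (nl3536 i) (nl3537 i) (Nat.ble 50176 i))
noncomputable def nd1840 (i : Nat) : Nat := (Bool.rec (motive := fun _ => Nat) (nl3538 i) (nl3539 i) (Nat.ble 52224 i))
noncomputable def nd1837 (i : Nat) : Nat := (Bool.rec (motive := fun _ => Nat) ((Bool.rec (motive := fun _ => Nat) (nl3533 i) (nd1838 i) (Nat.ble 47104 i))) ((Bool.rec (motive := fun _ => Nat) (nd1839 i) (nd1840 i) (Nat.ble 51200 i))) (Nat.ble 49152 i))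
noncomputable def nd1842 (i : Nat) : Nat := (Bool.rec (motive := fun _ => Nat) (nl3540 i) (nl3541 i) (Nat.ble 54272 i))
noncomputable def nd1843 (i : Nat) : Nat := (Bool.rec (motive := fun _ => Nat) (nl3542 i) (nl3543 i) (Nat.ble 56320 i))
noncomputable def nd1844 (i : Nat) : Nat := (Bool.rec (motive := fun _ => Nat) (nl3544 i) (nl3545 i) (Nat.ble 58368 i))
noncomputable def nd1845 (i : Nat) : Nat := (Bool.rec (motive := fun _ => Nat) (nl3546 i) (nl3547 i) (Nat.ble 60416 i))
noncomputable def nd1841 (i : Nat) : Nat := (Bool.rec (motive := fun _ => Nat) ((Bool.rec (motive := fun _ => Nat) (nd1842 i) (nd1843 i) (Nat.ble 55296 i))) ((Bool.rec (motive := fun _ => Nat) (nd1844 i) (nd1845 i) (Nat.ble 59392 i))) (Nat.ble 57344 i))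
noncomputable def nd1827 (i : Nat) : Nat := (Bool.rec (motive := fun _ => Nat) ((Bool.rec (motive := fun _ => Nat) (nd1828 i) (nd1832 i) (Nat.ble 37888 i))) ((Bool.rec (motive := fun _ => Nat) (nd1837 i) (nd1841 i) (Nat.ble 53248 i))) (Nat.ble 46080 i))
noncomputable def nd1848 (i : Nat) : Nat := (Bool.rec (motive := fun _ => Nat) (nl3549 i) (nl3550 i) (Nat.ble 63488 i))
noncomputable def nd1849 (i : Nat) : Nat := (Bool.rec (motive := fun _ => Nat) (nl3551 i) (nl3552 i) (Nat.ble 65536 i))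
noncomputable def nd1850 (i : Nat) : Nat := (Bool.rec (motive := fun _ => Nat) (nl3553 i) (nl3554 i) (Nat.ble 67584 i))
noncomputable def nd1847 (i : Nat) : Nat := (Bool.rec (motive := fun _ => Nat) ((Bool.rec (motive := fun _ => Nat) (nl3548 i) (nd1848 i) (Nat.ble 62464 i))) ((Bool.rec (motive := fun _ => Nat) (nd1849 i) (nd1850 i) (Nat.ble 66560 i))) (Nat.ble 64512 i))
noncomputable def nd1852 (i : Nat) : Nat := (Bool.rec (motive := fun _ => Nat) (nl3555 i) (nl3556 i) (Nat.ble 69632 i))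
noncomputable def nd1853 (i : Nat) : Nat := (Bool.rec (motive := fun _ => Nat) (nl3557 i) (nl3558 i) (Nat.ble 71680 i))
noncomputable def nd1854 (i : Nat) : Nat := (Bool.rec (motive := fun _ => Nat) (nl3559 i) (nl3560 i) (Nat.ble 73728 i))
noncomputable def nd1855 (i : Nat) : Nat := (Bool.rec (motive := fun _ => Nat) (nl3561 i) (nl3562 i) (Nat.ble 75776 i))
noncomputable def nd1851 (i : Nat) : Nat := (Bool.rec (motive := fun _ => Nat) ((Bool.rec (motive := fun _ => Nat) (nd1852 i) (nd1853 i) (Nat.ble 70656 i))) ((Bool.rec (motive := fun _ => Nat) (nd1854 i) (nd1855 i) (Nat.ble 74752 i))) (Nat.ble 72704 i))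
noncomputable def nd1857 (i : Nat) : Nat := (Bool.rec (motive := fun _ => Nat) (nl3564 i) (nl3565 i) (Nat.ble 78848 i))
noncomputable def nd1858 (i : Nat) : Nat := (Bool.rec (motive := fun _ => Nat) (nl3566 i) (nl3567 i) (Nat.ble 80896 i))
noncomputable def nd1859 (i : Nat) : Nat := (Bool.rec (motive := fun _ => Nat) (nl3568 i) (nl3569 i) (Nat.ble 82944 i))
noncomputable def nd1856 (i : Nat) : Nat := (Bool.rec (motive := fun _ => Nat) ((Bool.rec (motive := fun _ => Nat) (nl3563 i) (nd1857 i) (Nat.ble 77824 i))) ((Bool.rec (motive := fun _ => Nat) (nd1858 i) (nd1859 i) (Nat.ble 81920 i))) (Nat.ble 79872 i))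
noncomputable def nd1861 (i : Nat) : Nat := (Bool.rec (motive := fun _ => Nat) (nl3570 i) (nl3571 i) (Nat.ble 84992 i))
noncomputable def nd1862 (i : Nat) : Nat := (Bool.rec (motive := fun _ => Nat) (nl3572 i) (nl3573 i) (Nat.ble 87040 i))
noncomputable def nd1863 (i : Nat) : Nat := (Bool.rec (motive := fun _ => Nat) (nl3574 i) (nl3575 i) (Nat.ble 89088 i))
noncomputable def nd1864 (i : Nat) : Nat := (Bool.rec (motive := fun _ => Nat) (nl3576 i) (nl3577 i) (Nat.ble 91136 i))
noncomputable def nd1860 (i : Nat) : Nat := (Bool.rec (motive := fun _ => Nat) ((Bool.rec (motive := fun _ => Nat) (nd1861 i) (nd1862 i) (Nat.ble 86016 i))) ((Bool.rec (motive := fun _ => Nat) (nd1863 i) (nd1864 i) (Nat.ble 90112 i))) (Nat.ble 88064 i))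
noncomputable def nd1846 (i : Nat) : Nat := (Bool.rec (motive := fun _ => Nat) ((Bool.rec (motive := fun _ => Nat) (nd1847 i) (nd1851 i) (Nat.ble 68608 i))) ((Bool.rec (motive := fun _ => Nat) (nd1856 i) (nd1860 i) (Nat.ble 83968 i))) (Nat.ble 76800 i))
noncomputable def nd1867 (i : Nat) : Nat := (Bool.rec (motive := fun _ => Nat) (nl3579 i) (nl3580 i) (Nat.ble 94208 i))
noncomputable def nd1868 (i : Nat) : Nat := (Bool.rec (motive := fun _ => Nat) (nl3581 i) (nl3582 i) (Nat.ble 96256 i))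
noncomputable def nd1869 (i : Nat) : Nat := (Bool.rec (motive := fun _ => Nat) (nl3583 i) (nl3584 i) (Nat.ble 98304 i))
noncomputable def nd1866 (i : Nat) : Nat := (Bool.rec (motive := fun _ => Nat) ((Bool.rec (motive := fun _ => Nat) (nl3578 i) (nd1867 i) (Nat.ble 93184 i))) ((Bool.rec (motive := fun _ => Nat) (nd1868 i) (nd1869 i) (Nat.ble 97280 i))) (Nat.ble 95232 i))
noncomputable def nd1871 (i : Nat) : Nat := (Bool.rec (motive := fun _ => Nat) (nl3585 i) (nl3586 i) (Nat.ble 100352 i))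
noncomputable def nd1872 (i : Nat) : Nat := (Bool.rec (motive := fun _ => Nat) (nl3587 i) (nl3588 i) (Nat.ble 102400 i))
noncomputable def nd1873 (i : Nat) : Nat := (Bool.rec (motive := fun _ => Nat) (nl3589 i) (nl3590 i) (Nat.ble 104448 i))
noncomputable def nd1874 (i : Nat) : Nat := (Bool.rec (motive := fun _ => Nat) (nl3591 i) (nl3592 i) (Nat.ble 106496 i))
noncomputable def nd1870 (i : Nat) : Nat := (Bool.rec (motive := fun _ => Nat) ((Bool.rec (motive := fun _ => Nat) (nd1871 i) (nd1872 i) (Nat.ble 101376 i))) ((Bool.rec (motive := fun _ => Nat) (nd1873 i) (nd1874 i) (Nat.ble 105472 i))) (Nat.ble 103424 i))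
noncomputable def nd1876 (i : Nat) : Nat := (Bool.rec (motive := fun _ => Nat) (nl3594 i) (nl3595 i) (Nat.ble 109568 i))
noncomputable def nd1877 (i : Nat) : Nat := (Bool.rec (motive := fun _ => Nat) (nl3596 i) (nl3597 i) (Nat.ble 111616 i))
noncomputable def nd1878 (i : Nat) : Nat := (Bool.rec (motive := fun _ => Nat) (nl3598 i) (nl3599 i) (Nat.ble 113664 i))
noncomputable def nd1875 (i : Nat) : Nat := (Bool.rec (motive := fun _ => Nat) ((Bool.rec (motive := fun _ => Nat) (nl3593 i) (nd1876 i) (Nat.ble 108544 i))) ((Bool.rec (motive := fun _ => Nat) (nd1877 i) (nd1878 i) (Nat.ble 112640 i))) (Nat.ble 110592 i))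
noncomputable def nd1880 (i : Nat) : Nat := (Bool.rec (motive := fun _ => Nat) (nl3600 i) (nl3601 i) (Nat.ble 115712 i))
noncomputable def nd1881 (i : Nat) : Nat := (Bool.rec (motive := fun _ => Nat) (nl3602 i) (nl3603 i) (Nat.ble 117760 i))
noncomputable def nd1882 (i : Nat) : Nat := (Bool.rec (motive := fun _ => Nat) (nl3604 i) (nl3605 i) (Nat.ble 119808 i))
noncomputable def nd1883 (i : Nat) : Nat := (Bool.rec (motive := fun _ => Nat) (nl3606 i) (nl3607 i) (Nat.ble 121856 i))
noncomputable def nd1879 (i : Nat) : Nat := (Bool.rec (motive := fun _ => Nat) ((Bool.rec (motive := fun _ => Nat) (nd1880 i) (nd1881 i) (Nat.ble 116736 i))) ((Bool.rec (motive := fun _ => Nat) (nd1882 i) (nd1883 i) (Nat.ble 120832 i))) (Nat.ble 118784 i))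
noncomputable def nd1865 (i : Nat) : Nat := (Bool.rec (motive := fun _ => Nat) ((Bool.rec (motive := fun _ => Nat) (nd1866 i) (nd1870 i) (Nat.ble 99328 i))) ((Bool.rec (motive := fun _ => Nat) (nd1875 i) (nd1879 i) (Nat.ble 114688 i))) (Nat.ble 107520 i))
noncomputable def nd1807 (i : Nat) : Nat := (Bool.rec (motive := fun _ => Nat) ((Bool.rec (motive := fun _ => Nat) (nd1808 i) (nd1827 i) (Nat.ble 30720 i))) ((Bool.rec (motive := fun _ => Nat) (nd1846 i) (nd1865 i) (Nat.ble 92160 i))) (Nat.ble 61440 i))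
noncomputable def nd1887 (i : Nat) : Nat := (Bool.rec (motive := fun _ => Nat) (nl3609 i) (nl3610 i) (Nat.ble 2048 i))
noncomputable def nd1888 (i : Nat) : Nat := (Bool.rec (motive := fun _ => Nat) (nl3611 i) (nl3612 i) (Nat.ble 4096 i))
noncomputable def nd1889 (i : Nat) : Nat := (Bool.rec (motive := fun _ => Nat) (nl3613 i) (nl3614 i) (Nat.ble 6144 i))
noncomputable def nd1886 (i : Nat) : Nat := (Bool.rec (motive := fun _ => Nat) ((Bool.rec (motive := fun _ => Nat) (nl3608 i) (nd1887 i) (Nat.ble 1024 i))) ((Bool.rec (motive := fun _ => Nat) (nd1888 i) (nd1889 i) (Nat.ble 5120 i))) (Nat.ble 3072 i))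
noncomputable def nd1891 (i : Nat) : Nat := (Bool.rec (motive := fun _ => Nat) (nl3615 i) (nl3616 i) (Nat.ble 8192 i))
noncomputable def nd1892 (i : Nat) : Nat := (Bool.rec (motive := fun _ => Nat) (nl3617 i) (nl3618 i) (Nat.ble 10240 i))
noncomputable def nd1893 (i : Nat) : Nat := (Bool.rec (motive := fun _ => Nat) (nl3619 i) (nl3620 i) (Nat.ble 12288 i))
noncomputable def nd1894 (i : Nat) : Nat := (Bool.rec (motive := fun _ => Nat) (nl3621 i) (nl3622 i) (Nat.ble 14336 i))
noncomputable def nd1890 (i : Nat) : Nat := (Bool.rec (motive := fun _ => Nat) ((Bool.rec (motive := fun _ => Nat) (nd1891 i) (nd1892 i) (Nat.ble 9216 i))) ((Bool.rec (motive := fun _ => Nat) (nd1893 i) (nd1894 i) (Nat.ble 13312 i))) (Nat.ble 11264 i))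
noncomputable def nd1896 (i : Nat) : Nat := (Bool.rec (motive := fun _ => Nat) (nl3624 i) (nl3625 i) (Nat.ble 17408 i))
noncomputable def nd1897 (i : Nat) : Nat := (Bool.rec (motive := fun _ => Nat) (nl3626 i) (nl3627 i) (Nat.ble 19456 i))
noncomputable def nd1898 (i : Nat) : Nat := (Bool.rec (motive := fun _ => Nat) (nl3628 i) (nl3629 i) (Nat.ble 21504 i))
noncomputable def nd1895 (i : Nat) : Nat := (Bool.rec (motive := fun _ => Nat) ((Bool.rec (motive := fun _ => Nat) (nl3623 i) (nd1896 i) (Nat.ble 16384 i))) ((Bool.rec (motive := fun _ => Nat) (nd1897 i) (nd1898 i) (Nat.ble 20480 i))) (Nat.ble 18432 i))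
noncomputable def nd1900 (i : Nat) : Nat := (Bool.rec (motive := fun _ => Nat) (nl3630 i) (nl3631 i) (Nat.ble 23552 i))
noncomputable def nd1901 (i : Nat) : Nat := (Bool.rec (motive := fun _ => Nat) (nl3632 i) (nl3633 i) (Nat.ble 25600 i))
noncomputable def nd1902 (i : Nat) : Nat := (Bool.rec (motive := fun _ => Nat) (nl3634 i) (nl3635 i) (Nat.ble 27648 i))
noncomputable def nd1903 (i : Nat) : Nat := (Bool.rec (motive := fun _ => Nat) (nl3636 i) (nl3637 i) (Nat.ble 29696 i))
noncomputable def nd1899 (i : Nat) : Nat := (Bool.rec (motive := fun _ => Nat) ((Bool.rec (motive := fun _ => Nat) (nd1900 i) (nd1901 i) (Nat.ble 24576 i))) ((Bool.rec (motive := fun _ => Nat) (nd1902 i) (nd1903 i) (Nat.ble 28672 i))) (Nat.ble 26624 i))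
noncomputable def nd1885 (i : Nat) : Nat := (Bool.rec (motive := fun _ => Nat) ((Bool.rec (motive := fun _ => Nat) (nd1886 i) (nd1890 i) (Nat.ble 7168 i))) ((Bool.rec (motive := fun _ => Nat) (nd1895 i) (nd1899 i) (Nat.ble 22528 i))) (Nat.ble 15360 i))
noncomputable def nd1906 (i : Nat) : Nat := (Bool.rec (motive := fun _ => Nat) (nl3639 i) (nl3640 i) (Nat.ble 32768 i))
noncomputable def nd1907 (i : Nat) : Nat := (Bool.rec (motive := fun _ => Nat) (nl3641 i) (nl3642 i) (Nat.ble 34816 i))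
noncomputable def nd1908 (i : Nat) : Nat := (Bool.rec (motive := fun _ => Nat) (nl3643 i) (nl3644 i) (Nat.ble 36864 i))
noncomputable def nd1905 (i : Nat) : Nat := (Bool.rec (motive := fun _ => Nat) ((Bool.rec (motive := fun _ => Nat) (nl3638 i) (nd1906 i) (Nat.ble 31744 i))) ((Bool.rec (motive := fun _ => Nat) (nd1907 i) (nd1908 i) (Nat.ble 35840 i))) (Nat.ble 33792 i))
noncomputable def nd1910 (i : Nat) : Nat := (Bool.rec (motive := fun _ => Nat) (nl3645 i) (nl3646 i) (Nat.ble 38912 i))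
noncomputable def nd1911 (i : Nat) : Nat := (Bool.rec (motive := fun _ => Nat) (nl3647 i) (nl3648 i) (Nat.ble 40960 i))
noncomputable def nd1912 (i : Nat) : Nat := (Bool.rec (motive := fun _ => Nat) (nl3649 i) (nl3650 i) (Nat.ble 43008 i))
noncomputable def nd1913 (i : Nat) : Nat := (Bool.rec (motive := fun _ => Nat) (nl3651 i) (nl3652 i) (Nat.ble 45056 i))
noncomputable def nd1909 (i : Nat) : Nat := (Bool.rec (motive := fun _ => Nat) ((Bool.rec (motive := fun _ => Nat) (nd1910 i) (nd1911 i) (Nat.ble 39936 i))) ((Bool.rec (motive := fun _ => Nat) (nd1912 i) (nd1913 i) (Nat.ble 44032 i))) (Nat.ble 41984 i))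
noncomputable def nd1915 (i : Nat) : Nat := (Bool.rec (motive := fun _ => Nat) (nl3654 i) (nl3655 i) (Nat.ble 48128 i))
noncomputable def nd1916 (i : Nat) : Nat := (Bool.rec (motive := fun _ => Nat) (nl3656 i) (nl3657 i) (Nat.ble 50176 i))
noncomputable def nd1917 (i : Nat) : Nat := (Bool.rec (motive := fun _ => Nat) (nl3658 i) (nl3659 i) (Nat.ble 52224 i))
noncomputable def nd1914 (i : Nat) : Nat := (Bool.rec (motive := fun _ => Nat) ((Bool.rec (motive := fun _ => Nat) (nl3653 i) (nd1915 i) (Nat.ble 47104 i))) ((Bool.rec (motive := fun _ => Nat) (nd1916 i) (nd1917 i) (Nat.ble 51200 i))) (Nat.ble 49152 i))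
noncomputable def nd1919 (i : Nat) : Nat := (Bool.rec (motive := fun _ => Nat) (nl3660 i) (nl3661 i) (Nat.ble 54272 i))
noncomputable def nd1920 (i : Nat) : Nat := (Bool.rec (motive := fun _ => Nat) (nl3662 i) (nl3663 i) (Nat.ble 56320 i))
noncomputable def nd1921 (i : Nat) : Nat := (Bool.rec (motive := fun _ => Nat) (nl3664 i) (nl3665 i) (Nat.ble 58368 i))
noncomputable def nd1922 (i : Nat) : Nat := (Bool.rec (motive := fun _ => Nat) (nl3666 i) (nl3667 i) (Nat.ble 60416 i))
noncomputable def nd1918 (i : Nat) : Nat := (Bool.rec (motive := fun _ => Nat) ((Bool.rec (motive := fun _ => Nat) (nd1919 i) (nd1920 i) (Nat.ble 55296 i))) ((Bool.rec (motive := fun _ => Nat) (nd1921 i) (nd1922 i) (Nat.ble 59392 i))) (Nat.ble 57344 i))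
noncomputable def nd1904 (i : Nat) : Nat := (Bool.rec (motive := fun _ => Nat) ((Bool.rec (motive := fun _ => Nat) (nd1905 i) (nd1909 i) (Nat.ble 37888 i))) ((Bool.rec (motive := fun _ => Nat) (nd1914 i) (nd1918 i) (Nat.ble 53248 i))) (Nat.ble 46080 i))
noncomputable def nd1925 (i : Nat) : Nat := (Bool.rec (motive := fun _ => Nat) (nl3669 i) (nl3670 i) (Nat.ble 63488 i))
noncomputable def nd1926 (i : Nat) : Nat := (Bool.rec (motive := fun _ => Nat) (nl3671 i) (nl3672 i) (Nat.ble 65536 i))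
noncomputable def nd1927 (i : Nat) : Nat := (Bool.rec (motive := fun _ => Nat) (nl3673 i) (nl3674 i) (Nat.ble 67584 i))
noncomputable def nd1924 (i : Nat) : Nat := (Bool.rec (motive := fun _ => Nat) ((Bool.rec (motive := fun _ => Nat) (nl3668 i) (nd1925 i) (Nat.ble 62464 i))) ((Bool.rec (motive := fun _ => Nat) (nd1926 i) (nd1927 i) (Nat.ble 66560 i))) (Nat.ble 64512 i))
noncomputable def nd1929 (i : Nat) : Nat := (Bool.rec (motive := fun _ => Nat) (nl3675 i) (nl3676 i) (Nat.ble 69632 i))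
noncomputable def nd1930 (i : Nat) : Nat := (Bool.rec (motive := fun _ => Nat) (nl3677 i) (nl3678 i) (Nat.ble 71680 i))
noncomputable def nd1931 (i : Nat) : Nat := (Bool.rec (motive := fun _ => Nat) (nl3679 i) (nl3680 i) (Nat.ble 73728 i))
noncomputable def nd1932 (i : Nat) : Nat := (Bool.rec (motive := fun _ => Nat) (nl3681 i) (nl3682 i) (Nat.ble 75776 i))
noncomputable def nd1928 (i : Nat) : Nat := (Bool.rec (motive := fun _ => Nat) ((Bool.rec (motive := fun _ => Nat) (nd1929 i) (nd1930 i) (Nat.ble 70656 i))) ((Bool.rec (motive := fun _ => Nat) (nd1931 i) (nd1932 i) (Nat.ble 74752 i))) (Nat.ble 72704 i))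
noncomputable def nd1934 (i : Nat) : Nat := (Bool.rec (motive := fun _ => Nat) (nl3684 i) (nl3685 i) (Nat.ble 78848 i))
noncomputable def nd1935 (i : Nat) : Nat := (Bool.rec (motive := fun _ => Nat) (nl3686 i) (nl3687 i) (Nat.ble 80896 i))
noncomputable def nd1936 (i : Nat) : Nat := (Bool.rec (motive := fun _ => Nat) (nl3688 i) (nl3689 i) (Nat.ble 82944 i))
noncomputable def nd1933 (i : Nat) : Nat := (Bool.rec (motive := fun _ => Nat) ((Bool.rec (motive := fun _ => Nat) (nl3683 i) (nd1934 i) (Nat.ble 77824 i))) ((Bool.rec (motive := fun _ => Nat) (nd1935 i) (nd1936 i) (Nat.ble 81920 i))) (Nat.ble 79872 i))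
noncomputable def nd1938 (i : Nat) : Nat := (Bool.rec (motive := fun _ => Nat) (nl3690 i) (nl3691 i) (Nat.ble 84992 i))
noncomputable def nd1939 (i : Nat) : Nat := (Bool.rec (motive := fun _ => Nat) (nl3692 i) (nl3693 i) (Nat.ble 87040 i))
noncomputable def nd1940 (i : Nat) : Nat := (Bool.rec (motive := fun _ => Nat) (nl3694 i) (nl3695 i) (Nat.ble 89088 i))
noncomputable def nd1941 (i : Nat) : Nat := (Bool.rec (motive := fun _ => Nat) (nl3696 i) (nl3697 i) (Nat.ble 91136 i))
noncomputable def nd1937 (i : Nat) : Nat := (Bool.rec (motive := fun _ => Nat) ((Bool.rec (motive := fun _ => Nat) (nd1938 i) (nd1939 i) (Nat.ble 86016 i))) ((Bool.rec (motive := fun _ => Nat) (nd1940 i) (nd1941 i) (Nat.ble 90112 i))) (Nat.ble 88064 i))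
noncomputable def nd1923 (i : Nat) : Nat := (Bool.rec (motive := fun _ => Nat) ((Bool.rec (motive := fun _ => Nat) (nd1924 i) (nd1928 i) (Nat.ble 68608 i))) ((Bool.rec (motive := fun _ => Nat) (nd1933 i) (nd1937 i) (Nat.ble 83968 i))) (Nat.ble 76800 i))
noncomputable def nd1944 (i : Nat) : Nat := (Bool.rec (motive := fun _ => Nat) (nl3699 i) (nl3700 i) (Nat.ble 94208 i))
noncomputable def nd1945 (i : Nat) : Nat := (Bool.rec (motive := fun _ => Nat) (nl3701 i) (nl3702 i) (Nat.ble 96256 i))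
noncomputable def nd1946 (i : Nat) : Nat := (Bool.rec (motive := fun _ => Nat) (nl3703 i) (nl3704 i) (Nat.ble 98304 i))
noncomputable def nd1943 (i : Nat) : Nat := (Bool.rec (motive := fun _ => Nat) ((Bool.rec (motive := fun _ => Nat) (nl3698 i) (nd1944 i) (Nat.ble 93184 i))) ((Bool.rec (motive := fun _ => Nat) (nd1945 i) (nd1946 i) (Nat.ble 97280 i))) (Nat.ble 95232 i))
noncomputable def nd1948 (i : Nat) : Nat := (Bool.rec (motive := fun _ => Nat) (nl3705 i) (nl3706 i) (Nat.ble 100352 i))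
noncomputable def nd1949 (i : Nat) : Nat := (Bool.rec (motive := fun _ => Nat) (nl3707 i) (nl3708 i) (Nat.ble 102400 i))
noncomputable def nd1950 (i : Nat) : Nat := (Bool.rec (motive := fun _ => Nat) (nl3709 i) (nl3710 i) (Nat.ble 104448 i))
noncomputable def nd1951 (i : Nat) : Nat := (Bool.rec (motive := fun _ => Nat) (nl3711 i) (nl3712 i) (Nat.ble 106496 i))
noncomputable def nd1947 (i : Nat) : Nat := (Bool.rec (motive := fun _ => Nat) ((Bool.rec (motive := fun _ => Nat) (nd1948 i) (nd1949 i) (Nat.ble 101376 i))) ((Bool.rec (motive := fun _ => Nat) (nd1950 i) (nd1951 i) (Nat.ble 105472 i))) (Nat.ble 103424 i))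
noncomputable def nd1953 (i : Nat) : Nat := (Bool.rec (motive := fun _ => Nat) (nl3714 i) (nl3715 i) (Nat.ble 109568 i))
noncomputable def nd1954 (i : Nat) : Nat := (Bool.rec (motive := fun _ => Nat) (nl3716 i) (nl3717 i) (Nat.ble 111616 i))
noncomputable def nd1955 (i : Nat) : Nat := (Bool.rec (motive := fun _ => Nat) (nl3718 i) (nl3719 i) (Nat.ble 113664 i))
noncomputable def nd1952 (i : Nat) : Nat := (Bool.rec (motive := fun _ => Nat) ((Bool.rec (motive := fun _ => Nat) (nl3713 i) (nd1953 i) (Nat.ble 108544 i))) ((Bool.rec (motive := fun _ => Nat) (nd1954 i) (nd1955 i) (Nat.ble 112640 i))) (Nat.ble 110592 i))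
noncomputable def nd1957 (i : Nat) : Nat := (Bool.rec (motive := fun _ => Nat) (nl3720 i) (nl3721 i) (Nat.ble 115712 i))
noncomputable def nd1958 (i : Nat) : Nat := (Bool.rec (motive := fun _ => Nat) (nl3722 i) (nl3723 i) (Nat.ble 117760 i))
noncomputable def nd1959 (i : Nat) : Nat := (Bool.rec (motive := fun _ => Nat) (nl3724 i) (nl3725 i) (Nat.ble 119808 i))
noncomputable def nd1960 (i : Nat) : Nat := (Bool.rec (motive := fun _ => Nat) (nl3726 i) (nl3727 i) (Nat.ble 121856 i))
noncomputable def nd1956 (i : Nat) : Nat := (Bool.rec (motive := fun _ => Nat) ((Bool.rec (motive := fun _ => Nat) (nd1957 i) (nd1958 i) (Nat.ble 116736 i))) ((Bool.rec (motive := fun _ => Nat) (nd1959 i) (nd1960 i) (Nat.ble 120832 i))) (Nat.ble 118784 i))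
noncomputable def nd1942 (i : Nat) : Nat := (Bool.rec (motive := fun _ => Nat) ((Bool.rec (motive := fun _ => Nat) (nd1943 i) (nd1947 i) (Nat.ble 99328 i))) ((Bool.rec (motive := fun _ => Nat) (nd1952 i) (nd1956 i) (Nat.ble 114688 i))) (Nat.ble 107520 i))
noncomputable def nd1884 (i : Nat) : Nat := (Bool.rec (motive := fun _ => Nat) ((Bool.rec (motive := fun _ => Nat) (nd1885 i) (nd1904 i) (Nat.ble 30720 i))) ((Bool.rec (motive := fun _ => Nat) (nd1923 i) (nd1942 i) (Nat.ble 92160 i))) (Nat.ble 61440 i))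
noncomputable def nd1964 (i : Nat) : Nat := (Bool.rec (motive := fun _ => Nat) (nl3729 i) (nl3730 i) (Nat.ble 2048 i))
noncomputable def nd1965 (i : Nat) : Nat := (Bool.rec (motive := fun _ => Nat) (nl3731 i) (nl3732 i) (Nat.ble 4096 i))
noncomputable def nd1966 (i : Nat) : Nat := (Bool.rec (motive := fun _ => Nat) (nl3733 i) (nl3734 i) (Nat.ble 6144 i))
noncomputable def nd1963 (i : Nat) : Nat := (Bool.rec (motive := fun _ => Nat) ((Bool.rec (motive := fun _ => Nat) (nl3728 i) (nd1964 i) (Nat.ble 1024 i))) ((Bool.rec (motive := fun _ => Nat) (nd1965 i) (nd1966 i) (Nat.ble 5120 i))) (Nat.ble 3072 i))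
noncomputable def nd1968 (i : Nat) : Nat := (Bool.rec (motive := fun _ => Nat) (nl3735 i) (nl3736 i) (Nat.ble 8192 i))
noncomputable def nd1969 (i : Nat) : Nat := (Bool.rec (motive := fun _ => Nat) (nl3737 i) (nl3738 i) (Nat.ble 10240 i))
noncomputable def nd1970 (i : Nat) : Nat := (Bool.rec (motive := fun _ => Nat) (nl3739 i) (nl3740 i) (Nat.ble 12288 i))
noncomputable def nd1971 (i : Nat) : Nat := (Bool.rec (motive := fun _ => Nat) (nl3741 i) (nl3742 i) (Nat.ble 14336 i))
noncomputable def nd1967 (i : Nat) : Nat := (Bool.rec (motive := fun _ => Nat) ((Bool.rec (motive := fun _ => Nat) (nd1968 i) (nd1969 i) (Nat.ble 9216 i))) ((Bool.rec (motive := fun _ => Nat) (nd1970 i) (nd1971 i) (Nat.ble 13312 i))) (Nat.ble 11264 i))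
noncomputable def nd1973 (i : Nat) : Nat := (Bool.rec (motive := fun _ => Nat) (nl3744 i) (nl3745 i) (Nat.ble 17408 i))
noncomputable def nd1974 (i : Nat) : Nat := (Bool.rec (motive := fun _ => Nat) (nl3746 i) (nl3747 i) (Nat.ble 19456 i))
noncomputable def nd1975 (i : Nat) : Nat := (Bool.rec (motive := fun _ => Nat) (nl3748 i) (nl3749 i) (Nat.ble 21504 i))
noncomputable def nd1972 (i : Nat) : Nat := (Bool.rec (motive := fun _ => Nat) ((Bool.rec (motive := fun _ => Nat) (nl3743 i) (nd1973 i) (Nat.ble 16384 i))) ((Bool.rec (motive := fun _ => Nat) (nd1974 i) (nd1975 i) (Nat.ble 20480 i))) (Nat.ble 18432 i))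
noncomputable def nd1977 (i : Nat) : Nat := (Bool.rec (motive := fun _ => Nat) (nl3750 i) (nl3751 i) (Nat.ble 23552 i))
noncomputable def nd1978 (i : Nat) : Nat := (Bool.rec (motive := fun _ => Nat) (nl3752 i) (nl3753 i) (Nat.ble 25600 i))
noncomputable def nd1979 (i : Nat) : Nat := (Bool.rec (motive := fun _ => Nat) (nl3754 i) (nl3755 i) (Nat.ble 27648 i))
noncomputable def nd1980 (i : Nat) : Nat := (Bool.rec (motive := fun _ => Nat) (nl3756 i) (nl3757 i) (Nat.ble 29696 i))
noncomputable def nd1976 (i : Nat) : Nat := (Bool.rec (motive := fun _ => Nat) ((Bool.rec (motive := fun _ => Nat) (nd1977 i) (nd1978 i) (Nat.ble 24576 i))) ((Bool.rec (motive := fun _ => Nat) (nd1979 i) (nd1980 i) (Nat.ble 28672 i))) (Nat.ble 26624 i))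
noncomputable def nd1962 (i : Nat) : Nat := (Bool.rec (motive := fun _ => Nat) ((Bool.rec (motive := fun _ => Nat) (nd1963 i) (nd1967 i) (Nat.ble 7168 i))) ((Bool.rec (motive := fun _ => Nat) (nd1972 i) (nd1976 i) (Nat.ble 22528 i))) (Nat.ble 15360 i))
noncomputable def nd1983 (i : Nat) : Nat := (Bool.rec (motive := fun _ => Nat) (nl3759 i) (nl3760 i) (Nat.ble 32768 i))
noncomputable def nd1984 (i : Nat) : Nat := (Bool.rec (motive := fun _ => Nat) (nl3761 i) (nl3762 i) (Nat.ble 34816 i))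
noncomputable def nd1985 (i : Nat) : Nat := (Bool.rec (motive := fun _ => Nat) (nl3763 i) (nl3764 i) (Nat.ble 36864 i))
noncomputable def nd1982 (i : Nat) : Nat := (Bool.rec (motive := fun _ => Nat) ((Bool.rec (motive := fun _ => Nat) (nl3758 i) (nd1983 i) (Nat.ble 31744 i))) ((Bool.rec (motive := fun _ => Nat) (nd1984 i) (nd1985 i) (Nat.ble 35840 i))) (Nat.ble 33792 i))
noncomputable def nd1987 (i : Nat) : Nat := (Bool.rec (motive := fun _ => Nat) (nl3765 i) (nl3766 i) (Nat.ble 38912 i))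
noncomputable def nd1988 (i : Nat) : Nat := (Bool.rec (motive := fun _ => Nat) (nl3767 i) (nl3768 i) (Nat.ble 40960 i))
noncomputable def nd1989 (i : Nat) : Nat := (Bool.rec (motive := fun _ => Nat) (nl3769 i) (nl3770 i) (Nat.ble 43008 i))
noncomputable def nd1990 (i : Nat) : Nat := (Bool.rec (motive := fun _ => Nat) (nl3771 i) (nl3772 i) (Nat.ble 45056 i))
noncomputable def nd1986 (i : Nat) : Nat := (Bool.rec (motive := fun _ => Nat) ((Bool.rec (motive := fun _ => Nat) (nd1987 i) (nd1988 i) (Nat.ble 39936 i))) ((Bool.rec (motive := fun _ => Nat) (nd1989 i) (nd1990 i) (Nat.ble 44032 i))) (Nat.ble 41984 i))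
noncomputable def nd1992 (i : Nat) : Nat := (Bool.rec (motive := fun _ => Nat) (nl3774 i) (nl3775 i) (Nat.ble 48128 i))
noncomputable def nd1993 (i : Nat) : Nat := (Bool.rec (motive := fun _ => Nat) (nl3776 i) (nl3777 i) (Nat.ble 50176 i))
noncomputable def nd1994 (i : Nat) : Nat := (Bool.rec (motive := fun _ => Nat) (nl3778 i) (nl3779 i) (Nat.ble 52224 i))
noncomputable def nd1991 (i : Nat) : Nat := (Bool.rec (motive := fun _ => Nat) ((Bool.rec (motive := fun _ => Nat) (nl3773 i) (nd1992 i) (Nat.ble 47104 i))) ((Bool.rec (motive := fun _ => Nat) (nd1993 i) (nd1994 i) (Nat.ble 51200 i))) (Nat.ble 49152 i))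
noncomputable def nd1996 (i : Nat) : Nat := (Bool.rec (motive := fun _ => Nat) (nl3780 i) (nl3781 i) (Nat.ble 54272 i))
noncomputable def nd1997 (i : Nat) : Nat := (Bool.rec (motive := fun _ => Nat) (nl3782 i) (nl3783 i) (Nat.ble 56320 i))
noncomputable def nd1998 (i : Nat) : Nat := (Bool.rec (motive := fun _ => Nat) (nl3784 i) (nl3785 i) (Nat.ble 58368 i))
noncomputable def nd1999 (i : Nat) : Nat := (Bool.rec (motive := fun _ => Nat) (nl3786 i) (nl3787 i) (Nat.ble 60416 i))
noncomputable def nd1995 (i : Nat) : Nat := (Bool.rec (motive := fun _ => Nat) ((Bool.rec (motive := fun _ => Nat) (nd1996 i) (nd1997 i) (Nat.ble 55296 i))) ((Bool.rec (motive := fun _ => Nat) (nd1998 i) (nd1999 i) (Nat.ble 59392 i))) (Nat.ble 57344 i))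
noncomputable def nd1981 (i : Nat) : Nat := (Bool.rec (motive := fun _ => Nat) ((Bool.rec (motive := fun _ => Nat) (nd1982 i) (nd1986 i) (Nat.ble 37888 i))) ((Bool.rec (motive := fun _ => Nat) (nd1991 i) (nd1995 i) (Nat.ble 53248 i))) (Nat.ble 46080 i))
noncomputable def nd2002 (i : Nat) : Nat := (Bool.rec (motive := fun _ => Nat) (nl3789 i) (nl3790 i) (Nat.ble 63488 i))
noncomputable def nd2003 (i : Nat) : Nat := (Bool.rec (motive := fun _ => Nat) (nl3791 i) (nl3792 i) (Nat.ble 65536 i))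
noncomputable def nd2004 (i : Nat) : Nat := (Bool.rec (motive := fun _ => Nat) (nl3793 i) (nl3794 i) (Nat.ble 67584 i))
noncomputable def nd2001 (i : Nat) : Nat := (Bool.rec (motive := fun _ => Nat) ((Bool.rec (motive := fun _ => Nat) (nl3788 i) (nd2002 i) (Nat.ble 62464 i))) ((Bool.rec (motive := fun _ => Nat) (nd2003 i) (nd2004 i) (Nat.ble 66560 i))) (Nat.ble 64512 i))
noncomputable def nd2006 (i : Nat) : Nat := (Bool.rec (motive := fun _ => Nat) (nl3795 i) (nl3796 i) (Nat.ble 69632 i))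
noncomputable def nd2007 (i : Nat) : Nat := (Bool.rec (motive := fun _ => Nat) (nl3797 i) (nl3798 i) (Nat.ble 71680 i))
noncomputable def nd2008 (i : Nat) : Nat := (Bool.rec (motive := fun _ => Nat) (nl3799 i) (nl3800 i) (Nat.ble 73728 i))
noncomputable def nd2009 (i : Nat) : Nat := (Bool.rec (motive := fun _ => Nat) (nl3801 i) (nl3802 i) (Nat.ble 75776 i))
noncomputable def nd2005 (i : Nat) : Nat := (Bool.rec (motive := fun _ => Nat) ((Bool.rec (motive := fun _ => Nat) (nd2006 i) (nd2007 i) (Nat.ble 70656 i))) ((Bool.rec (motive := fun _ => Nat) (nd2008 i) (nd2009 i) (Nat.ble 74752 i))) (Nat.ble 72704 i))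
noncomputable def nd2011 (i : Nat) : Nat := (Bool.rec (motive := fun _ => Nat) (nl3804 i) (nl3805 i) (Nat.ble 78848 i))
noncomputable def nd2012 (i : Nat) : Nat := (Bool.rec (motive := fun _ => Nat) (nl3806 i) (nl3807 i) (Nat.ble 80896 i))
noncomputable def nd2013 (i : Nat) : Nat := (Bool.rec (motive := fun _ => Nat) (nl3808 i) (nl3809 i) (Nat.ble 82944 i))
noncomputable def nd2010 (i : Nat) : Nat := (Bool.rec (motive := fun _ => Nat) ((Bool.rec (motive := fun _ => Nat) (nl3803 i) (nd2011 i) (Nat.ble 77824 i))) ((Bool.rec (motive := fun _ => Nat) (nd2012 i) (nd2013 i) (Nat.ble 81920 i))) (Nat.ble 79872 i))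
noncomputable def nd2015 (i : Nat) : Nat := (Bool.rec (motive := fun _ => Nat) (nl3810 i) (nl3811 i) (Nat.ble 84992 i))
noncomputable def nd2016 (i : Nat) : Nat := (Bool.rec (motive := fun _ => Nat) (nl3812 i) (nl3813 i) (Nat.ble 87040 i))
noncomputable def nd2017 (i : Nat) : Nat := (Bool.rec (motive := fun _ => Nat) (nl3814 i) (nl3815 i) (Nat.ble 89088 i))
noncomputable def nd2018 (i : Nat) : Nat := (Bool.rec (motive := fun _ => Nat) (nl3816 i) (nl3817 i) (Nat.ble 91136 i))
noncomputable def nd2014 (i : Nat) : Nat := (Bool.rec (motive := fun _ => Nat) ((Bool.rec (motive := fun _ => Nat) (nd2015 i) (nd2016 i) (Nat.ble 86016 i))) ((Bool.rec (motive := fun _ => Nat) (nd2017 i) (nd2018 i) (Nat.ble 90112 i))) (Nat.ble 88064 i))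
noncomputable def nd2000 (i : Nat) : Nat := (Bool.rec (motive := fun _ => Nat) ((Bool.rec (motive := fun _ => Nat) (nd2001 i) (nd2005 i) (Nat.ble 68608 i))) ((Bool.rec (motive := fun _ => Nat) (nd2010 i) (nd2014 i) (Nat.ble 83968 i))) (Nat.ble 76800 i))
noncomputable def nd2021 (i : Nat) : Nat := (Bool.rec (motive := fun _ => Nat) (nl3819 i) (nl3820 i) (Nat.ble 94208 i))
noncomputable def nd2022 (i : Nat) : Nat := (Bool.rec (motive := fun _ => Nat) (nl3821 i) (nl3822 i) (Nat.ble 96256 i))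
noncomputable def nd2023 (i : Nat) : Nat := (Bool.rec (motive := fun _ => Nat) (nl3823 i) (nl3824 i) (Nat.ble 98304 i))
noncomputable def nd2020 (i : Nat) : Nat := (Bool.rec (motive := fun _ => Nat) ((Bool.rec (motive := fun _ => Nat) (nl3818 i) (nd2021 i) (Nat.ble 93184 i))) ((Bool.rec (motive := fun _ => Nat) (nd2022 i) (nd2023 i) (Nat.ble 97280 i))) (Nat.ble 95232 i))
noncomputable def nd2025 (i : Nat) : Nat := (Bool.rec (motive := fun _ => Nat) (nl3825 i) (nl3826 i) (Nat.ble 100352 i))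
noncomputable def nd2026 (i : Nat) : Nat := (Bool.rec (motive := fun _ => Nat) (nl3827 i) (nl3828 i) (Nat.ble 102400 i))
noncomputable def nd2027 (i : Nat) : Nat := (Bool.rec (motive := fun _ => Nat) (nl3829 i) (nl3830 i) (Nat.ble 104448 i))
noncomputable def nd2028 (i : Nat) : Nat := (Bool.rec (motive := fun _ => Nat) (nl3831 i) (nl3832 i) (Nat.ble 106496 i))
noncomputable def nd2024 (i : Nat) : Nat := (Bool.rec (motive := fun _ => Nat) ((Bool.rec (motive := fun _ => Nat) (nd2025 i) (nd2026 i) (Nat.ble 101376 i))) ((Bool.rec (motive := fun _ => Nat) (nd2027 i) (nd2028 i) (Nat.ble 105472 i))) (Nat.ble 103424 i))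
noncomputable def nd2030 (i : Nat) : Nat := (Bool.rec (motive := fun _ => Nat) (nl3834 i) (nl3835 i) (Nat.ble 109568 i))
noncomputable def nd2031 (i : Nat) : Nat := (Bool.rec (motive := fun _ => Nat) (nl3836 i) (nl3837 i) (Nat.ble 111616 i))
noncomputable def nd2032 (i : Nat) : Nat := (Bool.rec (motive := fun _ => Nat) (nl3838 i) (nl3839 i) (Nat.ble 113664 i))
noncomputable def nd2029 (i : Nat) : Nat := (Bool.rec (motive := fun _ => Nat) ((Bool.rec (motive := fun _ => Nat) (nl3833 i) (nd2030 i) (Nat.ble 108544 i))) ((Bool.rec (motive := fun _ => Nat) (nd2031 i) (nd2032 i) (Nat.ble 112640 i))) (Nat.ble 110592 i))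
noncomputable def nd2034 (i : Nat) : Nat := (Bool.rec (motive := fun _ => Nat) (nl3840 i) (nl3841 i) (Nat.ble 115712 i))
noncomputable def nd2035 (i : Nat) : Nat := (Bool.rec (motive := fun _ => Nat) (nl3842 i) (nl3843 i) (Nat.ble 117760 i))
noncomputable def nd2036 (i : Nat) : Nat := (Bool.rec (motive := fun _ => Nat) (nl3844 i) (nl3845 i) (Nat.ble 119808 i))
noncomputable def nd2037 (i : Nat) : Nat := (Bool.rec (motive := fun _ => Nat) (nl3846 i) (nl3847 i) (Nat.ble 121856 i))
noncomputable def nd2033 (i : Nat) : Nat := (Bool.rec (motive := fun _ => Nat) ((Bool.rec (motive := fun _ => Nat) (nd2034 i) (nd2035 i) (Nat.ble 116736 i))) ((Bool.rec (motive := fun _ => Nat) (nd2036 i) (nd2037 i) (Nat.ble 120832 i))) (Nat.ble 118784 i))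
noncomputable def nd2019 (i : Nat) : Nat := (Bool.rec (motive := fun _ => Nat) ((Bool.rec (motive := fun _ => Nat) (nd2020 i) (nd2024 i) (Nat.ble 99328 i))) ((Bool.rec (motive := fun _ => Nat) (nd2029 i) (nd2033 i) (Nat.ble 114688 i))) (Nat.ble 107520 i))
noncomputable def nd1961 (i : Nat) : Nat := (Bool.rec (motive := fun _ => Nat) ((Bool.rec (motive := fun _ => Nat) (nd1962 i) (nd1981 i) (Nat.ble 30720 i))) ((Bool.rec (motive := fun _ => Nat) (nd2000 i) (nd2019 i) (Nat.ble 92160 i))) (Nat.ble 61440 i))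
noncomputable def nd2041 (i : Nat) : Nat := (Bool.rec (motive := fun _ => Nat) (nl3849 i) (nl3850 i) (Nat.ble 2048 i))
noncomputable def nd2042 (i : Nat) : Nat := (Bool.rec (motive := fun _ => Nat) (nl3851 i) (nl3852 i) (Nat.ble 4096 i))
noncomputable def nd2043 (i : Nat) : Nat := (Bool.rec (motive := fun _ => Nat) (nl3853 i) (nl3854 i) (Nat.ble 6144 i))
noncomputable def nd2040 (i : Nat) : Nat := (Bool.rec (motive := fun _ => Nat) ((Bool.rec (motive := fun _ => Nat) (nl3848 i) (nd2041 i) (Nat.ble 1024 i))) ((Bool.rec (motive := fun _ => Nat) (nd2042 i) (nd2043 i) (Nat.ble 5120 i))) (Nat.ble 3072 i))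
noncomputable def nd2045 (i : Nat) : Nat := (Bool.rec (motive := fun _ => Nat) (nl3855 i) (nl3856 i) (Nat.ble 8192 i))
noncomputable def nd2046 (i : Nat) : Nat := (Bool.rec (motive := fun _ => Nat) (nl3857 i) (nl3858 i) (Nat.ble 10240 i))
noncomputable def nd2047 (i : Nat) : Nat := (Bool.rec (motive := fun _ => Nat) (nl3859 i) (nl3860 i) (Nat.ble 12288 i))
noncomputable def nd2048 (i : Nat) : Nat := (Bool.rec (motive := fun _ => Nat) (nl3861 i) (nl3862 i) (Nat.ble 14336 i))
noncomputable def nd2044 (i : Nat) : Nat := (Bool.rec (motive := fun _ => Nat) ((Bool.rec (motive := fun _ => Nat) (nd2045 i) (nd2046 i) (Nat.ble 9216 i))) ((Bool.rec (motive := fun _ => Nat) (nd2047 i) (nd2048 i) (Nat.ble 13312 i))) (Nat.ble 11264 i))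
noncomputable def nd2050 (i : Nat) : Nat := (Bool.rec (motive := fun _ => Nat) (nl3864 i) (nl3865 i) (Nat.ble 17408 i))
noncomputable def nd2051 (i : Nat) : Nat := (Bool.rec (motive := fun _ => Nat) (nl3866 i) (nl3867 i) (Nat.ble 19456 i))
noncomputable def nd2052 (i : Nat) : Nat := (Bool.rec (motive := fun _ => Nat) (nl3868 i) (nl3869 i) (Nat.ble 21504 i))
noncomputable def nd2049 (i : Nat) : Nat := (Bool.rec (motive := fun _ => Nat) ((Bool.rec (motive := fun _ => Nat) (nl3863 i) (nd2050 i) (Nat.ble 16384 i))) ((Bool.rec (motive := fun _ => Nat) (nd2051 i) (nd2052 i) (Nat.ble 20480 i))) (Nat.ble 18432 i))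
noncomputable def nd2054 (i : Nat) : Nat := (Bool.rec (motive := fun _ => Nat) (nl3870 i) (nl3871 i) (Nat.ble 23552 i))
noncomputable def nd2055 (i : Nat) : Nat := (Bool.rec (motive := fun _ => Nat) (nl3872 i) (nl3873 i) (Nat.ble 25600 i))
noncomputable def nd2056 (i : Nat) : Nat := (Bool.rec (motive := fun _ => Nat) (nl3874 i) (nl3875 i) (Nat.ble 27648 i))
noncomputable def nd2057 (i : Nat) : Nat := (Bool.rec (motive := fun _ => Nat) (nl3876 i) (nl3877 i) (Nat.ble 29696 i))
noncomputable def nd2053 (i : Nat) : Nat := (Bool.rec (motive := fun _ => Nat) ((Bool.rec (motive := fun _ => Nat) (nd2054 i) (nd2055 i) (Nat.ble 24576 i))) ((Bool.rec (motive := fun _ => Nat) (nd2056 i) (nd2057 i) (Nat.ble 28672 i))) (Nat.ble 26624 i))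
noncomputable def nd2039 (i : Nat) : Nat := (Bool.rec (motive := fun _ => Nat) ((Bool.rec (motive := fun _ => Nat) (nd2040 i) (nd2044 i) (Nat.ble 7168 i))) ((Bool.rec (motive := fun _ => Nat) (nd2049 i) (nd2053 i) (Nat.ble 22528 i))) (Nat.ble 15360 i))
noncomputable def nd2060 (i : Nat) : Nat := (Bool.rec (motive := fun _ => Nat) (nl3879 i) (nl3880 i) (Nat.ble 32768 i))
noncomputable def nd2061 (i : Nat) : Nat := (Bool.rec (motive := fun _ => Nat) (nl3881 i) (nl3882 i) (Nat.ble 34816 i))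
noncomputable def nd2062 (i : Nat) : Nat := (Bool.rec (motive := fun _ => Nat) (nl3883 i) (nl3884 i) (Nat.ble 36864 i))
noncomputable def nd2059 (i : Nat) : Nat := (Bool.rec (motive := fun _ => Nat) ((Bool.rec (motive := fun _ => Nat) (nl3878 i) (nd2060 i) (Nat.ble 31744 i))) ((Bool.rec (motive := fun _ => Nat) (nd2061 i) (nd2062 i) (Nat.ble 35840 i))) (Nat.ble 33792 i))
noncomputable def nd2064 (i : Nat) : Nat := (Bool.rec (motive := fun _ => Nat) (nl3885 i) (nl3886 i) (Nat.ble 38912 i))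
noncomputable def nd2065 (i : Nat) : Nat := (Bool.rec (motive := fun _ => Nat) (nl3887 i) (nl3888 i) (Nat.ble 40960 i))
noncomputable def nd2066 (i : Nat) : Nat := (Bool.rec (motive := fun _ => Nat) (nl3889 i) (nl3890 i) (Nat.ble 43008 i))
noncomputable def nd2067 (i : Nat) : Nat := (Bool.rec (motive := fun _ => Nat) (nl3891 i) (nl3892 i) (Nat.ble 45056 i))
noncomputable def nd2063 (i : Nat) : Nat := (Bool.rec (motive := fun _ => Nat) ((Bool.rec (motive := fun _ => Nat) (nd2064 i) (nd2065 i) (Nat.ble 39936 i))) ((Bool.rec (motive := fun _ => Nat) (nd2066 i) (nd2067 i) (Nat.ble 44032 i))) (Nat.ble 41984 i))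
noncomputable def nd2069 (i : Nat) : Nat := (Bool.rec (motive := fun _ => Nat) (nl3894 i) (nl3895 i) (Nat.ble 48128 i))
noncomputable def nd2070 (i : Nat) : Nat := (Bool.rec (motive := fun _ => Nat) (nl3896 i) (nl3897 i) (Nat.ble 50176 i))
noncomputable def nd2071 (i : Nat) : Nat := (Bool.rec (motive := fun _ => Nat) (nl3898 i) (nl3899 i) (Nat.ble 52224 i))
noncomputable def nd2068 (i : Nat) : Nat := (Bool.rec (motive := fun _ => Nat) ((Bool.rec (motive := fun _ => Nat) (nl3893 i) (nd2069 i) (Nat.ble 47104 i))) ((Bool.rec (motive := fun _ => Nat) (nd2070 i) (nd2071 i) (Nat.ble 51200 i))) (Nat.ble 49152 i))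
noncomputable def nd2073 (i : Nat) : Nat := (Bool.rec (motive := fun _ => Nat) (nl3900 i) (nl3901 i) (Nat.ble 54272 i))
noncomputable def nd2074 (i : Nat) : Nat := (Bool.rec (motive := fun _ => Nat) (nl3902 i) (nl3903 i) (Nat.ble 56320 i))
noncomputable def nd2075 (i : Nat) : Nat := (Bool.rec (motive := fun _ => Nat) (nl3904 i) (nl3905 i) (Nat.ble 58368 i))
noncomputable def nd2076 (i : Nat) : Nat := (Bool.rec (motive := fun _ => Nat) (nl3906 i) (nl3907 i) (Nat.ble 60416 i))
noncomputable def nd2072 (i : Nat) : Nat := (Bool.rec (motive := fun _ => Nat) ((Bool.rec (motive := fun _ => Nat) (nd2073 i) (nd2074 i) (Nat.ble 55296 i))) ((Bool.rec (motive := fun _ => Nat) (nd2075 i) (nd2076 i) (Nat.ble 59392 i))) (Nat.ble 57344 i))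
noncomputable def nd2058 (i : Nat) : Nat := (Bool.rec (motive := fun _ => Nat) ((Bool.rec (motive := fun _ => Nat) (nd2059 i) (nd2063 i) (Nat.ble 37888 i))) ((Bool.rec (motive := fun _ => Nat) (nd2068 i) (nd2072 i) (Nat.ble 53248 i))) (Nat.ble 46080 i))
noncomputable def nd2079 (i : Nat) : Nat := (Bool.rec (motive := fun _ => Nat) (nl3909 i) (nl3910 i) (Nat.ble 63488 i))
noncomputable def nd2080 (i : Nat) : Nat := (Bool.rec (motive := fun _ => Nat) (nl3911 i) (nl3912 i) (Nat.ble 65536 i))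
noncomputable def nd2081 (i : Nat) : Nat := (Bool.rec (motive := fun _ => Nat) (nl3913 i) (nl3914 i) (Nat.ble 67584 i))
noncomputable def nd2078 (i : Nat) : Nat := (Bool.rec (motive := fun _ => Nat) ((Bool.rec (motive := fun _ => Nat) (nl3908 i) (nd2079 i) (Nat.ble 62464 i))) ((Bool.rec (motive := fun _ => Nat) (nd2080 i) (nd2081 i) (Nat.ble 66560 i))) (Nat.ble 64512 i))
noncomputable def nd2083 (i : Nat) : Nat := (Bool.rec (motive := fun _ => Nat) (nl3915 i) (nl3916 i) (Nat.ble 69632 i))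
noncomputable def nd2084 (i : Nat) : Nat := (Bool.rec (motive := fun _ => Nat) (nl3917 i) (nl3918 i) (Nat.ble 71680 i))
noncomputable def nd2085 (i : Nat) : Nat := (Bool.rec (motive := fun _ => Nat) (nl3919 i) (nl3920 i) (Nat.ble 73728 i))
noncomputable def nd2086 (i : Nat) : Nat := (Bool.rec (motive := fun _ => Nat) (nl3921 i) (nl3922 i) (Nat.ble 75776 i))
noncomputable def nd2082 (i : Nat) : Nat := (Bool.rec (motive := fun _ => Nat) ((Bool.rec (motive := fun _ => Nat) (nd2083 i) (nd2084 i) (Nat.ble 70656 i))) ((Bool.rec (motive := fun _ => Nat) (nd2085 i) (nd2086 i) (Nat.ble 74752 i))) (Nat.ble 72704 i))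
noncomputable def nd2088 (i : Nat) : Nat := (Bool.rec (motive := fun _ => Nat) (nl3924 i) (nl3925 i) (Nat.ble 78848 i))
noncomputable def nd2089 (i : Nat) : Nat := (Bool.rec (motive := fun _ => Nat) (nl3926 i) (nl3927 i) (Nat.ble 80896 i))
noncomputable def nd2090 (i : Nat) : Nat := (Bool.rec (motive := fun _ => Nat) (nl3928 i) (nl3929 i) (Nat.ble 82944 i))
noncomputable def nd2087 (i : Nat) : Nat := (Bool.rec (motive := fun _ => Nat) ((Bool.rec (motive := fun _ => Nat) (nl3923 i) (nd2088 i) (Nat.ble 77824 i))) ((Bool.rec (motive := fun _ => Nat) (nd2089 i) (nd2090 i) (Nat.ble 81920 i))) (Nat.ble 79872 i))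
noncomputable def nd2092 (i : Nat) : Nat := (Bool.rec (motive := fun _ => Nat) (nl3930 i) (nl3931 i) (Nat.ble 84992 i))
noncomputable def nd2093 (i : Nat) : Nat := (Bool.rec (motive := fun _ => Nat) (nl3932 i) (nl3933 i) (Nat.ble 87040 i))
noncomputable def nd2094 (i : Nat) : Nat := (Bool.rec (motive := fun _ => Nat) (nl3934 i) (nl3935 i) (Nat.ble 89088 i))
noncomputable def nd2095 (i : Nat) : Nat := (Bool.rec (motive := fun _ => Nat) (nl3936 i) (nl3937 i) (Nat.ble 91136 i))
noncomputable def nd2091 (i : Nat) : Nat := (Bool.rec (motive := fun _ => Nat) ((Bool.rec (motive := fun _ => Nat) (nd2092 i) (nd2093 i) (Nat.ble 86016 i))) ((Bool.rec (motive := fun _ => Nat) (nd2094 i) (nd2095 i) (Nat.ble 90112 i))) (Nat.ble 88064 i))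
noncomputable def nd2077 (i : Nat) : Nat := (Bool.rec (motive := fun _ => Nat) ((Bool.rec (motive := fun _ => Nat) (nd2078 i) (nd2082 i) (Nat.ble 68608 i))) ((Bool.rec (motive := fun _ => Nat) (nd2087 i) (nd2091 i) (Nat.ble 83968 i))) (Nat.ble 76800 i))
noncomputable def nd2098 (i : Nat) : Nat := (Bool.rec (motive := fun _ => Nat) (nl3939 i) (nl3940 i) (Nat.ble 94208 i))
noncomputable def nd2099 (i : Nat) : Nat := (Bool.rec (motive := fun _ => Nat) (nl3941 i) (nl3942 i) (Nat.ble 96256 i))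
noncomputable def nd2100 (i : Nat) : Nat := (Bool.rec (motive := fun _ => Nat) (nl3943 i) (nl3944 i) (Nat.ble 98304 i))
noncomputable def nd2097 (i : Nat) : Nat := (Bool.rec (motive := fun _ => Nat) ((Bool.rec (motive := fun _ => Nat) (nl3938 i) (nd2098 i) (Nat.ble 93184 i))) ((Bool.rec (motive := fun _ => Nat) (nd2099 i) (nd2100 i) (Nat.ble 97280 i))) (Nat.ble 95232 i))
noncomputable def nd2102 (i : Nat) : Nat := (Bool.rec (motive := fun _ => Nat) (nl3945 i) (nl3946 i) (Nat.ble 100352 i))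
noncomputable def nd2103 (i : Nat) : Nat := (Bool.rec (motive := fun _ => Nat) (nl3947 i) (nl3948 i) (Nat.ble 102400 i))
noncomputable def nd2104 (i : Nat) : Nat := (Bool.rec (motive := fun _ => Nat) (nl3949 i) (nl3950 i) (Nat.ble 104448 i))
noncomputable def nd2105 (i : Nat) : Nat := (Bool.rec (motive := fun _ => Nat) (nl3951 i) (nl3952 i) (Nat.ble 106496 i))
noncomputable def nd2101 (i : Nat) : Nat := (Bool.rec (motive := fun _ => Nat) ((Bool.rec (motive := fun _ => Nat) (nd2102 i) (nd2103 i) (Nat.ble 101376 i))) ((Bool.rec (motive := fun _ => Nat) (nd2104 i) (nd2105 i) (Nat.ble 105472 i))) (Nat.ble 103424 i))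
noncomputable def nd2107 (i : Nat) : Nat := (Bool.rec (motive := fun _ => Nat) (nl3954 i) (nl3955 i) (Nat.ble 109568 i))
noncomputable def nd2108 (i : Nat) : Nat := (Bool.rec (motive := fun _ => Nat) (nl3956 i) (nl3957 i) (Nat.ble 111616 i))
noncomputable def nd2109 (i : Nat) : Nat := (Bool.rec (motive := fun _ => Nat) (nl3958 i) (nl3959 i) (Nat.ble 113664 i))
noncomputable def nd2106 (i : Nat) : Nat := (Bool.rec (motive := fun _ => Nat) ((Bool.rec (motive := fun _ => Nat) (nl3953 i) (nd2107 i) (Nat.ble 108544 i))) ((Bool.rec (motive := fun _ => Nat) (nd2108 i) (nd2109 i) (Nat.ble 112640 i))) (Nat.ble 110592 i))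
noncomputable def nd2111 (i : Nat) : Nat := (Bool.rec (motive := fun _ => Nat) (nl3960 i) (nl3961 i) (Nat.ble 115712 i))
noncomputable def nd2112 (i : Nat) : Nat := (Bool.rec (motive := fun _ => Nat) (nl3962 i) (nl3963 i) (Nat.ble 117760 i))
noncomputable def nd2113 (i : Nat) : Nat := (Bool.rec (motive := fun _ => Nat) (nl3964 i) (nl3965 i) (Nat.ble 119808 i))
noncomputable def nd2114 (i : Nat) : Nat := (Bool.rec (motive := fun _ => Nat) (nl3966 i) (nl3967 i) (Nat.ble 121856 i))
noncomputable def nd2110 (i : Nat) : Nat := (Bool.rec (motive := fun _ => Nat) ((Bool.rec (motive := fun _ => Nat) (nd2111 i) (nd2112 i) (Nat.ble 116736 i))) ((Bool.rec (motive := fun _ => Nat) (nd2113 i) (nd2114 i) (Nat.ble 120832 i))) (Nat.ble 118784 i))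
noncomputable def nd2096 (i : Nat) : Nat := (Bool.rec (motive := fun _ => Nat) ((Bool.rec (motive := fun _ => Nat) (nd2097 i) (nd2101 i) (Nat.ble 99328 i))) ((Bool.rec (motive := fun _ => Nat) (nd2106 i) (nd2110 i) (Nat.ble 114688 i))) (Nat.ble 107520 i))
noncomputable def nd2038 (i : Nat) : Nat := (Bool.rec (motive := fun _ => Nat) ((Bool.rec (motive := fun _ => Nat) (nd2039 i) (nd2058 i) (Nat.ble 30720 i))) ((Bool.rec (motive := fun _ => Nat) (nd2077 i) (nd2096 i) (Nat.ble 92160 i))) (Nat.ble 61440 i))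
noncomputable def nd2118 (i : Nat) : Nat := (Bool.rec (motive := fun _ => Nat) (nl3969 i) (nl3970 i) (Nat.ble 2048 i))
noncomputable def nd2119 (i : Nat) : Nat := (Bool.rec (motive := fun _ => Nat) (nl3971 i) (nl3972 i) (Nat.ble 4096 i))
noncomputable def nd2120 (i : Nat) : Nat := (Bool.rec (motive := fun _ => Nat) (nl3973 i) (nl3974 i) (Nat.ble 6144 i))
noncomputable def nd2117 (i : Nat) : Nat := (Bool.rec (motive := fun _ => Nat) ((Bool.rec (motive := fun _ => Nat) (nl3968 i) (nd2118 i) (Nat.ble 1024 i))) ((Bool.rec (motive := fun _ => Nat) (nd2119 i) (nd2120 i) (Nat.ble 5120 i))) (Nat.ble 3072 i))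
noncomputable def nd2122 (i : Nat) : Nat := (Bool.rec (motive := fun _ => Nat) (nl3975 i) (nl3976 i) (Nat.ble 8192 i))
noncomputable def nd2123 (i : Nat) : Nat := (Bool.rec (motive := fun _ => Nat) (nl3977 i) (nl3978 i) (Nat.ble 10240 i))
noncomputable def nd2124 (i : Nat) : Nat := (Bool.rec (motive := fun _ => Nat) (nl3979 i) (nl3980 i) (Nat.ble 12288 i))
noncomputable def nd2125 (i : Nat) : Nat := (Bool.rec (motive := fun _ => Nat) (nl3981 i) (nl3982 i) (Nat.ble 14336 i))
noncomputable def nd2121 (i : Nat) : Nat := (Bool.rec (motive := fun _ => Nat) ((Bool.rec (motive := fun _ => Nat) (nd2122 i) (nd2123 i) (Nat.ble 9216 i))) ((Bool.rec (motive := fun _ => Nat) (nd2124 i) (nd2125 i) (Nat.ble 13312 i))) (Nat.ble 11264 i))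
noncomputable def nd2127 (i : Nat) : Nat := (Bool.rec (motive := fun _ => Nat) (nl3984 i) (nl3985 i) (Nat.ble 17408 i))
noncomputable def nd2128 (i : Nat) : Nat := (Bool.rec (motive := fun _ => Nat) (nl3986 i) (nl3987 i) (Nat.ble 19456 i))
noncomputable def nd2129 (i : Nat) : Nat := (Bool.rec (motive := fun _ => Nat) (nl3988 i) (nl3989 i) (Nat.ble 21504 i))
noncomputable def nd2126 (i : Nat) : Nat := (Bool.rec (motive := fun _ => Nat) ((Bool.rec (motive := fun _ => Nat) (nl3983 i) (nd2127 i) (Nat.ble 16384 i))) ((Bool.rec (motive := fun _ => Nat) (nd2128 i) (nd2129 i) (Nat.ble 20480 i))) (Nat.ble 18432 i))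
noncomputable def nd2131 (i : Nat) : Nat := (Bool.rec (motive := fun _ => Nat) (nl3990 i) (nl3991 i) (Nat.ble 23552 i))
noncomputable def nd2132 (i : Nat) : Nat := (Bool.rec (motive := fun _ => Nat) (nl3992 i) (nl3993 i) (Nat.ble 25600 i))
noncomputable def nd2133 (i : Nat) : Nat := (Bool.rec (motive := fun _ => Nat) (nl3994 i) (nl3995 i) (Nat.ble 27648 i))
noncomputable def nd2134 (i : Nat) : Nat := (Bool.rec (motive := fun _ => Nat) (nl3996 i) (nl3997 i) (Nat.ble 29696 i))
noncomputable def nd2130 (i : Nat) : Nat := (Bool.rec (motive := fun _ => Nat) ((Bool.rec (motive := fun _ => Nat) (nd2131 i) (nd2132 i) (Nat.ble 24576 i))) ((Bool.rec (motive := fun _ => Nat) (nd2133 i) (nd2134 i) (Nat.ble 28672 i))) (Nat.ble 26624 i))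
noncomputable def nd2116 (i : Nat) : Nat := (Bool.rec (motive := fun _ => Nat) ((Bool.rec (motive := fun _ => Nat) (nd2117 i) (nd2121 i) (Nat.ble 7168 i))) ((Bool.rec (motive := fun _ => Nat) (nd2126 i) (nd2130 i) (Nat.ble 22528 i))) (Nat.ble 15360 i))
noncomputable def nd2137 (i : Nat) : Nat := (Bool.rec (motive := fun _ => Nat) (nl3999 i) (nl4000 i) (Nat.ble 32768 i))
noncomputable def nd2138 (i : Nat) : Nat := (Bool.rec (motive := fun _ => Nat) (nl4001 i) (nl4002 i) (Nat.ble 34816 i))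
noncomputable def nd2139 (i : Nat) : Nat := (Bool.rec (motive := fun _ => Nat) (nl4003 i) (nl4004 i) (Nat.ble 36864 i))
noncomputable def nd2136 (i : Nat) : Nat := (Bool.rec (motive := fun _ => Nat) ((Bool.rec (motive := fun _ => Nat) (nl3998 i) (nd2137 i) (Nat.ble 31744 i))) ((Bool.rec (motive := fun _ => Nat) (nd2138 i) (nd2139 i) (Nat.ble 35840 i))) (Nat.ble 33792 i))
noncomputable def nd2141 (i : Nat) : Nat := (Bool.rec (motive := fun _ => Nat) (nl4005 i) (nl4006 i) (Nat.ble 38912 i))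
noncomputable def nd2142 (i : Nat) : Nat := (Bool.rec (motive := fun _ => Nat) (nl4007 i) (nl4008 i) (Nat.ble 40960 i))
noncomputable def nd2143 (i : Nat) : Nat := (Bool.rec (motive := fun _ => Nat) (nl4009 i) (nl4010 i) (Nat.ble 43008 i))
noncomputable def nd2144 (i : Nat) : Nat := (Bool.rec (motive := fun _ => Nat) (nl4011 i) (nl4012 i) (Nat.ble 45056 i))
noncomputable def nd2140 (i : Nat) : Nat := (Bool.rec (motive := fun _ => Nat) ((Bool.rec (motive := fun _ => Nat) (nd2141 i) (nd2142 i) (Nat.ble 39936 i))) ((Bool.rec (motive := fun _ => Nat) (nd2143 i) (nd2144 i) (Nat.ble 44032 i))) (Nat.ble 41984 i))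
noncomputable def nd2146 (i : Nat) : Nat := (Bool.rec (motive := fun _ => Nat) (nl4014 i) (nl4015 i) (Nat.ble 48128 i))
noncomputable def nd2147 (i : Nat) : Nat := (Bool.rec (motive := fun _ => Nat) (nl4016 i) (nl4017 i) (Nat.ble 50176 i))
noncomputable def nd2148 (i : Nat) : Nat := (Bool.rec (motive := fun _ => Nat) (nl4018 i) (nl4019 i) (Nat.ble 52224 i))
noncomputable def nd2145 (i : Nat) : Nat := (Bool.rec (motive := fun _ => Nat) ((Bool.rec (motive := fun _ => Nat) (nl4013 i) (nd2146 i) (Nat.ble 47104 i))) ((Bool.rec (motive := fun _ => Nat) (nd2147 i) (nd2148 i) (Nat.ble 51200 i))) (Nat.ble 49152 i))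
noncomputable def nd2150 (i : Nat) : Nat := (Bool.rec (motive := fun _ => Nat) (nl4020 i) (nl4021 i) (Nat.ble 54272 i))
noncomputable def nd2151 (i : Nat) : Nat := (Bool.rec (motive := fun _ => Nat) (nl4022 i) (nl4023 i) (Nat.ble 56320 i))
noncomputable def nd2152 (i : Nat) : Nat := (Bool.rec (motive := fun _ => Nat) (nl4024 i) (nl4025 i) (Nat.ble 58368 i))
noncomputable def nd2153 (i : Nat) : Nat := (Bool.rec (motive := fun _ => Nat) (nl4026 i) (nl4027 i) (Nat.ble 60416 i))
noncomputable def nd2149 (i : Nat) : Nat := (Bool.rec (motive := fun _ => Nat) ((Bool.rec (motive := fun _ => Nat) (nd2150 i) (nd2151 i) (Nat.ble 55296 i))) ((Bool.rec (motive := fun _ => Nat) (nd2152 i) (nd2153 i) (Nat.ble 59392 i))) (Nat.ble 57344 i))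
noncomputable def nd2135 (i : Nat) : Nat := (Bool.rec (motive := fun _ => Nat) ((Bool.rec (motive := fun _ => Nat) (nd2136 i) (nd2140 i) (Nat.ble 37888 i))) ((Bool.rec (motive := fun _ => Nat) (nd2145 i) (nd2149 i) (Nat.ble 53248 i))) (Nat.ble 46080 i))
noncomputable def nd2156 (i : Nat) : Nat := (Bool.rec (motive := fun _ => Nat) (nl4029 i) (nl4030 i) (Nat.ble 63488 i))
noncomputable def nd2157 (i : Nat) : Nat := (Bool.rec (motive := fun _ => Nat) (nl4031 i) (nl4032 i) (Nat.ble 65536 i))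
noncomputable def nd2158 (i : Nat) : Nat := (Bool.rec (motive := fun _ => Nat) (nl4033 i) (nl4034 i) (Nat.ble 67584 i))
noncomputable def nd2155 (i : Nat) : Nat := (Bool.rec (motive := fun _ => Nat) ((Bool.rec (motive := fun _ => Nat) (nl4028 i) (nd2156 i) (Nat.ble 62464 i))) ((Bool.rec (motive := fun _ => Nat) (nd2157 i) (nd2158 i) (Nat.ble 66560 i))) (Nat.ble 64512 i))
noncomputable def nd2160 (i : Nat) : Nat := (Bool.rec (motive := fun _ => Nat) (nl4035 i) (nl4036 i) (Nat.ble 69632 i))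
noncomputable def nd2161 (i : Nat) : Nat := (Bool.rec (motive := fun _ => Nat) (nl4037 i) (nl4038 i) (Nat.ble 71680 i))
noncomputable def nd2162 (i : Nat) : Nat := (Bool.rec (motive := fun _ => Nat) (nl4039 i) (nl4040 i) (Nat.ble 73728 i))
noncomputable def nd2163 (i : Nat) : Nat := (Bool.rec (motive := fun _ => Nat) (nl4041 i) (nl4042 i) (Nat.ble 75776 i))
noncomputable def nd2159 (i : Nat) : Nat := (Bool.rec (motive := fun _ => Nat) ((Bool.rec (motive := fun _ => Nat) (nd2160 i) (nd2161 i) (Nat.ble 70656 i))) ((Bool.rec (motive := fun _ => Nat) (nd2162 i) (nd2163 i) (Nat.ble 74752 i))) (Nat.ble 72704 i))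
noncomputable def nd2165 (i : Nat) : Nat := (Bool.rec (motive := fun _ => Nat) (nl4044 i) (nl4045 i) (Nat.ble 78848 i))
noncomputable def nd2166 (i : Nat) : Nat := (Bool.rec (motive := fun _ => Nat) (nl4046 i) (nl4047 i) (Nat.ble 80896 i))
noncomputable def nd2167 (i : Nat) : Nat := (Bool.rec (motive := fun _ => Nat) (nl4048 i) (nl4049 i) (Nat.ble 82944 i))
noncomputable def nd2164 (i : Nat) : Nat := (Bool.rec (motive := fun _ => Nat) ((Bool.rec (motive := fun _ => Nat) (nl4043 i) (nd2165 i) (Nat.ble 77824 i))) ((Bool.rec (motive := fun _ => Nat) (nd2166 i) (nd2167 i) (Nat.ble 81920 i))) (Nat.ble 79872 i))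
noncomputable def nd2169 (i : Nat) : Nat := (Bool.rec (motive := fun _ => Nat) (nl4050 i) (nl4051 i) (Nat.ble 84992 i))
noncomputable def nd2170 (i : Nat) : Nat := (Bool.rec (motive := fun _ => Nat) (nl4052 i) (nl4053 i) (Nat.ble 87040 i))
noncomputable def nd2171 (i : Nat) : Nat := (Bool.rec (motive := fun _ => Nat) (nl4054 i) (nl4055 i) (Nat.ble 89088 i))
noncomputable def nd2172 (i : Nat) : Nat := (Bool.rec (motive := fun _ => Nat) (nl4056 i) (nl4057 i) (Nat.ble 91136 i))
noncomputable def nd2168 (i : Nat) : Nat := (Bool.rec (motive := fun _ => Nat) ((Bool.rec (motive := fun _ => Nat) (nd2169 i) (nd2170 i) (Nat.ble 86016 i))) ((Bool.rec (motive := fun _ => Nat) (nd2171 i) (nd2172 i) (Nat.ble 90112 i))) (Nat.ble 88064 i))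
noncomputable def nd2154 (i : Nat) : Nat := (Bool.rec (motive := fun _ => Nat) ((Bool.rec (motive := fun _ => Nat) (nd2155 i) (nd2159 i) (Nat.ble 68608 i))) ((Bool.rec (motive := fun _ => Nat) (nd2164 i) (nd2168 i) (Nat.ble 83968 i))) (Nat.ble 76800 i))
noncomputable def nd2175 (i : Nat) : Nat := (Bool.rec (motive := fun _ => Nat) (nl4059 i) (nl4060 i) (Nat.ble 94208 i))
noncomputable def nd2176 (i : Nat) : Nat := (Bool.rec (motive := fun _ => Nat) (nl4061 i) (nl4062 i) (Nat.ble 96256 i))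
noncomputable def nd2177 (i : Nat) : Nat := (Bool.rec (motive := fun _ => Nat) (nl4063 i) (nl4064 i) (Nat.ble 98304 i))
noncomputable def nd2174 (i : Nat) : Nat := (Bool.rec (motive := fun _ => Nat) ((Bool.rec (motive := fun _ => Nat) (nl4058 i) (nd2175 i) (Nat.ble 93184 i))) ((Bool.rec (motive := fun _ => Nat) (nd2176 i) (nd2177 i) (Nat.ble 97280 i))) (Nat.ble 95232 i))
noncomputable def nd2179 (i : Nat) : Nat := (Bool.rec (motive := fun _ => Nat) (nl4065 i) (nl4066 i) (Nat.ble 100352 i))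
noncomputable def nd2180 (i : Nat) : Nat := (Bool.rec (motive := fun _ => Nat) (nl4067 i) (nl4068 i) (Nat.ble 102400 i))
noncomputable def nd2181 (i : Nat) : Nat := (Bool.rec (motive := fun _ => Nat) (nl4069 i) (nl4070 i) (Nat.ble 104448 i))
noncomputable def nd2182 (i : Nat) : Nat := (Bool.rec (motive := fun _ => Nat) (nl4071 i) (nl4072 i) (Nat.ble 106496 i))
noncomputable def nd2178 (i : Nat) : Nat := (Bool.rec (motive := fun _ => Nat) ((Bool.rec (motive := fun _ => Nat) (nd2179 i) (nd2180 i) (Nat.ble 101376 i))) ((Bool.rec (motive := fun _ => Nat) (nd2181 i) (nd2182 i) (Nat.ble 105472 i))) (Nat.ble 103424 i))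
noncomputable def nd2184 (i : Nat) : Nat := (Bool.rec (motive := fun _ => Nat) (nl4074 i) (nl4075 i) (Nat.ble 109568 i))
noncomputable def nd2185 (i : Nat) : Nat := (Bool.rec (motive := fun _ => Nat) (nl4076 i) (nl4077 i) (Nat.ble 111616 i))
noncomputable def nd2186 (i : Nat) : Nat := (Bool.rec (motive := fun _ => Nat) (nl4078 i) (nl4079 i) (Nat.ble 113664 i))
noncomputable def nd2183 (i : Nat) : Nat := (Bool.rec (motive := fun _ => Nat) ((Bool.rec (motive := fun _ => Nat) (nl4073 i) (nd2184 i) (Nat.ble 108544 i))) ((Bool.rec (motive := fun _ => Nat) (nd2185 i) (nd2186 i) (Nat.ble 112640 i))) (Nat.ble 110592 i))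
noncomputable def nd2188 (i : Nat) : Nat := (Bool.rec (motive := fun _ => Nat) (nl4080 i) (nl4081 i) (Nat.ble 115712 i))
noncomputable def nd2189 (i : Nat) : Nat := (Bool.rec (motive := fun _ => Nat) (nl4082 i) (nl4083 i) (Nat.ble 117760 i))
noncomputable def nd2190 (i : Nat) : Nat := (Bool.rec (motive := fun _ => Nat) (nl4084 i) (nl4085 i) (Nat.ble 119808 i))
noncomputable def nd2191 (i : Nat) : Nat := (Bool.rec (motive := fun _ => Nat) (nl4086 i) (nl4087 i) (Nat.ble 121856 i))
noncomputable def nd2187 (i : Nat) : Nat := (Bool.rec (motive := fun _ => Nat) ((Bool.rec (motive := fun _ => Nat) (nd2188 i) (nd2189 i) (Nat.ble 116736 i))) ((Bool.rec (motive := fun _ => Nat) (nd2190 i) (nd2191 i) (Nat.ble 120832 i))) (Nat.ble 118784 i))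
noncomputable def nd2173 (i : Nat) : Nat := (Bool.rec (motive := fun _ => Nat) ((Bool.rec (motive := fun _ => Nat) (nd2174 i) (nd2178 i) (Nat.ble 99328 i))) ((Bool.rec (motive := fun _ => Nat) (nd2183 i) (nd2187 i) (Nat.ble 114688 i))) (Nat.ble 107520 i))
noncomputable def nd2115 (i : Nat) : Nat := (Bool.rec (motive := fun _ => Nat) ((Bool.rec (motive := fun _ => Nat) (nd2116 i) (nd2135 i) (Nat.ble 30720 i))) ((Bool.rec (motive := fun _ => Nat) (nd2154 i) (nd2173 i) (Nat.ble 92160 i))) (Nat.ble 61440 i))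
noncomputable def nd2195 (i : Nat) : Nat := (Bool.rec (motive := fun _ => Nat) (nl4089 i) (nl4090 i) (Nat.ble 2048 i))
noncomputable def nd2196 (i : Nat) : Nat := (Bool.rec (motive := fun _ => Nat) (nl4091 i) (nl4092 i) (Nat.ble 4096 i))
noncomputable def nd2197 (i : Nat) : Nat := (Bool.rec (motive := fun _ => Nat) (nl4093 i) (nl4094 i) (Nat.ble 6144 i))
noncomputable def nd2194 (i : Nat) : Nat := (Bool.rec (motive := fun _ => Nat) ((Bool.rec (motive := fun _ => Nat) (nl4088 i) (nd2195 i) (Nat.ble 1024 i))) ((Bool.rec (motive := fun _ => Nat) (nd2196 i) (nd2197 i) (Nat.ble 5120 i))) (Nat.ble 3072 i))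
noncomputable def nd2199 (i : Nat) : Nat := (Bool.rec (motive := fun _ => Nat) (nl4095 i) (nl4096 i) (Nat.ble 8192 i))
noncomputable def nd2200 (i : Nat) : Nat := (Bool.rec (motive := fun _ => Nat) (nl4097 i) (nl4098 i) (Nat.ble 10240 i))
noncomputable def nd2201 (i : Nat) : Nat := (Bool.rec (motive := fun _ => Nat) (nl4099 i) (nl4100 i) (Nat.ble 12288 i))
noncomputable def nd2202 (i : Nat) : Nat := (Bool.rec (motive := fun _ => Nat) (nl4101 i) (nl4102 i) (Nat.ble 14336 i))
noncomputable def nd2198 (i : Nat) : Nat := (Bool.rec (motive := fun _ => Nat) ((Bool.rec (motive := fun _ => Nat) (nd2199 i) (nd2200 i) (Nat.ble 9216 i))) ((Bool.rec (motive := fun _ => Nat) (nd2201 i) (nd2202 i) (Nat.ble 13312 i))) (Nat.ble 11264 i))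
noncomputable def nd2204 (i : Nat) : Nat := (Bool.rec (motive := fun _ => Nat) (nl4104 i) (nl4105 i) (Nat.ble 17408 i))
noncomputable def nd2205 (i : Nat) : Nat := (Bool.rec (motive := fun _ => Nat) (nl4106 i) (nl4107 i) (Nat.ble 19456 i))
noncomputable def nd2206 (i : Nat) : Nat := (Bool.rec (motive := fun _ => Nat) (nl4108 i) (nl4109 i) (Nat.ble 21504 i))
noncomputable def nd2203 (i : Nat) : Nat := (Bool.rec (motive := fun _ => Nat) ((Bool.rec (motive := fun _ => Nat) (nl4103 i) (nd2204 i) (Nat.ble 16384 i))) ((Bool.rec (motive := fun _ => Nat) (nd2205 i) (nd2206 i) (Nat.ble 20480 i))) (Nat.ble 18432 i))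
noncomputable def nd2208 (i : Nat) : Nat := (Bool.rec (motive := fun _ => Nat) (nl4110 i) (nl4111 i) (Nat.ble 23552 i))
noncomputable def nd2209 (i : Nat) : Nat := (Bool.rec (motive := fun _ => Nat) (nl4112 i) (nl4113 i) (Nat.ble 25600 i))
noncomputable def nd2210 (i : Nat) : Nat := (Bool.rec (motive := fun _ => Nat) (nl4114 i) (nl4115 i) (Nat.ble 27648 i))
noncomputable def nd2211 (i : Nat) : Nat := (Bool.rec (motive := fun _ => Nat) (nl4116 i) (nl4117 i) (Nat.ble 29696 i))
noncomputable def nd2207 (i : Nat) : Nat := (Bool.rec (motive := fun _ => Nat) ((Bool.rec (motive := fun _ => Nat) (nd2208 i) (nd2209 i) (Nat.ble 24576 i))) ((Bool.rec (motive := fun _ => Nat) (nd2210 i) (nd2211 i) (Nat.ble 28672 i))) (Nat.ble 26624 i))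
noncomputable def nd2193 (i : Nat) : Nat := (Bool.rec (motive := fun _ => Nat) ((Bool.rec (motive := fun _ => Nat) (nd2194 i) (nd2198 i) (Nat.ble 7168 i))) ((Bool.rec (motive := fun _ => Nat) (nd2203 i) (nd2207 i) (Nat.ble 22528 i))) (Nat.ble 15360 i))
noncomputable def nd2214 (i : Nat) : Nat := (Bool.rec (motive := fun _ => Nat) (nl4119 i) (nl4120 i) (Nat.ble 32768 i))
noncomputable def nd2215 (i : Nat) : Nat := (Bool.rec (motive := fun _ => Nat) (nl4121 i) (nl4122 i) (Nat.ble 34816 i))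
noncomputable def nd2216 (i : Nat) : Nat := (Bool.rec (motive := fun _ => Nat) (nl4123 i) (nl4124 i) (Nat.ble 36864 i))
noncomputable def nd2213 (i : Nat) : Nat := (Bool.rec (motive := fun _ => Nat) ((Bool.rec (motive := fun _ => Nat) (nl4118 i) (nd2214 i) (Nat.ble 31744 i))) ((Bool.rec (motive := fun _ => Nat) (nd2215 i) (nd2216 i) (Nat.ble 35840 i))) (Nat.ble 33792 i))
noncomputable def nd2218 (i : Nat) : Nat := (Bool.rec (motive := fun _ => Nat) (nl4125 i) (nl4126 i) (Nat.ble 38912 i))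
noncomputable def nd2219 (i : Nat) : Nat := (Bool.rec (motive := fun _ => Nat) (nl4127 i) (nl4128 i) (Nat.ble 40960 i))
noncomputable def nd2220 (i : Nat) : Nat := (Bool.rec (motive := fun _ => Nat) (nl4129 i) (nl4130 i) (Nat.ble 43008 i))
noncomputable def nd2221 (i : Nat) : Nat := (Bool.rec (motive := fun _ => Nat) (nl4131 i) (nl4132 i) (Nat.ble 45056 i))
noncomputable def nd2217 (i : Nat) : Nat := (Bool.rec (motive := fun _ => Nat) ((Bool.rec (motive := fun _ => Nat) (nd2218 i) (nd2219 i) (Nat.ble 39936 i))) ((Bool.rec (motive := fun _ => Nat) (nd2220 i) (nd2221 i) (Nat.ble 44032 i))) (Nat.ble 41984 i))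
noncomputable def nd2223 (i : Nat) : Nat := (Bool.rec (motive := fun _ => Nat) (nl4134 i) (nl4135 i) (Nat.ble 48128 i))
noncomputable def nd2224 (i : Nat) : Nat := (Bool.rec (motive := fun _ => Nat) (nl4136 i) (nl4137 i) (Nat.ble 50176 i))
noncomputable def nd2225 (i : Nat) : Nat := (Bool.rec (motive := fun _ => Nat) (nl4138 i) (nl4139 i) (Nat.ble 52224 i))
noncomputable def nd2222 (i : Nat) : Nat := (Bool.rec (motive := fun _ => Nat) ((Bool.rec (motive := fun _ => Nat) (nl4133 i) (nd2223 i) (Nat.ble 47104 i))) ((Bool.rec (motive := fun _ => Nat) (nd2224 i) (nd2225 i) (Nat.ble 51200 i))) (Nat.ble 49152 i))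
noncomputable def nd2227 (i : Nat) : Nat := (Bool.rec (motive := fun _ => Nat) (nl4140 i) (nl4141 i) (Nat.ble 54272 i))
noncomputable def nd2228 (i : Nat) : Nat := (Bool.rec (motive := fun _ => Nat) (nl4142 i) (nl4143 i) (Nat.ble 56320 i))
noncomputable def nd2229 (i : Nat) : Nat := (Bool.rec (motive := fun _ => Nat) (nl4144 i) (nl4145 i) (Nat.ble 58368 i))
noncomputable def nd2230 (i : Nat) : Nat := (Bool.rec (motive := fun _ => Nat) (nl4146 i) (nl4147 i) (Nat.ble 60416 i))
noncomputable def nd2226 (i : Nat) : Nat := (Bool.rec (motive := fun _ => Nat) ((Bool.rec (motive := fun _ => Nat) (nd2227 i) (nd2228 i) (Nat.ble 55296 i))) ((Bool.rec (motive := fun _ => Nat) (nd2229 i) (nd2230 i) (Nat.ble 59392 i))) (Nat.ble 57344 i))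
noncomputable def nd2212 (i : Nat) : Nat := (Bool.rec (motive := fun _ => Nat) ((Bool.rec (motive := fun _ => Nat) (nd2213 i) (nd2217 i) (Nat.ble 37888 i))) ((Bool.rec (motive := fun _ => Nat) (nd2222 i) (nd2226 i) (Nat.ble 53248 i))) (Nat.ble 46080 i))
noncomputable def nd2233 (i : Nat) : Nat := (Bool.rec (motive := fun _ => Nat) (nl4149 i) (nl4150 i) (Nat.ble 63488 i))
noncomputable def nd2234 (i : Nat) : Nat := (Bool.rec (motive := fun _ => Nat) (nl4151 i) (nl4152 i) (Nat.ble 65536 i))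
noncomputable def nd2235 (i : Nat) : Nat := (Bool.rec (motive := fun _ => Nat) (nl4153 i) (nl4154 i) (Nat.ble 67584 i))
noncomputable def nd2232 (i : Nat) : Nat := (Bool.rec (motive := fun _ => Nat) ((Bool.rec (motive := fun _ => Nat) (nl4148 i) (nd2233 i) (Nat.ble 62464 i))) ((Bool.rec (motive := fun _ => Nat) (nd2234 i) (nd2235 i) (Nat.ble 66560 i))) (Nat.ble 64512 i))
noncomputable def nd2237 (i : Nat) : Nat := (Bool.rec (motive := fun _ => Nat) (nl4155 i) (nl4156 i) (Nat.ble 69632 i))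
noncomputable def nd2238 (i : Nat) : Nat := (Bool.rec (motive := fun _ => Nat) (nl4157 i) (nl4158 i) (Nat.ble 71680 i))
noncomputable def nd2239 (i : Nat) : Nat := (Bool.rec (motive := fun _ => Nat) (nl4159 i) (nl4160 i) (Nat.ble 73728 i))
noncomputable def nd2240 (i : Nat) : Nat := (Bool.rec (motive := fun _ => Nat) (nl4161 i) (nl4162 i) (Nat.ble 75776 i))
noncomputable def nd2236 (i : Nat) : Nat := (Bool.rec (motive := fun _ => Nat) ((Bool.rec (motive := fun _ => Nat) (nd2237 i) (nd2238 i) (Nat.ble 70656 i))) ((Bool.rec (motive := fun _ => Nat) (nd2239 i) (nd2240 i) (Nat.ble 74752 i))) (Nat.ble 72704 i))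
noncomputable def nd2242 (i : Nat) : Nat := (Bool.rec (motive := fun _ => Nat) (nl4164 i) (nl4165 i) (Nat.ble 78848 i))
noncomputable def nd2243 (i : Nat) : Nat := (Bool.rec (motive := fun _ => Nat) (nl4166 i) (nl4167 i) (Nat.ble 80896 i))
noncomputable def nd2244 (i : Nat) : Nat := (Bool.rec (motive := fun _ => Nat) (nl4168 i) (nl4169 i) (Nat.ble 82944 i))
noncomputable def nd2241 (i : Nat) : Nat := (Bool.rec (motive := fun _ => Nat) ((Bool.rec (motive := fun _ => Nat) (nl4163 i) (nd2242 i) (Nat.ble 77824 i))) ((Bool.rec (motive := fun _ => Nat) (nd2243 i) (nd2244 i) (Nat.ble 81920 i))) (Nat.ble 79872 i))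
noncomputable def nd2246 (i : Nat) : Nat := (Bool.rec (motive := fun _ => Nat) (nl4170 i) (nl4171 i) (Nat.ble 84992 i))
noncomputable def nd2247 (i : Nat) : Nat := (Bool.rec (motive := fun _ => Nat) (nl4172 i) (nl4173 i) (Nat.ble 87040 i))
noncomputable def nd2248 (i : Nat) : Nat := (Bool.rec (motive := fun _ => Nat) (nl4174 i) (nl4175 i) (Nat.ble 89088 i))
noncomputable def nd2249 (i : Nat) : Nat := (Bool.rec (motive := fun _ => Nat) (nl4176 i) (nl4177 i) (Nat.ble 91136 i))
noncomputable def nd2245 (i : Nat) : Nat := (Bool.rec (motive := fun _ => Nat) ((Bool.rec (motive := fun _ => Nat) (nd2246 i) (nd2247 i) (Nat.ble 86016 i))) ((Bool.rec (motive := fun _ => Nat) (nd2248 i) (nd2249 i) (Nat.ble 90112 i))) (Nat.ble 88064 i))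
noncomputable def nd2231 (i : Nat) : Nat := (Bool.rec (motive := fun _ => Nat) ((Bool.rec (motive := fun _ => Nat) (nd2232 i) (nd2236 i) (Nat.ble 68608 i))) ((Bool.rec (motive := fun _ => Nat) (nd2241 i) (nd2245 i) (Nat.ble 83968 i))) (Nat.ble 76800 i))
noncomputable def nd2252 (i : Nat) : Nat := (Bool.rec (motive := fun _ => Nat) (nl4179 i) (nl4180 i) (Nat.ble 94208 i))
noncomputable def nd2253 (i : Nat) : Nat := (Bool.rec (motive := fun _ => Nat) (nl4181 i) (nl4182 i) (Nat.ble 96256 i))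
noncomputable def nd2254 (i : Nat) : Nat := (Bool.rec (motive := fun _ => Nat) (nl4183 i) (nl4184 i) (Nat.ble 98304 i))
noncomputable def nd2251 (i : Nat) : Nat := (Bool.rec (motive := fun _ => Nat) ((Bool.rec (motive := fun _ => Nat) (nl4178 i) (nd2252 i) (Nat.ble 93184 i))) ((Bool.rec (motive := fun _ => Nat) (nd2253 i) (nd2254 i) (Nat.ble 97280 i))) (Nat.ble 95232 i))
noncomputable def nd2256 (i : Nat) : Nat := (Bool.rec (motive := fun _ => Nat) (nl4185 i) (nl4186 i) (Nat.ble 100352 i))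
noncomputable def nd2257 (i : Nat) : Nat := (Bool.rec (motive := fun _ => Nat) (nl4187 i) (nl4188 i) (Nat.ble 102400 i))
noncomputable def nd2258 (i : Nat) : Nat := (Bool.rec (motive := fun _ => Nat) (nl4189 i) (nl4190 i) (Nat.ble 104448 i))
noncomputable def nd2259 (i : Nat) : Nat := (Bool.rec (motive := fun _ => Nat) (nl4191 i) (nl4192 i) (Nat.ble 106496 i))
noncomputable def nd2255 (i : Nat) : Nat := (Bool.rec (motive := fun _ => Nat) ((Bool.rec (motive := fun _ => Nat) (nd2256 i) (nd2257 i) (Nat.ble 101376 i))) ((Bool.rec (motive := fun _ => Nat) (nd2258 i) (nd2259 i) (Nat.ble 105472 i))) (Nat.ble 103424 i))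
noncomputable def nd2261 (i : Nat) : Nat := (Bool.rec (motive := fun _ => Nat) (nl4194 i) (nl4195 i) (Nat.ble 109568 i))
noncomputable def nd2262 (i : Nat) : Nat := (Bool.rec (motive := fun _ => Nat) (nl4196 i) (nl4197 i) (Nat.ble 111616 i))
noncomputable def nd2263 (i : Nat) : Nat := (Bool.rec (motive := fun _ => Nat) (nl4198 i) (nl4199 i) (Nat.ble 113664 i))
noncomputable def nd2260 (i : Nat) : Nat := (Bool.rec (motive := fun _ => Nat) ((Bool.rec (motive := fun _ => Nat) (nl4193 i) (nd2261 i) (Nat.ble 108544 i))) ((Bool.rec (motive := fun _ => Nat) (nd2262 i) (nd2263 i) (Nat.ble 112640 i))) (Nat.ble 110592 i))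
noncomputable def nd2265 (i : Nat) : Nat := (Bool.rec (motive := fun _ => Nat) (nl4200 i) (nl4201 i) (Nat.ble 115712 i))
noncomputable def nd2266 (i : Nat) : Nat := (Bool.rec (motive := fun _ => Nat) (nl4202 i) (nl4203 i) (Nat.ble 117760 i))
noncomputable def nd2267 (i : Nat) : Nat := (Bool.rec (motive := fun _ => Nat) (nl4204 i) (nl4205 i) (Nat.ble 119808 i))
noncomputable def nd2268 (i : Nat) : Nat := (Bool.rec (motive := fun _ => Nat) (nl4206 i) (nl4207 i) (Nat.ble 121856 i))
noncomputable def nd2264 (i : Nat) : Nat := (Bool.rec (motive := fun _ => Nat) ((Bool.rec (motive := fun _ => Nat) (nd2265 i) (nd2266 i) (Nat.ble 116736 i))) ((Bool.rec (motive := fun _ => Nat) (nd2267 i) (nd2268 i) (Nat.ble 120832 i))) (Nat.ble 118784 i))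
noncomputable def nd2250 (i : Nat) : Nat := (Bool.rec (motive := fun _ => Nat) ((Bool.rec (motive := fun _ => Nat) (nd2251 i) (nd2255 i) (Nat.ble 99328 i))) ((Bool.rec (motive := fun _ => Nat) (nd2260 i) (nd2264 i) (Nat.ble 114688 i))) (Nat.ble 107520 i))
noncomputable def nd2192 (i : Nat) : Nat := (Bool.rec (motive := fun _ => Nat) ((Bool.rec (motive := fun _ => Nat) (nd2193 i) (nd2212 i) (Nat.ble 30720 i))) ((Bool.rec (motive := fun _ => Nat) (nd2231 i) (nd2250 i) (Nat.ble 92160 i))) (Nat.ble 61440 i))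
noncomputable def nd2272 (i : Nat) : Nat := (Bool.rec (motive := fun _ => Nat) (nl4209 i) (nl4210 i) (Nat.ble 2048 i))
noncomputable def nd2273 (i : Nat) : Nat := (Bool.rec (motive := fun _ => Nat) (nl4211 i) (nl4212 i) (Nat.ble 4096 i))
noncomputable def nd2274 (i : Nat) : Nat := (Bool.rec (motive := fun _ => Nat) (nl4213 i) (nl4214 i) (Nat.ble 6144 i))
noncomputable def nd2271 (i : Nat) : Nat := (Bool.rec (motive := fun _ => Nat) ((Bool.rec (motive := fun _ => Nat) (nl4208 i) (nd2272 i) (Nat.ble 1024 i))) ((Bool.rec (motive := fun _ => Nat) (nd2273 i) (nd2274 i) (Nat.ble 5120 i))) (Nat.ble 3072 i))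
noncomputable def nd2276 (i : Nat) : Nat := (Bool.rec (motive := fun _ => Nat) (nl4215 i) (nl4216 i) (Nat.ble 8192 i))
noncomputable def nd2277 (i : Nat) : Nat := (Bool.rec (motive := fun _ => Nat) (nl4217 i) (nl4218 i) (Nat.ble 10240 i))
noncomputable def nd2278 (i : Nat) : Nat := (Bool.rec (motive := fun _ => Nat) (nl4219 i) (nl4220 i) (Nat.ble 12288 i))
noncomputable def nd2279 (i : Nat) : Nat := (Bool.rec (motive := fun _ => Nat) (nl4221 i) (nl4222 i) (Nat.ble 14336 i))
noncomputable def nd2275 (i : Nat) : Nat := (Bool.rec (motive := fun _ => Nat) ((Bool.rec (motive := fun _ => Nat) (nd2276 i) (nd2277 i) (Nat.ble 9216 i))) ((Bool.rec (motive := fun _ => Nat) (nd2278 i) (nd2279 i) (Nat.ble 13312 i))) (Nat.ble 11264 i))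
noncomputable def nd2281 (i : Nat) : Nat := (Bool.rec (motive := fun _ => Nat) (nl4224 i) (nl4225 i) (Nat.ble 17408 i))
noncomputable def nd2282 (i : Nat) : Nat := (Bool.rec (motive := fun _ => Nat) (nl4226 i) (nl4227 i) (Nat.ble 19456 i))
noncomputable def nd2283 (i : Nat) : Nat := (Bool.rec (motive := fun _ => Nat) (nl4228 i) (nl4229 i) (Nat.ble 21504 i))
noncomputable def nd2280 (i : Nat) : Nat := (Bool.rec (motive := fun _ => Nat) ((Bool.rec (motive := fun _ => Nat) (nl4223 i) (nd2281 i) (Nat.ble 16384 i))) ((Bool.rec (motive := fun _ => Nat) (nd2282 i) (nd2283 i) (Nat.ble 20480 i))) (Nat.ble 18432 i))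
noncomputable def nd2285 (i : Nat) : Nat := (Bool.rec (motive := fun _ => Nat) (nl4230 i) (nl4231 i) (Nat.ble 23552 i))
noncomputable def nd2286 (i : Nat) : Nat := (Bool.rec (motive := fun _ => Nat) (nl4232 i) (nl4233 i) (Nat.ble 25600 i))
noncomputable def nd2287 (i : Nat) : Nat := (Bool.rec (motive := fun _ => Nat) (nl4234 i) (nl4235 i) (Nat.ble 27648 i))
noncomputable def nd2288 (i : Nat) : Nat := (Bool.rec (motive := fun _ => Nat) (nl4236 i) (nl4237 i) (Nat.ble 29696 i))
noncomputable def nd2284 (i : Nat) : Nat := (Bool.rec (motive := fun _ => Nat) ((Bool.rec (motive := fun _ => Nat) (nd2285 i) (nd2286 i) (Nat.ble 24576 i))) ((Bool.rec (motive := fun _ => Nat) (nd2287 i) (nd2288 i) (Nat.ble 28672 i))) (Nat.ble 26624 i))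
noncomputable def nd2270 (i : Nat) : Nat := (Bool.rec (motive := fun _ => Nat) ((Bool.rec (motive := fun _ => Nat) (nd2271 i) (nd2275 i) (Nat.ble 7168 i))) ((Bool.rec (motive := fun _ => Nat) (nd2280 i) (nd2284 i) (Nat.ble 22528 i))) (Nat.ble 15360 i))
noncomputable def nd2291 (i : Nat) : Nat := (Bool.rec (motive := fun _ => Nat) (nl4239 i) (nl4240 i) (Nat.ble 32768 i))
noncomputable def nd2292 (i : Nat) : Nat := (Bool.rec (motive := fun _ => Nat) (nl4241 i) (nl4242 i) (Nat.ble 34816 i))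
noncomputable def nd2293 (i : Nat) : Nat := (Bool.rec (motive := fun _ => Nat) (nl4243 i) (nl4244 i) (Nat.ble 36864 i))
noncomputable def nd2290 (i : Nat) : Nat := (Bool.rec (motive := fun _ => Nat) ((Bool.rec (motive := fun _ => Nat) (nl4238 i) (nd2291 i) (Nat.ble 31744 i))) ((Bool.rec (motive := fun _ => Nat) (nd2292 i) (nd2293 i) (Nat.ble 35840 i))) (Nat.ble 33792 i))
noncomputable def nd2295 (i : Nat) : Nat := (Bool.rec (motive := fun _ => Nat) (nl4245 i) (nl4246 i) (Nat.ble 38912 i))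
noncomputable def nd2296 (i : Nat) : Nat := (Bool.rec (motive := fun _ => Nat) (nl4247 i) (nl4248 i) (Nat.ble 40960 i))
noncomputable def nd2297 (i : Nat) : Nat := (Bool.rec (motive := fun _ => Nat) (nl4249 i) (nl4250 i) (Nat.ble 43008 i))
noncomputable def nd2298 (i : Nat) : Nat := (Bool.rec (motive := fun _ => Nat) (nl4251 i) (nl4252 i) (Nat.ble 45056 i))
noncomputable def nd2294 (i : Nat) : Nat := (Bool.rec (motive := fun _ => Nat) ((Bool.rec (motive := fun _ => Nat) (nd2295 i) (nd2296 i) (Nat.ble 39936 i))) ((Bool.rec (motive := fun _ => Nat) (nd2297 i) (nd2298 i) (Nat.ble 44032 i))) (Nat.ble 41984 i))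
noncomputable def nd2300 (i : Nat) : Nat := (Bool.rec (motive := fun _ => Nat) (nl4254 i) (nl4255 i) (Nat.ble 48128 i))
noncomputable def nd2301 (i : Nat) : Nat := (Bool.rec (motive := fun _ => Nat) (nl4256 i) (nl4257 i) (Nat.ble 50176 i))
noncomputable def nd2302 (i : Nat) : Nat := (Bool.rec (motive := fun _ => Nat) (nl4258 i) (nl4259 i) (Nat.ble 52224 i))
noncomputable def nd2299 (i : Nat) : Nat := (Bool.rec (motive := fun _ => Nat) ((Bool.rec (motive := fun _ => Nat) (nl4253 i) (nd2300 i) (Nat.ble 47104 i))) ((Bool.rec (motive := fun _ => Nat) (nd2301 i) (nd2302 i) (Nat.ble 51200 i))) (Nat.ble 49152 i))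
noncomputable def nd2304 (i : Nat) : Nat := (Bool.rec (motive := fun _ => Nat) (nl4260 i) (nl4261 i) (Nat.ble 54272 i))
noncomputable def nd2305 (i : Nat) : Nat := (Bool.rec (motive := fun _ => Nat) (nl4262 i) (nl4263 i) (Nat.ble 56320 i))
noncomputable def nd2306 (i : Nat) : Nat := (Bool.rec (motive := fun _ => Nat) (nl4264 i) (nl4265 i) (Nat.ble 58368 i))
noncomputable def nd2307 (i : Nat) : Nat := (Bool.rec (motive := fun _ => Nat) (nl4266 i) (nl4267 i) (Nat.ble 60416 i))
noncomputable def nd2303 (i : Nat) : Nat := (Bool.rec (motive := fun _ => Nat) ((Bool.rec (motive := fun _ => Nat) (nd2304 i) (nd2305 i) (Nat.ble 55296 i))) ((Bool.rec (motive := fun _ => Nat) (nd2306 i) (nd2307 i) (Nat.ble 59392 i))) (Nat.ble 57344 i))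
noncomputable def nd2289 (i : Nat) : Nat := (Bool.rec (motive := fun _ => Nat) ((Bool.rec (motive := fun _ => Nat) (nd2290 i) (nd2294 i) (Nat.ble 37888 i))) ((Bool.rec (motive := fun _ => Nat) (nd2299 i) (nd2303 i) (Nat.ble 53248 i))) (Nat.ble 46080 i))
noncomputable def nd2310 (i : Nat) : Nat := (Bool.rec (motive := fun _ => Nat) (nl4269 i) (nl4270 i) (Nat.ble 63488 i))
noncomputable def nd2311 (i : Nat) : Nat := (Bool.rec (motive := fun _ => Nat) (nl4271 i) (nl4272 i) (Nat.ble 65536 i))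
noncomputable def nd2312 (i : Nat) : Nat := (Bool.rec (motive := fun _ => Nat) (nl4273 i) (nl4274 i) (Nat.ble 67584 i))
noncomputable def nd2309 (i : Nat) : Nat := (Bool.rec (motive := fun _ => Nat) ((Bool.rec (motive := fun _ => Nat) (nl4268 i) (nd2310 i) (Nat.ble 62464 i))) ((Bool.rec (motive := fun _ => Nat) (nd2311 i) (nd2312 i) (Nat.ble 66560 i))) (Nat.ble 64512 i))
noncomputable def nd2314 (i : Nat) : Nat := (Bool.rec (motive := fun _ => Nat) (nl4275 i) (nl4276 i) (Nat.ble 69632 i))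
noncomputable def nd2315 (i : Nat) : Nat := (Bool.rec (motive := fun _ => Nat) (nl4277 i) (nl4278 i) (Nat.ble 71680 i))
noncomputable def nd2316 (i : Nat) : Nat := (Bool.rec (motive := fun _ => Nat) (nl4279 i) (nl4280 i) (Nat.ble 73728 i))
noncomputable def nd2317 (i : Nat) : Nat := (Bool.rec (motive := fun _ => Nat) (nl4281 i) (nl4282 i) (Nat.ble 75776 i))
noncomputable def nd2313 (i : Nat) : Nat := (Bool.rec (motive := fun _ => Nat) ((Bool.rec (motive := fun _ => Nat) (nd2314 i) (nd2315 i) (Nat.ble 70656 i))) ((Bool.rec (motive := fun _ => Nat) (nd2316 i) (nd2317 i) (Nat.ble 74752 i))) (Nat.ble 72704 i))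
noncomputable def nd2319 (i : Nat) : Nat := (Bool.rec (motive := fun _ => Nat) (nl4284 i) (nl4285 i) (Nat.ble 78848 i))
noncomputable def nd2320 (i : Nat) : Nat := (Bool.rec (motive := fun _ => Nat) (nl4286 i) (nl4287 i) (Nat.ble 80896 i))
noncomputable def nd2321 (i : Nat) : Nat := (Bool.rec (motive := fun _ => Nat) (nl4288 i) (nl4289 i) (Nat.ble 82944 i))
noncomputable def nd2318 (i : Nat) : Nat := (Bool.rec (motive := fun _ => Nat) ((Bool.rec (motive := fun _ => Nat) (nl4283 i) (nd2319 i) (Nat.ble 77824 i))) ((Bool.rec (motive := fun _ => Nat) (nd2320 i) (nd2321 i) (Nat.ble 81920 i))) (Nat.ble 79872 i))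
noncomputable def nd2323 (i : Nat) : Nat := (Bool.rec (motive := fun _ => Nat) (nl4290 i) (nl4291 i) (Nat.ble 84992 i))
noncomputable def nd2324 (i : Nat) : Nat := (Bool.rec (motive := fun _ => Nat) (nl4292 i) (nl4293 i) (Nat.ble 87040 i))
noncomputable def nd2325 (i : Nat) : Nat := (Bool.rec (motive := fun _ => Nat) (nl4294 i) (nl4295 i) (Nat.ble 89088 i))
noncomputable def nd2326 (i : Nat) : Nat := (Bool.rec (motive := fun _ => Nat) (nl4296 i) (nl4297 i) (Nat.ble 91136 i))
noncomputable def nd2322 (i : Nat) : Nat := (Bool.rec (motive := fun _ => Nat) ((Bool.rec (motive := fun _ => Nat) (nd2323 i) (nd2324 i) (Nat.ble 86016 i))) ((Bool.rec (motive := fun _ => Nat) (nd2325 i) (nd2326 i) (Nat.ble 90112 i))) (Nat.ble 88064 i))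
noncomputable def nd2308 (i : Nat) : Nat := (Bool.rec (motive := fun _ => Nat) ((Bool.rec (motive := fun _ => Nat) (nd2309 i) (nd2313 i) (Nat.ble 68608 i))) ((Bool.rec (motive := fun _ => Nat) (nd2318 i) (nd2322 i) (Nat.ble 83968 i))) (Nat.ble 76800 i))
noncomputable def nd2329 (i : Nat) : Nat := (Bool.rec (motive := fun _ => Nat) (nl4299 i) (nl4300 i) (Nat.ble 94208 i))
noncomputable def nd2330 (i : Nat) : Nat := (Bool.rec (motive := fun _ => Nat) (nl4301 i) (nl4302 i) (Nat.ble 96256 i))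
noncomputable def nd2331 (i : Nat) : Nat := (Bool.rec (motive := fun _ => Nat) (nl4303 i) (nl4304 i) (Nat.ble 98304 i))
noncomputable def nd2328 (i : Nat) : Nat := (Bool.rec (motive := fun _ => Nat) ((Bool.rec (motive := fun _ => Nat) (nl4298 i) (nd2329 i) (Nat.ble 93184 i))) ((Bool.rec (motive := fun _ => Nat) (nd2330 i) (nd2331 i) (Nat.ble 97280 i))) (Nat.ble 95232 i))
noncomputable def nd2333 (i : Nat) : Nat := (Bool.rec (motive := fun _ => Nat) (nl4305 i) (nl4306 i) (Nat.ble 100352 i))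
noncomputable def nd2334 (i : Nat) : Nat := (Bool.rec (motive := fun _ => Nat) (nl4307 i) (nl4308 i) (Nat.ble 102400 i))
noncomputable def nd2335 (i : Nat) : Nat := (Bool.rec (motive := fun _ => Nat) (nl4309 i) (nl4310 i) (Nat.ble 104448 i))
noncomputable def nd2336 (i : Nat) : Nat := (Bool.rec (motive := fun _ => Nat) (nl4311 i) (nl4312 i) (Nat.ble 106496 i))
noncomputable def nd2332 (i : Nat) : Nat := (Bool.rec (motive := fun _ => Nat) ((Bool.rec (motive := fun _ => Nat) (nd2333 i) (nd2334 i) (Nat.ble 101376 i))) ((Bool.rec (motive := fun _ => Nat) (nd2335 i) (nd2336 i) (Nat.ble 105472 i))) (Nat.ble 103424 i))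
noncomputable def nd2338 (i : Nat) : Nat := (Bool.rec (motive := fun _ => Nat) (nl4314 i) (nl4315 i) (Nat.ble 109568 i))
noncomputable def nd2339 (i : Nat) : Nat := (Bool.rec (motive := fun _ => Nat) (nl4316 i) (nl4317 i) (Nat.ble 111616 i))
noncomputable def nd2340 (i : Nat) : Nat := (Bool.rec (motive := fun _ => Nat) (nl4318 i) (nl4319 i) (Nat.ble 113664 i))
noncomputable def nd2337 (i : Nat) : Nat := (Bool.rec (motive := fun _ => Nat) ((Bool.rec (motive := fun _ => Nat) (nl4313 i) (nd2338 i) (Nat.ble 108544 i))) ((Bool.rec (motive := fun _ => Nat) (nd2339 i) (nd2340 i) (Nat.ble 112640 i))) (Nat.ble 110592 i))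
noncomputable def nd2342 (i : Nat) : Nat := (Bool.rec (motive := fun _ => Nat) (nl4320 i) (nl4321 i) (Nat.ble 115712 i))
noncomputable def nd2343 (i : Nat) : Nat := (Bool.rec (motive := fun _ => Nat) (nl4322 i) (nl4323 i) (Nat.ble 117760 i))
noncomputable def nd2344 (i : Nat) : Nat := (Bool.rec (motive := fun _ => Nat) (nl4324 i) (nl4325 i) (Nat.ble 119808 i))
noncomputable def nd2345 (i : Nat) : Nat := (Bool.rec (motive := fun _ => Nat) (nl4326 i) (nl4327 i) (Nat.ble 121856 i))
noncomputable def nd2341 (i : Nat) : Nat := (Bool.rec (motive := fun _ => Nat) ((Bool.rec (motive := fun _ => Nat) (nd2342 i) (nd2343 i) (Nat.ble 116736 i))) ((Bool.rec (motive := fun _ => Nat) (nd2344 i) (nd2345 i) (Nat.ble 120832 i))) (Nat.ble 118784 i))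
noncomputable def nd2327 (i : Nat) : Nat := (Bool.rec (motive := fun _ => Nat) ((Bool.rec (motive := fun _ => Nat) (nd2328 i) (nd2332 i) (Nat.ble 99328 i))) ((Bool.rec (motive := fun _ => Nat) (nd2337 i) (nd2341 i) (Nat.ble 114688 i))) (Nat.ble 107520 i))
noncomputable def nd2269 (i : Nat) : Nat := (Bool.rec (motive := fun _ => Nat) ((Bool.rec (motive := fun _ => Nat) (nd2270 i) (nd2289 i) (Nat.ble 30720 i))) ((Bool.rec (motive := fun _ => Nat) (nd2308 i) (nd2327 i) (Nat.ble 92160 i))) (Nat.ble 61440 i))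
noncomputable def nd2349 (i : Nat) : Nat := (Bool.rec (motive := fun _ => Nat) (nl4329 i) (nl4330 i) (Nat.ble 2048 i))
noncomputable def nd2350 (i : Nat) : Nat := (Bool.rec (motive := fun _ => Nat) (nl4331 i) (nl4332 i) (Nat.ble 4096 i))
noncomputable def nd2351 (i : Nat) : Nat := (Bool.rec (motive := fun _ => Nat) (nl4333 i) (nl4334 i) (Nat.ble 6144 i))
noncomputable def nd2348 (i : Nat) : Nat := (Bool.rec (motive := fun _ => Nat) ((Bool.rec (motive := fun _ => Nat) (nl4328 i) (nd2349 i) (Nat.ble 1024 i))) ((Bool.rec (motive := fun _ => Nat) (nd2350 i) (nd2351 i) (Nat.ble 5120 i))) (Nat.ble 3072 i))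
noncomputable def nd2353 (i : Nat) : Nat := (Bool.rec (motive := fun _ => Nat) (nl4335 i) (nl4336 i) (Nat.ble 8192 i))
noncomputable def nd2354 (i : Nat) : Nat := (Bool.rec (motive := fun _ => Nat) (nl4337 i) (nl4338 i) (Nat.ble 10240 i))
noncomputable def nd2355 (i : Nat) : Nat := (Bool.rec (motive := fun _ => Nat) (nl4339 i) (nl4340 i) (Nat.ble 12288 i))
noncomputable def nd2356 (i : Nat) : Nat := (Bool.rec (motive := fun _ => Nat) (nl4341 i) (nl4342 i) (Nat.ble 14336 i))
noncomputable def nd2352 (i : Nat) : Nat := (Bool.rec (motive := fun _ => Nat) ((Bool.rec (motive := fun _ => Nat) (nd2353 i) (nd2354 i) (Nat.ble 9216 i))) ((Bool.rec (motive := fun _ => Nat) (nd2355 i) (nd2356 i) (Nat.ble 13312 i))) (Nat.ble 11264 i))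
noncomputable def nd2358 (i : Nat) : Nat := (Bool.rec (motive := fun _ => Nat) (nl4344 i) (nl4345 i) (Nat.ble 17408 i))
noncomputable def nd2359 (i : Nat) : Nat := (Bool.rec (motive := fun _ => Nat) (nl4346 i) (nl4347 i) (Nat.ble 19456 i))
noncomputable def nd2360 (i : Nat) : Nat := (Bool.rec (motive := fun _ => Nat) (nl4348 i) (nl4349 i) (Nat.ble 21504 i))
noncomputable def nd2357 (i : Nat) : Nat := (Bool.rec (motive := fun _ => Nat) ((Bool.rec (motive := fun _ => Nat) (nl4343 i) (nd2358 i) (Nat.ble 16384 i))) ((Bool.rec (motive := fun _ => Nat) (nd2359 i) (nd2360 i) (Nat.ble 20480 i))) (Nat.ble 18432 i))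
noncomputable def nd2362 (i : Nat) : Nat := (Bool.rec (motive := fun _ => Nat) (nl4350 i) (nl4351 i) (Nat.ble 23552 i))
noncomputable def nd2363 (i : Nat) : Nat := (Bool.rec (motive := fun _ => Nat) (nl4352 i) (nl4353 i) (Nat.ble 25600 i))
noncomputable def nd2364 (i : Nat) : Nat := (Bool.rec (motive := fun _ => Nat) (nl4354 i) (nl4355 i) (Nat.ble 27648 i))
noncomputable def nd2365 (i : Nat) : Nat := (Bool.rec (motive := fun _ => Nat) (nl4356 i) (nl4357 i) (Nat.ble 29696 i))
noncomputable def nd2361 (i : Nat) : Nat := (Bool.rec (motive := fun _ => Nat) ((Bool.rec (motive := fun _ => Nat) (nd2362 i) (nd2363 i) (Nat.ble 24576 i))) ((Bool.rec (motive := fun _ => Nat) (nd2364 i) (nd2365 i) (Nat.ble 28672 i))) (Nat.ble 26624 i))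
noncomputable def nd2347 (i : Nat) : Nat := (Bool.rec (motive := fun _ => Nat) ((Bool.rec (motive := fun _ => Nat) (nd2348 i) (nd2352 i) (Nat.ble 7168 i))) ((Bool.rec (motive := fun _ => Nat) (nd2357 i) (nd2361 i) (Nat.ble 22528 i))) (Nat.ble 15360 i))
noncomputable def nd2368 (i : Nat) : Nat := (Bool.rec (motive := fun _ => Nat) (nl4359 i) (nl4360 i) (Nat.ble 32768 i))
noncomputable def nd2369 (i : Nat) : Nat := (Bool.rec (motive := fun _ => Nat) (nl4361 i) (nl4362 i) (Nat.ble 34816 i))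
noncomputable def nd2370 (i : Nat) : Nat := (Bool.rec (motive := fun _ => Nat) (nl4363 i) (nl4364 i) (Nat.ble 36864 i))
noncomputable def nd2367 (i : Nat) : Nat := (Bool.rec (motive := fun _ => Nat) ((Bool.rec (motive := fun _ => Nat) (nl4358 i) (nd2368 i) (Nat.ble 31744 i))) ((Bool.rec (motive := fun _ => Nat) (nd2369 i) (nd2370 i) (Nat.ble 35840 i))) (Nat.ble 33792 i))
noncomputable def nd2372 (i : Nat) : Nat := (Bool.rec (motive := fun _ => Nat) (nl4365 i) (nl4366 i) (Nat.ble 38912 i))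
noncomputable def nd2373 (i : Nat) : Nat := (Bool.rec (motive := fun _ => Nat) (nl4367 i) (nl4368 i) (Nat.ble 40960 i))
noncomputable def nd2374 (i : Nat) : Nat := (Bool.rec (motive := fun _ => Nat) (nl4369 i) (nl4370 i) (Nat.ble 43008 i))
noncomputable def nd2375 (i : Nat) : Nat := (Bool.rec (motive := fun _ => Nat) (nl4371 i) (nl4372 i) (Nat.ble 45056 i))
noncomputable def nd2371 (i : Nat) : Nat := (Bool.rec (motive := fun _ => Nat) ((Bool.rec (motive := fun _ => Nat) (nd2372 i) (nd2373 i) (Nat.ble 39936 i))) ((Bool.rec (motive := fun _ => Nat) (nd2374 i) (nd2375 i) (Nat.ble 44032 i))) (Nat.ble 41984 i))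
noncomputable def nd2377 (i : Nat) : Nat := (Bool.rec (motive := fun _ => Nat) (nl4374 i) (nl4375 i) (Nat.ble 48128 i))
noncomputable def nd2378 (i : Nat) : Nat := (Bool.rec (motive := fun _ => Nat) (nl4376 i) (nl4377 i) (Nat.ble 50176 i))
noncomputable def nd2379 (i : Nat) : Nat := (Bool.rec (motive := fun _ => Nat) (nl4378 i) (nl4379 i) (Nat.ble 52224 i))
noncomputable def nd2376 (i : Nat) : Nat := (Bool.rec (motive := fun _ => Nat) ((Bool.rec (motive := fun _ => Nat) (nl4373 i) (nd2377 i) (Nat.ble 47104 i))) ((Bool.rec (motive := fun _ => Nat) (nd2378 i) (nd2379 i) (Nat.ble 51200 i))) (Nat.ble 49152 i))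
noncomputable def nd2381 (i : Nat) : Nat := (Bool.rec (motive := fun _ => Nat) (nl4380 i) (nl4381 i) (Nat.ble 54272 i))
noncomputable def nd2382 (i : Nat) : Nat := (Bool.rec (motive := fun _ => Nat) (nl4382 i) (nl4383 i) (Nat.ble 56320 i))
noncomputable def nd2383 (i : Nat) : Nat := (Bool.rec (motive := fun _ => Nat) (nl4384 i) (nl4385 i) (Nat.ble 58368 i))
noncomputable def nd2384 (i : Nat) : Nat := (Bool.rec (motive := fun _ => Nat) (nl4386 i) (nl4387 i) (Nat.ble 60416 i))
noncomputable def nd2380 (i : Nat) : Nat := (Bool.rec (motive := fun _ => Nat) ((Bool.rec (motive := fun _ => Nat) (nd2381 i) (nd2382 i) (Nat.ble 55296 i))) ((Bool.rec (motive := fun _ => Nat) (nd2383 i) (nd2384 i) (Nat.ble 59392 i))) (Nat.ble 57344 i))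
noncomputable def nd2366 (i : Nat) : Nat := (Bool.rec (motive := fun _ => Nat) ((Bool.rec (motive := fun _ => Nat) (nd2367 i) (nd2371 i) (Nat.ble 37888 i))) ((Bool.rec (motive := fun _ => Nat) (nd2376 i) (nd2380 i) (Nat.ble 53248 i))) (Nat.ble 46080 i))
noncomputable def nd2387 (i : Nat) : Nat := (Bool.rec (motive := fun _ => Nat) (nl4389 i) (nl4390 i) (Nat.ble 63488 i))
noncomputable def nd2388 (i : Nat) : Nat := (Bool.rec (motive := fun _ => Nat) (nl4391 i) (nl4392 i) (Nat.ble 65536 i))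
noncomputable def nd2389 (i : Nat) : Nat := (Bool.rec (motive := fun _ => Nat) (nl4393 i) (nl4394 i) (Nat.ble 67584 i))
noncomputable def nd2386 (i : Nat) : Nat := (Bool.rec (motive := fun _ => Nat) ((Bool.rec (motive := fun _ => Nat) (nl4388 i) (nd2387 i) (Nat.ble 62464 i))) ((Bool.rec (motive := fun _ => Nat) (nd2388 i) (nd2389 i) (Nat.ble 66560 i))) (Nat.ble 64512 i))
noncomputable def nd2391 (i : Nat) : Nat := (Bool.rec (motive := fun _ => Nat) (nl4395 i) (nl4396 i) (Nat.ble 69632 i))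
noncomputable def nd2392 (i : Nat) : Nat := (Bool.rec (motive := fun _ => Nat) (nl4397 i) (nl4398 i) (Nat.ble 71680 i))
noncomputable def nd2393 (i : Nat) : Nat := (Bool.rec (motive := fun _ => Nat) (nl4399 i) (nl4400 i) (Nat.ble 73728 i))
noncomputable def nd2394 (i : Nat) : Nat := (Bool.rec (motive := fun _ => Nat) (nl4401 i) (nl4402 i) (Nat.ble 75776 i))
noncomputable def nd2390 (i : Nat) : Nat := (Bool.rec (motive := fun _ => Nat) ((Bool.rec (motive := fun _ => Nat) (nd2391 i) (nd2392 i) (Nat.ble 70656 i))) ((Bool.rec (motive := fun _ => Nat) (nd2393 i) (nd2394 i) (Nat.ble 74752 i))) (Nat.ble 72704 i))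
noncomputable def nd2396 (i : Nat) : Nat := (Bool.rec (motive := fun _ => Nat) (nl4404 i) (nl4405 i) (Nat.ble 78848 i))
noncomputable def nd2397 (i : Nat) : Nat := (Bool.rec (motive := fun _ => Nat) (nl4406 i) (nl4407 i) (Nat.ble 80896 i))
noncomputable def nd2398 (i : Nat) : Nat := (Bool.rec (motive := fun _ => Nat) (nl4408 i) (nl4409 i) (Nat.ble 82944 i))
noncomputable def nd2395 (i : Nat) : Nat := (Bool.rec (motive := fun _ => Nat) ((Bool.rec (motive := fun _ => Nat) (nl4403 i) (nd2396 i) (Nat.ble 77824 i))) ((Bool.rec (motive := fun _ => Nat) (nd2397 i) (nd2398 i) (Nat.ble 81920 i))) (Nat.ble 79872 i))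
noncomputable def nd2400 (i : Nat) : Nat := (Bool.rec (motive := fun _ => Nat) (nl4410 i) (nl4411 i) (Nat.ble 84992 i))
noncomputable def nd2401 (i : Nat) : Nat := (Bool.rec (motive := fun _ => Nat) (nl4412 i) (nl4413 i) (Nat.ble 87040 i))
noncomputable def nd2402 (i : Nat) : Nat := (Bool.rec (motive := fun _ => Nat) (nl4414 i) (nl4415 i) (Nat.ble 89088 i))
noncomputable def nd2403 (i : Nat) : Nat := (Bool.rec (motive := fun _ => Nat) (nl4416 i) (nl4417 i) (Nat.ble 91136 i))
noncomputable def nd2399 (i : Nat) : Nat := (Bool.rec (motive := fun _ => Nat) ((Bool.rec (motive := fun _ => Nat) (nd2400 i) (nd2401 i) (Nat.ble 86016 i))) ((Bool.rec (motive := fun _ => Nat) (nd2402 i) (nd2403 i) (Nat.ble 90112 i))) (Nat.ble 88064 i))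
noncomputable def nd2385 (i : Nat) : Nat := (Bool.rec (motive := fun _ => Nat) ((Bool.rec (motive := fun _ => Nat) (nd2386 i) (nd2390 i) (Nat.ble 68608 i))) ((Bool.rec (motive := fun _ => Nat) (nd2395 i) (nd2399 i) (Nat.ble 83968 i))) (Nat.ble 76800 i))
noncomputable def nd2406 (i : Nat) : Nat := (Bool.rec (motive := fun _ => Nat) (nl4419 i) (nl4420 i) (Nat.ble 94208 i))
noncomputable def nd2407 (i : Nat) : Nat := (Bool.rec (motive := fun _ => Nat) (nl4421 i) (nl4422 i) (Nat.ble 96256 i))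
noncomputable def nd2408 (i : Nat) : Nat := (Bool.rec (motive := fun _ => Nat) (nl4423 i) (nl4424 i) (Nat.ble 98304 i))
noncomputable def nd2405 (i : Nat) : Nat := (Bool.rec (motive := fun _ => Nat) ((Bool.rec (motive := fun _ => Nat) (nl4418 i) (nd2406 i) (Nat.ble 93184 i))) ((Bool.rec (motive := fun _ => Nat) (nd2407 i) (nd2408 i) (Nat.ble 97280 i))) (Nat.ble 95232 i))
noncomputable def nd2410 (i : Nat) : Nat := (Bool.rec (motive := fun _ => Nat) (nl4425 i) (nl4426 i) (Nat.ble 100352 i))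
noncomputable def nd2411 (i : Nat) : Nat := (Bool.rec (motive := fun _ => Nat) (nl4427 i) (nl4428 i) (Nat.ble 102400 i))
noncomputable def nd2412 (i : Nat) : Nat := (Bool.rec (motive := fun _ => Nat) (nl4429 i) (nl4430 i) (Nat.ble 104448 i))
noncomputable def nd2413 (i : Nat) : Nat := (Bool.rec (motive := fun _ => Nat) (nl4431 i) (nl4432 i) (Nat.ble 106496 i))
noncomputable def nd2409 (i : Nat) : Nat := (Bool.rec (motive := fun _ => Nat) ((Bool.rec (motive := fun _ => Nat) (nd2410 i) (nd2411 i) (Nat.ble 101376 i))) ((Bool.rec (motive := fun _ => Nat) (nd2412 i) (nd2413 i) (Nat.ble 105472 i))) (Nat.ble 103424 i))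
noncomputable def nd2415 (i : Nat) : Nat := (Bool.rec (motive := fun _ => Nat) (nl4434 i) (nl4435 i) (Nat.ble 109568 i))
noncomputable def nd2416 (i : Nat) : Nat := (Bool.rec (motive := fun _ => Nat) (nl4436 i) (nl4437 i) (Nat.ble 111616 i))
noncomputable def nd2417 (i : Nat) : Nat := (Bool.rec (motive := fun _ => Nat) (nl4438 i) (nl4439 i) (Nat.ble 113664 i))
noncomputable def nd2414 (i : Nat) : Nat := (Bool.rec (motive := fun _ => Nat) ((Bool.rec (motive := fun _ => Nat) (nl4433 i) (nd2415 i) (Nat.ble 108544 i))) ((Bool.rec (motive := fun _ => Nat) (nd2416 i) (nd2417 i) (Nat.ble 112640 i))) (Nat.ble 110592 i))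
noncomputable def nd2419 (i : Nat) : Nat := (Bool.rec (motive := fun _ => Nat) (nl4440 i) (nl4441 i) (Nat.ble 115712 i))
noncomputable def nd2420 (i : Nat) : Nat := (Bool.rec (motive := fun _ => Nat) (nl4442 i) (nl4443 i) (Nat.ble 117760 i))
noncomputable def nd2421 (i : Nat) : Nat := (Bool.rec (motive := fun _ => Nat) (nl4444 i) (nl4445 i) (Nat.ble 119808 i))
noncomputable def nd2422 (i : Nat) : Nat := (Bool.rec (motive := fun _ => Nat) (nl4446 i) (nl4447 i) (Nat.ble 121856 i))
noncomputable def nd2418 (i : Nat) : Nat := (Bool.rec (motive := fun _ => Nat) ((Bool.rec (motive := fun _ => Nat) (nd2419 i) (nd2420 i) (Nat.ble 116736 i))) ((Bool.rec (motive := fun _ => Nat) (nd2421 i) (nd2422 i) (Nat.ble 120832 i))) (Nat.ble 118784 i))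
noncomputable def nd2404 (i : Nat) : Nat := (Bool.rec (motive := fun _ => Nat) ((Bool.rec (motive := fun _ => Nat) (nd2405 i) (nd2409 i) (Nat.ble 99328 i))) ((Bool.rec (motive := fun _ => Nat) (nd2414 i) (nd2418 i) (Nat.ble 114688 i))) (Nat.ble 107520 i))
noncomputable def nd2346 (i : Nat) : Nat := (Bool.rec (motive := fun _ => Nat) ((Bool.rec (motive := fun _ => Nat) (nd2347 i) (nd2366 i) (Nat.ble 30720 i))) ((Bool.rec (motive := fun _ => Nat) (nd2385 i) (nd2404 i) (Nat.ble 92160 i))) (Nat.ble 61440 i))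
noncomputable def nd2426 (i : Nat) : Nat := (Bool.rec (motive := fun _ => Nat) (nl4449 i) (nl4450 i) (Nat.ble 2048 i))
noncomputable def nd2427 (i : Nat) : Nat := (Bool.rec (motive := fun _ => Nat) (nl4451 i) (nl4452 i) (Nat.ble 4096 i))
noncomputable def nd2428 (i : Nat) : Nat := (Bool.rec (motive := fun _ => Nat) (nl4453 i) (nl4454 i) (Nat.ble 6144 i))
noncomputable def nd2425 (i : Nat) : Nat := (Bool.rec (motive := fun _ => Nat) ((Bool.rec (motive := fun _ => Nat) (nl4448 i) (nd2426 i) (Nat.ble 1024 i))) ((Bool.rec (motive := fun _ => Nat) (nd2427 i) (nd2428 i) (Nat.ble 5120 i))) (Nat.ble 3072 i))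
noncomputable def nd2430 (i : Nat) : Nat := (Bool.rec (motive := fun _ => Nat) (nl4455 i) (nl4456 i) (Nat.ble 8192 i))
noncomputable def nd2431 (i : Nat) : Nat := (Bool.rec (motive := fun _ => Nat) (nl4457 i) (nl4458 i) (Nat.ble 10240 i))
noncomputable def nd2432 (i : Nat) : Nat := (Bool.rec (motive := fun _ => Nat) (nl4459 i) (nl4460 i) (Nat.ble 12288 i))
noncomputable def nd2433 (i : Nat) : Nat := (Bool.rec (motive := fun _ => Nat) (nl4461 i) (nl4462 i) (Nat.ble 14336 i))
noncomputable def nd2429 (i : Nat) : Nat := (Bool.rec (motive := fun _ => Nat) ((Bool.rec (motive := fun _ => Nat) (nd2430 i) (nd2431 i) (Nat.ble 9216 i))) ((Bool.rec (motive := fun _ => Nat) (nd2432 i) (nd2433 i) (Nat.ble 13312 i))) (Nat.ble 11264 i))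
noncomputable def nd2435 (i : Nat) : Nat := (Bool.rec (motive := fun _ => Nat) (nl4464 i) (nl4465 i) (Nat.ble 17408 i))
noncomputable def nd2436 (i : Nat) : Nat := (Bool.rec (motive := fun _ => Nat) (nl4466 i) (nl4467 i) (Nat.ble 19456 i))
noncomputable def nd2437 (i : Nat) : Nat := (Bool.rec (motive := fun _ => Nat) (nl4468 i) (nl4469 i) (Nat.ble 21504 i))
noncomputable def nd2434 (i : Nat) : Nat := (Bool.rec (motive := fun _ => Nat) ((Bool.rec (motive := fun _ => Nat) (nl4463 i) (nd2435 i) (Nat.ble 16384 i))) ((Bool.rec (motive := fun _ => Nat) (nd2436 i) (nd2437 i) (Nat.ble 20480 i))) (Nat.ble 18432 i))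
noncomputable def nd2439 (i : Nat) : Nat := (Bool.rec (motive := fun _ => Nat) (nl4470 i) (nl4471 i) (Nat.ble 23552 i))
noncomputable def nd2440 (i : Nat) : Nat := (Bool.rec (motive := fun _ => Nat) (nl4472 i) (nl4473 i) (Nat.ble 25600 i))
noncomputable def nd2441 (i : Nat) : Nat := (Bool.rec (motive := fun _ => Nat) (nl4474 i) (nl4475 i) (Nat.ble 27648 i))
noncomputable def nd2442 (i : Nat) : Nat := (Bool.rec (motive := fun _ => Nat) (nl4476 i) (nl4477 i) (Nat.ble 29696 i))
noncomputable def nd2438 (i : Nat) : Nat := (Bool.rec (motive := fun _ => Nat) ((Bool.rec (motive := fun _ => Nat) (nd2439 i) (nd2440 i) (Nat.ble 24576 i))) ((Bool.rec (motive := fun _ => Nat) (nd2441 i) (nd2442 i) (Nat.ble 28672 i))) (Nat.ble 26624 i))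
noncomputable def nd2424 (i : Nat) : Nat := (Bool.rec (motive := fun _ => Nat) ((Bool.rec (motive := fun _ => Nat) (nd2425 i) (nd2429 i) (Nat.ble 7168 i))) ((Bool.rec (motive := fun _ => Nat) (nd2434 i) (nd2438 i) (Nat.ble 22528 i))) (Nat.ble 15360 i))
noncomputable def nd2445 (i : Nat) : Nat := (Bool.rec (motive := fun _ => Nat) (nl4479 i) (nl4480 i) (Nat.ble 32768 i))
noncomputable def nd2446 (i : Nat) : Nat := (Bool.rec (motive := fun _ => Nat) (nl4481 i) (nl4482 i) (Nat.ble 34816 i))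
noncomputable def nd2447 (i : Nat) : Nat := (Bool.rec (motive := fun _ => Nat) (nl4483 i) (nl4484 i) (Nat.ble 36864 i))
noncomputable def nd2444 (i : Nat) : Nat := (Bool.rec (motive := fun _ => Nat) ((Bool.rec (motive := fun _ => Nat) (nl4478 i) (nd2445 i) (Nat.ble 31744 i))) ((Bool.rec (motive := fun _ => Nat) (nd2446 i) (nd2447 i) (Nat.ble 35840 i))) (Nat.ble 33792 i))
noncomputable def nd2449 (i : Nat) : Nat := (Bool.rec (motive := fun _ => Nat) (nl4485 i) (nl4486 i) (Nat.ble 38912 i))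
noncomputable def nd2450 (i : Nat) : Nat := (Bool.rec (motive := fun _ => Nat) (nl4487 i) (nl4488 i) (Nat.ble 40960 i))
noncomputable def nd2451 (i : Nat) : Nat := (Bool.rec (motive := fun _ => Nat) (nl4489 i) (nl4490 i) (Nat.ble 43008 i))
noncomputable def nd2452 (i : Nat) : Nat := (Bool.rec (motive := fun _ => Nat) (nl4491 i) (nl4492 i) (Nat.ble 45056 i))
noncomputable def nd2448 (i : Nat) : Nat := (Bool.rec (motive := fun _ => Nat) ((Bool.rec (motive := fun _ => Nat) (nd2449 i) (nd2450 i) (Nat.ble 39936 i))) ((Bool.rec (motive := fun _ => Nat) (nd2451 i) (nd2452 i) (Nat.ble 44032 i))) (Nat.ble 41984 i))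
noncomputable def nd2454 (i : Nat) : Nat := (Bool.rec (motive := fun _ => Nat) (nl4494 i) (nl4495 i) (Nat.ble 48128 i))
noncomputable def nd2455 (i : Nat) : Nat := (Bool.rec (motive := fun _ => Nat) (nl4496 i) (nl4497 i) (Nat.ble 50176 i))
noncomputable def nd2456 (i : Nat) : Nat := (Bool.rec (motive := fun _ => Nat) (nl4498 i) (nl4499 i) (Nat.ble 52224 i))
noncomputable def nd2453 (i : Nat) : Nat := (Bool.rec (motive := fun _ => Nat) ((Bool.rec (motive := fun _ => Nat) (nl4493 i) (nd2454 i) (Nat.ble 47104 i))) ((Bool.rec (motive := fun _ => Nat) (nd2455 i) (nd2456 i) (Nat.ble 51200 i))) (Nat.ble 49152 i))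
noncomputable def nd2458 (i : Nat) : Nat := (Bool.rec (motive := fun _ => Nat) (nl4500 i) (nl4501 i) (Nat.ble 54272 i))
noncomputable def nd2459 (i : Nat) : Nat := (Bool.rec (motive := fun _ => Nat) (nl4502 i) (nl4503 i) (Nat.ble 56320 i))
noncomputable def nd2460 (i : Nat) : Nat := (Bool.rec (motive := fun _ => Nat) (nl4504 i) (nl4505 i) (Nat.ble 58368 i))
noncomputable def nd2461 (i : Nat) : Nat := (Bool.rec (motive := fun _ => Nat) (nl4506 i) (nl4507 i) (Nat.ble 60416 i))
noncomputable def nd2457 (i : Nat) : Nat := (Bool.rec (motive := fun _ => Nat) ((Bool.rec (motive := fun _ => Nat) (nd2458 i) (nd2459 i) (Nat.ble 55296 i))) ((Bool.rec (motive := fun _ => Nat) (nd2460 i) (nd2461 i) (Nat.ble 59392 i))) (Nat.ble 57344 i))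
noncomputable def nd2443 (i : Nat) : Nat := (Bool.rec (motive := fun _ => Nat) ((Bool.rec (motive := fun _ => Nat) (nd2444 i) (nd2448 i) (Nat.ble 37888 i))) ((Bool.rec (motive := fun _ => Nat) (nd2453 i) (nd2457 i) (Nat.ble 53248 i))) (Nat.ble 46080 i))
noncomputable def nd2464 (i : Nat) : Nat := (Bool.rec (motive := fun _ => Nat) (nl4509 i) (nl4510 i) (Nat.ble 63488 i))
noncomputable def nd2465 (i : Nat) : Nat := (Bool.rec (motive := fun _ => Nat) (nl4511 i) (nl4512 i) (Nat.ble 65536 i))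
noncomputable def nd2466 (i : Nat) : Nat := (Bool.rec (motive := fun _ => Nat) (nl4513 i) (nl4514 i) (Nat.ble 67584 i))
noncomputable def nd2463 (i : Nat) : Nat := (Bool.rec (motive := fun _ => Nat) ((Bool.rec (motive := fun _ => Nat) (nl4508 i) (nd2464 i) (Nat.ble 62464 i))) ((Bool.rec (motive := fun _ => Nat) (nd2465 i) (nd2466 i) (Nat.ble 66560 i))) (Nat.ble 64512 i))
noncomputable def nd2468 (i : Nat) : Nat := (Bool.rec (motive := fun _ => Nat) (nl4515 i) (nl4516 i) (Nat.ble 69632 i))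
noncomputable def nd2469 (i : Nat) : Nat := (Bool.rec (motive := fun _ => Nat) (nl4517 i) (nl4518 i) (Nat.ble 71680 i))
noncomputable def nd2470 (i : Nat) : Nat := (Bool.rec (motive := fun _ => Nat) (nl4519 i) (nl4520 i) (Nat.ble 73728 i))
noncomputable def nd2471 (i : Nat) : Nat := (Bool.rec (motive := fun _ => Nat) (nl4521 i) (nl4522 i) (Nat.ble 75776 i))
noncomputable def nd2467 (i : Nat) : Nat := (Bool.rec (motive := fun _ => Nat) ((Bool.rec (motive := fun _ => Nat) (nd2468 i) (nd2469 i) (Nat.ble 70656 i))) ((Bool.rec (motive := fun _ => Nat) (nd2470 i) (nd2471 i) (Nat.ble 74752 i))) (Nat.ble 72704 i))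
noncomputable def nd2473 (i : Nat) : Nat := (Bool.rec (motive := fun _ => Nat) (nl4524 i) (nl4525 i) (Nat.ble 78848 i))
noncomputable def nd2474 (i : Nat) : Nat := (Bool.rec (motive := fun _ => Nat) (nl4526 i) (nl4527 i) (Nat.ble 80896 i))
noncomputable def nd2475 (i : Nat) : Nat := (Bool.rec (motive := fun _ => Nat) (nl4528 i) (nl4529 i) (Nat.ble 82944 i))
noncomputable def nd2472 (i : Nat) : Nat := (Bool.rec (motive := fun _ => Nat) ((Bool.rec (motive := fun _ => Nat) (nl4523 i) (nd2473 i) (Nat.ble 77824 i))) ((Bool.rec (motive := fun _ => Nat) (nd2474 i) (nd2475 i) (Nat.ble 81920 i))) (Nat.ble 79872 i))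
noncomputable def nd2477 (i : Nat) : Nat := (Bool.rec (motive := fun _ => Nat) (nl4530 i) (nl4531 i) (Nat.ble 84992 i))
noncomputable def nd2478 (i : Nat) : Nat := (Bool.rec (motive := fun _ => Nat) (nl4532 i) (nl4533 i) (Nat.ble 87040 i))
noncomputable def nd2479 (i : Nat) : Nat := (Bool.rec (motive := fun _ => Nat) (nl4534 i) (nl4535 i) (Nat.ble 89088 i))
noncomputable def nd2480 (i : Nat) : Nat := (Bool.rec (motive := fun _ => Nat) (nl4536 i) (nl4537 i) (Nat.ble 91136 i))
noncomputable def nd2476 (i : Nat) : Nat := (Bool.rec (motive := fun _ => Nat) ((Bool.rec (motive := fun _ => Nat) (nd2477 i) (nd2478 i) (Nat.ble 86016 i))) ((Bool.rec (motive := fun _ => Nat) (nd2479 i) (nd2480 i) (Nat.ble 90112 i))) (Nat.ble 88064 i))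
noncomputable def nd2462 (i : Nat) : Nat := (Bool.rec (motive := fun _ => Nat) ((Bool.rec (motive := fun _ => Nat) (nd2463 i) (nd2467 i) (Nat.ble 68608 i))) ((Bool.rec (motive := fun _ => Nat) (nd2472 i) (nd2476 i) (Nat.ble 83968 i))) (Nat.ble 76800 i))
noncomputable def nd2483 (i : Nat) : Nat := (Bool.rec (motive := fun _ => Nat) (nl4539 i) (nl4540 i) (Nat.ble 94208 i))
noncomputable def nd2484 (i : Nat) : Nat := (Bool.rec (motive := fun _ => Nat) (nl4541 i) (nl4542 i) (Nat.ble 96256 i))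
noncomputable def nd2485 (i : Nat) : Nat := (Bool.rec (motive := fun _ => Nat) (nl4543 i) (nl4544 i) (Nat.ble 98304 i))
noncomputable def nd2482 (i : Nat) : Nat := (Bool.rec (motive := fun _ => Nat) ((Bool.rec (motive := fun _ => Nat) (nl4538 i) (nd2483 i) (Nat.ble 93184 i))) ((Bool.rec (motive := fun _ => Nat) (nd2484 i) (nd2485 i) (Nat.ble 97280 i))) (Nat.ble 95232 i))
noncomputable def nd2487 (i : Nat) : Nat := (Bool.rec (motive := fun _ => Nat) (nl4545 i) (nl4546 i) (Nat.ble 100352 i))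
noncomputable def nd2488 (i : Nat) : Nat := (Bool.rec (motive := fun _ => Nat) (nl4547 i) (nl4548 i) (Nat.ble 102400 i))
noncomputable def nd2489 (i : Nat) : Nat := (Bool.rec (motive := fun _ => Nat) (nl4549 i) (nl4550 i) (Nat.ble 104448 i))
noncomputable def nd2490 (i : Nat) : Nat := (Bool.rec (motive := fun _ => Nat) (nl4551 i) (nl4552 i) (Nat.ble 106496 i))
noncomputable def nd2486 (i : Nat) : Nat := (Bool.rec (motive := fun _ => Nat) ((Bool.rec (motive := fun _ => Nat) (nd2487 i) (nd2488 i) (Nat.ble 101376 i))) ((Bool.rec (motive := fun _ => Nat) (nd2489 i) (nd2490 i) (Nat.ble 105472 i))) (Nat.ble 103424 i))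
noncomputable def nd2492 (i : Nat) : Nat := (Bool.rec (motive := fun _ => Nat) (nl4554 i) (nl4555 i) (Nat.ble 109568 i))
noncomputable def nd2493 (i : Nat) : Nat := (Bool.rec (motive := fun _ => Nat) (nl4556 i) (nl4557 i) (Nat.ble 111616 i))
noncomputable def nd2494 (i : Nat) : Nat := (Bool.rec (motive := fun _ => Nat) (nl4558 i) (nl4559 i) (Nat.ble 113664 i))
noncomputable def nd2491 (i : Nat) : Nat := (Bool.rec (motive := fun _ => Nat) ((Bool.rec (motive := fun _ => Nat) (nl4553 i) (nd2492 i) (Nat.ble 108544 i))) ((Bool.rec (motive := fun _ => Nat) (nd2493 i) (nd2494 i) (Nat.ble 112640 i))) (Nat.ble 110592 i))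
noncomputable def nd2496 (i : Nat) : Nat := (Bool.rec (motive := fun _ => Nat) (nl4560 i) (nl4561 i) (Nat.ble 115712 i))
noncomputable def nd2497 (i : Nat) : Nat := (Bool.rec (motive := fun _ => Nat) (nl4562 i) (nl4563 i) (Nat.ble 117760 i))
noncomputable def nd2498 (i : Nat) : Nat := (Bool.rec (motive := fun _ => Nat) (nl4564 i) (nl4565 i) (Nat.ble 119808 i))
noncomputable def nd2499 (i : Nat) : Nat := (Bool.rec (motive := fun _ => Nat) (nl4566 i) (nl4567 i) (Nat.ble 121856 i))
noncomputable def nd2495 (i : Nat) : Nat := (Bool.rec (motive := fun _ => Nat) ((Bool.rec (motive := fun _ => Nat) (nd2496 i) (nd2497 i) (Nat.ble 116736 i))) ((Bool.rec (motive := fun _ => Nat) (nd2498 i) (nd2499 i) (Nat.ble 120832 i))) (Nat.ble 118784 i))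
noncomputable def nd2481 (i : Nat) : Nat := (Bool.rec (motive := fun _ => Nat) ((Bool.rec (motive := fun _ => Nat) (nd2482 i) (nd2486 i) (Nat.ble 99328 i))) ((Bool.rec (motive := fun _ => Nat) (nd2491 i) (nd2495 i) (Nat.ble 114688 i))) (Nat.ble 107520 i))
noncomputable def nd2423 (i : Nat) : Nat := (Bool.rec (motive := fun _ => Nat) ((Bool.rec (motive := fun _ => Nat) (nd2424 i) (nd2443 i) (Nat.ble 30720 i))) ((Bool.rec (motive := fun _ => Nat) (nd2462 i) (nd2481 i) (Nat.ble 92160 i))) (Nat.ble 61440 i))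
noncomputable def nd2503 (i : Nat) : Nat := (Bool.rec (motive := fun _ => Nat) (nl4569 i) (nl4570 i) (Nat.ble 2048 i))
noncomputable def nd2504 (i : Nat) : Nat := (Bool.rec (motive := fun _ => Nat) (nl4571 i) (nl4572 i) (Nat.ble 4096 i))
noncomputable def nd2505 (i : Nat) : Nat := (Bool.rec (motive := fun _ => Nat) (nl4573 i) (nl4574 i) (Nat.ble 6144 i))
noncomputable def nd2502 (i : Nat) : Nat := (Bool.rec (motive := fun _ => Nat) ((Bool.rec (motive := fun _ => Nat) (nl4568 i) (nd2503 i) (Nat.ble 1024 i))) ((Bool.rec (motive := fun _ => Nat) (nd2504 i) (nd2505 i) (Nat.ble 5120 i))) (Nat.ble 3072 i))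
noncomputable def nd2507 (i : Nat) : Nat := (Bool.rec (motive := fun _ => Nat) (nl4575 i) (nl4576 i) (Nat.ble 8192 i))
noncomputable def nd2508 (i : Nat) : Nat := (Bool.rec (motive := fun _ => Nat) (nl4577 i) (nl4578 i) (Nat.ble 10240 i))
noncomputable def nd2509 (i : Nat) : Nat := (Bool.rec (motive := fun _ => Nat) (nl4579 i) (nl4580 i) (Nat.ble 12288 i))
noncomputable def nd2510 (i : Nat) : Nat := (Bool.rec (motive := fun _ => Nat) (nl4581 i) (nl4582 i) (Nat.ble 14336 i))
noncomputable def nd2506 (i : Nat) : Nat := (Bool.rec (motive := fun _ => Nat) ((Bool.rec (motive := fun _ => Nat) (nd2507 i) (nd2508 i) (Nat.ble 9216 i))) ((Bool.rec (motive := fun _ => Nat) (nd2509 i) (nd2510 i) (Nat.ble 13312 i))) (Nat.ble 11264 i))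
noncomputable def nd2512 (i : Nat) : Nat := (Bool.rec (motive := fun _ => Nat) (nl4584 i) (nl4585 i) (Nat.ble 17408 i))
noncomputable def nd2513 (i : Nat) : Nat := (Bool.rec (motive := fun _ => Nat) (nl4586 i) (nl4587 i) (Nat.ble 19456 i))
noncomputable def nd2514 (i : Nat) : Nat := (Bool.rec (motive := fun _ => Nat) (nl4588 i) (nl4589 i) (Nat.ble 21504 i))
noncomputable def nd2511 (i : Nat) : Nat := (Bool.rec (motive := fun _ => Nat) ((Bool.rec (motive := fun _ => Nat) (nl4583 i) (nd2512 i) (Nat.ble 16384 i))) ((Bool.rec (motive := fun _ => Nat) (nd2513 i) (nd2514 i) (Nat.ble 20480 i))) (Nat.ble 18432 i))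
noncomputable def nd2516 (i : Nat) : Nat := (Bool.rec (motive := fun _ => Nat) (nl4590 i) (nl4591 i) (Nat.ble 23552 i))
noncomputable def nd2517 (i : Nat) : Nat := (Bool.rec (motive := fun _ => Nat) (nl4592 i) (nl4593 i) (Nat.ble 25600 i))
noncomputable def nd2518 (i : Nat) : Nat := (Bool.rec (motive := fun _ => Nat) (nl4594 i) (nl4595 i) (Nat.ble 27648 i))
noncomputable def nd2519 (i : Nat) : Nat := (Bool.rec (motive := fun _ => Nat) (nl4596 i) (nl4597 i) (Nat.ble 29696 i))
noncomputable def nd2515 (i : Nat) : Nat := (Bool.rec (motive := fun _ => Nat) ((Bool.rec (motive := fun _ => Nat) (nd2516 i) (nd2517 i) (Nat.ble 24576 i))) ((Bool.rec (motive := fun _ => Nat) (nd2518 i) (nd2519 i) (Nat.ble 28672 i))) (Nat.ble 26624 i))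
noncomputable def nd2501 (i : Nat) : Nat := (Bool.rec (motive := fun _ => Nat) ((Bool.rec (motive := fun _ => Nat) (nd2502 i) (nd2506 i) (Nat.ble 7168 i))) ((Bool.rec (motive := fun _ => Nat) (nd2511 i) (nd2515 i) (Nat.ble 22528 i))) (Nat.ble 15360 i))
noncomputable def nd2522 (i : Nat) : Nat := (Bool.rec (motive := fun _ => Nat) (nl4599 i) (nl4600 i) (Nat.ble 32768 i))
noncomputable def nd2523 (i : Nat) : Nat := (Bool.rec (motive := fun _ => Nat) (nl4601 i) (nl4602 i) (Nat.ble 34816 i))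
noncomputable def nd2524 (i : Nat) : Nat := (Bool.rec (motive := fun _ => Nat) (nl4603 i) (nl4604 i) (Nat.ble 36864 i))
noncomputable def nd2521 (i : Nat) : Nat := (Bool.rec (motive := fun _ => Nat) ((Bool.rec (motive := fun _ => Nat) (nl4598 i) (nd2522 i) (Nat.ble 31744 i))) ((Bool.rec (motive := fun _ => Nat) (nd2523 i) (nd2524 i) (Nat.ble 35840 i))) (Nat.ble 33792 i))
noncomputable def nd2526 (i : Nat) : Nat := (Bool.rec (motive := fun _ => Nat) (nl4605 i) (nl4606 i) (Nat.ble 38912 i))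
noncomputable def nd2527 (i : Nat) : Nat := (Bool.rec (motive := fun _ => Nat) (nl4607 i) (nl4608 i) (Nat.ble 40960 i))
noncomputable def nd2528 (i : Nat) : Nat := (Bool.rec (motive := fun _ => Nat) (nl4609 i) (nl4610 i) (Nat.ble 43008 i))
noncomputable def nd2529 (i : Nat) : Nat := (Bool.rec (motive := fun _ => Nat) (nl4611 i) (nl4612 i) (Nat.ble 45056 i))
noncomputable def nd2525 (i : Nat) : Nat := (Bool.rec (motive := fun _ => Nat) ((Bool.rec (motive := fun _ => Nat) (nd2526 i) (nd2527 i) (Nat.ble 39936 i))) ((Bool.rec (motive := fun _ => Nat) (nd2528 i) (nd2529 i) (Nat.ble 44032 i))) (Nat.ble 41984 i))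
noncomputable def nd2531 (i : Nat) : Nat := (Bool.rec (motive := fun _ => Nat) (nl4614 i) (nl4615 i) (Nat.ble 48128 i))
noncomputable def nd2532 (i : Nat) : Nat := (Bool.rec (motive := fun _ => Nat) (nl4616 i) (nl4617 i) (Nat.ble 50176 i))
noncomputable def nd2533 (i : Nat) : Nat := (Bool.rec (motive := fun _ => Nat) (nl4618 i) (nl4619 i) (Nat.ble 52224 i))
noncomputable def nd2530 (i : Nat) : Nat := (Bool.rec (motive := fun _ => Nat) ((Bool.rec (motive := fun _ => Nat) (nl4613 i) (nd2531 i) (Nat.ble 47104 i))) ((Bool.rec (motive := fun _ => Nat) (nd2532 i) (nd2533 i) (Nat.ble 51200 i))) (Nat.ble 49152 i))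
noncomputable def nd2535 (i : Nat) : Nat := (Bool.rec (motive := fun _ => Nat) (nl4620 i) (nl4621 i) (Nat.ble 54272 i))
noncomputable def nd2536 (i : Nat) : Nat := (Bool.rec (motive := fun _ => Nat) (nl4622 i) (nl4623 i) (Nat.ble 56320 i))
noncomputable def nd2537 (i : Nat) : Nat := (Bool.rec (motive := fun _ => Nat) (nl4624 i) (nl4625 i) (Nat.ble 58368 i))
noncomputable def nd2538 (i : Nat) : Nat := (Bool.rec (motive := fun _ => Nat) (nl4626 i) (nl4627 i) (Nat.ble 60416 i))
noncomputable def nd2534 (i : Nat) : Nat := (Bool.rec (motive := fun _ => Nat) ((Bool.rec (motive := fun _ => Nat) (nd2535 i) (nd2536 i) (Nat.ble 55296 i))) ((Bool.rec (motive := fun _ => Nat) (nd2537 i) (nd2538 i) (Nat.ble 59392 i))) (Nat.ble 57344 i))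
noncomputable def nd2520 (i : Nat) : Nat := (Bool.rec (motive := fun _ => Nat) ((Bool.rec (motive := fun _ => Nat) (nd2521 i) (nd2525 i) (Nat.ble 37888 i))) ((Bool.rec (motive := fun _ => Nat) (nd2530 i) (nd2534 i) (Nat.ble 53248 i))) (Nat.ble 46080 i))
noncomputable def nd2541 (i : Nat) : Nat := (Bool.rec (motive := fun _ => Nat) (nl4629 i) (nl4630 i) (Nat.ble 63488 i))
noncomputable def nd2542 (i : Nat) : Nat := (Bool.rec (motive := fun _ => Nat) (nl4631 i) (nl4632 i) (Nat.ble 65536 i))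
noncomputable def nd2543 (i : Nat) : Nat := (Bool.rec (motive := fun _ => Nat) (nl4633 i) (nl4634 i) (Nat.ble 67584 i))
noncomputable def nd2540 (i : Nat) : Nat := (Bool.rec (motive := fun _ => Nat) ((Bool.rec (motive := fun _ => Nat) (nl4628 i) (nd2541 i) (Nat.ble 62464 i))) ((Bool.rec (motive := fun _ => Nat) (nd2542 i) (nd2543 i) (Nat.ble 66560 i))) (Nat.ble 64512 i))
noncomputable def nd2545 (i : Nat) : Nat := (Bool.rec (motive := fun _ => Nat) (nl4635 i) (nl4636 i) (Nat.ble 69632 i))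
noncomputable def nd2546 (i : Nat) : Nat := (Bool.rec (motive := fun _ => Nat) (nl4637 i) (nl4638 i) (Nat.ble 71680 i))
noncomputable def nd2547 (i : Nat) : Nat := (Bool.rec (motive := fun _ => Nat) (nl4639 i) (nl4640 i) (Nat.ble 73728 i))
noncomputable def nd2548 (i : Nat) : Nat := (Bool.rec (motive := fun _ => Nat) (nl4641 i) (nl4642 i) (Nat.ble 75776 i))
noncomputable def nd2544 (i : Nat) : Nat := (Bool.rec (motive := fun _ => Nat) ((Bool.rec (motive := fun _ => Nat) (nd2545 i) (nd2546 i) (Nat.ble 70656 i))) ((Bool.rec (motive := fun _ => Nat) (nd2547 i) (nd2548 i) (Nat.ble 74752 i))) (Nat.ble 72704 i))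
noncomputable def nd2550 (i : Nat) : Nat := (Bool.rec (motive := fun _ => Nat) (nl4644 i) (nl4645 i) (Nat.ble 78848 i))
noncomputable def nd2551 (i : Nat) : Nat := (Bool.rec (motive := fun _ => Nat) (nl4646 i) (nl4647 i) (Nat.ble 80896 i))
noncomputable def nd2552 (i : Nat) : Nat := (Bool.rec (motive := fun _ => Nat) (nl4648 i) (nl4649 i) (Nat.ble 82944 i))
noncomputable def nd2549 (i : Nat) : Nat := (Bool.rec (motive := fun _ => Nat) ((Bool.rec (motive := fun _ => Nat) (nl4643 i) (nd2550 i) (Nat.ble 77824 i))) ((Bool.rec (motive := fun _ => Nat) (nd2551 i) (nd2552 i) (Nat.ble 81920 i))) (Nat.ble 79872 i))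
noncomputable def nd2554 (i : Nat) : Nat := (Bool.rec (motive := fun _ => Nat) (nl4650 i) (nl4651 i) (Nat.ble 84992 i))
noncomputable def nd2555 (i : Nat) : Nat := (Bool.rec (motive := fun _ => Nat) (nl4652 i) (nl4653 i) (Nat.ble 87040 i))
noncomputable def nd2556 (i : Nat) : Nat := (Bool.rec (motive := fun _ => Nat) (nl4654 i) (nl4655 i) (Nat.ble 89088 i))
noncomputable def nd2557 (i : Nat) : Nat := (Bool.rec (motive := fun _ => Nat) (nl4656 i) (nl4657 i) (Nat.ble 91136 i))
noncomputable def nd2553 (i : Nat) : Nat := (Bool.rec (motive := fun _ => Nat) ((Bool.rec (motive := fun _ => Nat) (nd2554 i) (nd2555 i) (Nat.ble 86016 i))) ((Bool.rec (motive := fun _ => Nat) (nd2556 i) (nd2557 i) (Nat.ble 90112 i))) (Nat.ble 88064 i))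
noncomputable def nd2539 (i : Nat) : Nat := (Bool.rec (motive := fun _ => Nat) ((Bool.rec (motive := fun _ => Nat) (nd2540 i) (nd2544 i) (Nat.ble 68608 i))) ((Bool.rec (motive := fun _ => Nat) (nd2549 i) (nd2553 i) (Nat.ble 83968 i))) (Nat.ble 76800 i))
noncomputable def nd2560 (i : Nat) : Nat := (Bool.rec (motive := fun _ => Nat) (nl4659 i) (nl4660 i) (Nat.ble 94208 i))
noncomputable def nd2561 (i : Nat) : Nat := (Bool.rec (motive := fun _ => Nat) (nl4661 i) (nl4662 i) (Nat.ble 96256 i))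
noncomputable def nd2562 (i : Nat) : Nat := (Bool.rec (motive := fun _ => Nat) (nl4663 i) (nl4664 i) (Nat.ble 98304 i))
noncomputable def nd2559 (i : Nat) : Nat := (Bool.rec (motive := fun _ => Nat) ((Bool.rec (motive := fun _ => Nat) (nl4658 i) (nd2560 i) (Nat.ble 93184 i))) ((Bool.rec (motive := fun _ => Nat) (nd2561 i) (nd2562 i) (Nat.ble 97280 i))) (Nat.ble 95232 i))
noncomputable def nd2564 (i : Nat) : Nat := (Bool.rec (motive := fun _ => Nat) (nl4665 i) (nl4666 i) (Nat.ble 100352 i))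
noncomputable def nd2565 (i : Nat) : Nat := (Bool.rec (motive := fun _ => Nat) (nl4667 i) (nl4668 i) (Nat.ble 102400 i))
noncomputable def nd2566 (i : Nat) : Nat := (Bool.rec (motive := fun _ => Nat) (nl4669 i) (nl4670 i) (Nat.ble 104448 i))
noncomputable def nd2567 (i : Nat) : Nat := (Bool.rec (motive := fun _ => Nat) (nl4671 i) (nl4672 i) (Nat.ble 106496 i))
noncomputable def nd2563 (i : Nat) : Nat := (Bool.rec (motive := fun _ => Nat) ((Bool.rec (motive := fun _ => Nat) (nd2564 i) (nd2565 i) (Nat.ble 101376 i))) ((Bool.rec (motive := fun _ => Nat) (nd2566 i) (nd2567 i) (Nat.ble 105472 i))) (Nat.ble 103424 i))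
noncomputable def nd2569 (i : Nat) : Nat := (Bool.rec (motive := fun _ => Nat) (nl4674 i) (nl4675 i) (Nat.ble 109568 i))
noncomputable def nd2570 (i : Nat) : Nat := (Bool.rec (motive := fun _ => Nat) (nl4676 i) (nl4677 i) (Nat.ble 111616 i))
noncomputable def nd2571 (i : Nat) : Nat := (Bool.rec (motive := fun _ => Nat) (nl4678 i) (nl4679 i) (Nat.ble 113664 i))
noncomputable def nd2568 (i : Nat) : Nat := (Bool.rec (motive := fun _ => Nat) ((Bool.rec (motive := fun _ => Nat) (nl4673 i) (nd2569 i) (Nat.ble 108544 i))) ((Bool.rec (motive := fun _ => Nat) (nd2570 i) (nd2571 i) (Nat.ble 112640 i))) (Nat.ble 110592 i))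
noncomputable def nd2573 (i : Nat) : Nat := (Bool.rec (motive := fun _ => Nat) (nl4680 i) (nl4681 i) (Nat.ble 115712 i))
noncomputable def nd2574 (i : Nat) : Nat := (Bool.rec (motive := fun _ => Nat) (nl4682 i) (nl4683 i) (Nat.ble 117760 i))
noncomputable def nd2575 (i : Nat) : Nat := (Bool.rec (motive := fun _ => Nat) (nl4684 i) (nl4685 i) (Nat.ble 119808 i))
noncomputable def nd2576 (i : Nat) : Nat := (Bool.rec (motive := fun _ => Nat) (nl4686 i) (nl4687 i) (Nat.ble 121856 i))
noncomputable def nd2572 (i : Nat) : Nat := (Bool.rec (motive := fun _ => Nat) ((Bool.rec (motive := fun _ => Nat) (nd2573 i) (nd2574 i) (Nat.ble 116736 i))) ((Bool.rec (motive := fun _ => Nat) (nd2575 i) (nd2576 i) (Nat.ble 120832 i))) (Nat.ble 118784 i))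
noncomputable def nd2558 (i : Nat) : Nat := (Bool.rec (motive := fun _ => Nat) ((Bool.rec (motive := fun _ => Nat) (nd2559 i) (nd2563 i) (Nat.ble 99328 i))) ((Bool.rec (motive := fun _ => Nat) (nd2568 i) (nd2572 i) (Nat.ble 114688 i))) (Nat.ble 107520 i))
noncomputable def nd2500 (i : Nat) : Nat := (Bool.rec (motive := fun _ => Nat) ((Bool.rec (motive := fun _ => Nat) (nd2501 i) (nd2520 i) (Nat.ble 30720 i))) ((Bool.rec (motive := fun _ => Nat) (nd2539 i) (nd2558 i) (Nat.ble 92160 i))) (Nat.ble 61440 i))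
noncomputable def wd2579 (i : Nat) : List Nat := (Bool.rec (motive := fun _ => List Nat) ((Bool.rec (motive := fun _ => List Nat) ([2]) ([4]) (Nat.ble 1 i))) ((Bool.rec (motive := fun _ => List Nat) ([6]) ([8]) (Nat.ble 3 i))) (Nat.ble 2 i))
noncomputable def wd2581 (i : Nat) : List Nat := (Bool.rec (motive := fun _ => List Nat) ([]) ([]) (Nat.ble 8 i))
noncomputable def wd2580 (i : Nat) : List Nat := (Bool.rec (motive := fun _ => List Nat) ((Bool.rec (motive := fun _ => List Nat) ([10]) ([12]) (Nat.ble 5 i))) ((Bool.rec (motive := fun _ => List Nat) ([]) (wd2581 i) (Nat.ble 7 i))) (Nat.ble 6 i))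
noncomputable def wd2583 (i : Nat) : List Nat := (Bool.rec (motive := fun _ => List Nat) ([]) ([]) (Nat.ble 13 i))
noncomputable def wd2582 (i : Nat) : List Nat := (Bool.rec (motive := fun _ => List Nat) ((Bool.rec (motive := fun _ => List Nat) ([]) ([]) (Nat.ble 10 i))) ((Bool.rec (motive := fun _ => List Nat) ([]) (wd2583 i) (Nat.ble 12 i))) (Nat.ble 11 i))
noncomputable def wd2585 (i : Nat) : List Nat := (Bool.rec (motive := fun _ => List Nat) ([2, 8, 2, 8]) ([2, 10, 2, 10]) (Nat.ble 18 i))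
noncomputable def wd2584 (i : Nat) : List Nat := (Bool.rec (motive := fun _ => List Nat) ((Bool.rec (motive := fun _ => List Nat) ([2, 2]) ([2, 4, 2, 4, 2, 4]) (Nat.ble 15 i))) ((Bool.rec (motive := fun _ => List Nat) ([2, 6, 2, 6]) (wd2585 i) (Nat.ble 17 i))) (Nat.ble 16 i))
noncomputable def wd2578 (i : Nat) : List Nat := (Bool.rec (motive := fun _ => List Nat) ((Bool.rec (motive := fun _ => List Nat) (wd2579 i) (wd2580 i) (Nat.ble 4 i))) ((Bool.rec (motive := fun _ => List Nat) (wd2582 i) (wd2584 i) (Nat.ble 14 i))) (Nat.ble 9 i))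
noncomputable def wd2587 (i : Nat) : List Nat := (Bool.rec (motive := fun _ => List Nat) ((Bool.rec (motive := fun _ => List Nat) ([2, 12, 2, 12]) ([]) (Nat.ble 20 i))) ((Bool.rec (motive := fun _ => List Nat) ([4, 2, 4, 2, 4, 2]) ([4, 4]) (Nat.ble 22 i))) (Nat.ble 21 i))
noncomputable def wd2589 (i : Nat) : List Nat := (Bool.rec (motive := fun _ => List Nat) ([4, 12, 4, 12]) ([]) (Nat.ble 27 i))
noncomputable def wd2588 (i : Nat) : List Nat := (Bool.rec (motive := fun _ => List Nat) ((Bool.rec (motive := fun _ => List Nat) ([4, 6, 4, 6, 4, 6]) ([4, 8, 4, 8]) (Nat.ble 24 i))) ((Bool.rec (motive := fun _ => List Nat) ([4, 10, 4, 10]) (wd2589 i) (Nat.ble 26 i))) (Nat.ble 25 i))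
noncomputable def wd2591 (i : Nat) : List Nat := (Bool.rec (motive := fun _ => List Nat) ([6, 8, 6, 8, 6, 8, 6, 8, 6, 8, 6, 8, 6, 8, 6, 8]) ([6, 10, 6, 10]) (Nat.ble 32 i))
noncomputable def wd2590 (i : Nat) : List Nat := (Bool.rec (motive := fun _ => List Nat) ((Bool.rec (motive := fun _ => List Nat) ([6, 2, 6, 2]) ([6, 4, 6, 4, 6, 4]) (Nat.ble 29 i))) ((Bool.rec (motive := fun _ => List Nat) ([6, 6]) (wd2591 i) (Nat.ble 31 i))) (Nat.ble 30 i))
noncomputable def wd2593 (i : Nat) : List Nat := (Bool.rec (motive := fun _ => List Nat) ([8, 4, 8, 4]) ([8, 6, 8, 6, 8, 6, 8, 6, 8, 6, 8, 6, 8, 6, 8, 6]) (Nat.ble 37 i))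
noncomputable def wd2592 (i : Nat) : List Nat := (Bool.rec (motive := fun _ => List Nat) ((Bool.rec (motive := fun _ => List Nat) ([6, 12, 6, 12]) ([]) (Nat.ble 34 i))) ((Bool.rec (motive := fun _ => List Nat) ([8, 2, 8, 2]) (wd2593 i) (Nat.ble 36 i))) (Nat.ble 35 i))
noncomputable def wd2586 (i : Nat) : List Nat := (Bool.rec (motive := fun _ => List Nat) ((Bool.rec (motive := fun _ => List Nat) (wd2587 i) (wd2588 i) (Nat.ble 23 i))) ((Bool.rec (motive := fun _ => List Nat) (wd2590 i) (wd2592 i) (Nat.ble 33 i))) (Nat.ble 28 i))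
noncomputable def wd2595 (i : Nat) : List Nat := (Bool.rec (motive := fun _ => List Nat) ((Bool.rec (motive := fun _ => List Nat) ([8, 8]) ([8, 10, 8, 10, 8, 10]) (Nat.ble 39 i))) ((Bool.rec (motive := fun _ => List Nat) ([8, 12, 8, 12]) ([]) (Nat.ble 41 i))) (Nat.ble 40 i))
noncomputable def wd2597 (i : Nat) : List Nat := (Bool.rec (motive := fun _ => List Nat) ([10, 8, 10, 8, 10, 8]) ([10, 10]) (Nat.ble 46 i))
noncomputable def wd2596 (i : Nat) : List Nat := (Bool.rec (motive := fun _ => List Nat) ((Bool.rec (motive := fun _ => List Nat) ([10, 2, 10, 2]) ([10, 4, 10, 4]) (Nat.ble 43 i))) ((Bool.rec (motive := fun _ => List Nat) ([10, 6, 10, 6]) (wd2597 i) (Nat.ble 45 i))) (Nat.ble 44 i))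
noncomputable def wd2599 (i : Nat) : List Nat := (Bool.rec (motive := fun _ => List Nat) ([12, 4, 12, 4]) ([12, 6, 12, 6]) (Nat.ble 51 i))
noncomputable def wd2598 (i : Nat) : List Nat := (Bool.rec (motive := fun _ => List Nat) ((Bool.rec (motive := fun _ => List Nat) ([10, 12, 10, 12, 10, 12]) ([]) (Nat.ble 48 i))) ((Bool.rec (motive := fun _ => List Nat) ([12, 2, 12, 2]) (wd2599 i) (Nat.ble 50 i))) (Nat.ble 49 i))
noncomputable def wd2601 (i : Nat) : List Nat := (Bool.rec (motive := fun _ => List Nat) ([2, 12, 1, 1]) ([2, 12, 9, 7, 9, 7, 9, 7, 9, 7]) (Nat.ble 56 i))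
noncomputable def wd2600 (i : Nat) : List Nat := (Bool.rec (motive := fun _ => List Nat) ((Bool.rec (motive := fun _ => List Nat) ([12, 8, 12, 8]) ([12, 10, 12, 10, 12, 10]) (Nat.ble 53 i))) ((Bool.rec (motive := fun _ => List Nat) ([12, 12]) (wd2601 i) (Nat.ble 55 i))) (Nat.ble 54 i))
noncomputable def wd2594 (i : Nat) : List Nat := (Bool.rec (motive := fun _ => List Nat) ((Bool.rec (motive := fun _ => List Nat) (wd2595 i) (wd2596 i) (Nat.ble 42 i))) ((Bool.rec (motive := fun _ => List Nat) (wd2598 i) (wd2600 i) (Nat.ble 52 i))) (Nat.ble 47 i))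
noncomputable def wd2604 (i : Nat) : List Nat := (Bool.rec (motive := fun _ => List Nat) ([0, 4, 7, 0, 6, 5, 0, 4, 7, 0, 6]) ([0, 10, 9, 0, 8, 11, 0, 10, 9, 0, 8]) (Nat.ble 61 i))
noncomputable def wd2603 (i : Nat) : List Nat := (Bool.rec (motive := fun _ => List Nat) ((Bool.rec (motive := fun _ => List Nat) ([6, 1, 9, 1, 9, 6, 8, 0, 8, 0]) ([8, 1, 7, 1, 7, 8, 6, 0, 6, 0]) (Nat.ble 58 i))) ((Bool.rec (motive := fun _ => List Nat) ([4, 6, 8, 0, 4, 6, 8, 0, 4, 6, 8, 0, 4, 6, 8, 0, 4, 6, 8, 0]) (wd2604 i) (Nat.ble 60 i))) (Nat.ble 59 i))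
noncomputable def wd2606 (i : Nat) : List Nat := (Bool.rec (motive := fun _ => List Nat) ([3, 2]) ([4, 5]) (Nat.ble 66 i))
noncomputable def wd2605 (i : Nat) : List Nat := (Bool.rec (motive := fun _ => List Nat) ((Bool.rec (motive := fun _ => List Nat) ([0, 1]) ([1, 0]) (Nat.ble 63 i))) ((Bool.rec (motive := fun _ => List Nat) ([2, 3]) (wd2606 i) (Nat.ble 65 i))) (Nat.ble 64 i))
noncomputable def wd2608 (i : Nat) : List Nat := (Bool.rec (motive := fun _ => List Nat) ([8, 9]) ([9, 8]) (Nat.ble 71 i))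
noncomputable def wd2607 (i : Nat) : List Nat := (Bool.rec (motive := fun _ => List Nat) ((Bool.rec (motive := fun _ => List Nat) ([5, 4]) ([6, 7]) (Nat.ble 68 i))) ((Bool.rec (motive := fun _ => List Nat) ([7, 6]) (wd2608 i) (Nat.ble 70 i))) (Nat.ble 69 i))
noncomputable def wd2610 (i : Nat) : List Nat := (Bool.rec (motive := fun _ => List Nat) ([13, 12]) ([]) (Nat.ble 76 i))
noncomputable def wd2609 (i : Nat) : List Nat := (Bool.rec (motive := fun _ => List Nat) ((Bool.rec (motive := fun _ => List Nat) ([10, 11]) ([11, 10]) (Nat.ble 73 i))) ((Bool.rec (motive := fun _ => List Nat) ([12, 13]) (wd2610 i) (Nat.ble 75 i))) (Nat.ble 74 i))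
noncomputable def wd2602 (i : Nat) : List Nat := (Bool.rec (motive := fun _ => List Nat) ((Bool.rec (motive := fun _ => List Nat) (wd2603 i) (wd2605 i) (Nat.ble 62 i))) ((Bool.rec (motive := fun _ => List Nat) (wd2607 i) (wd2609 i) (Nat.ble 72 i))) (Nat.ble 67 i))
noncomputable def wd2577 (i : Nat) : List Nat := (Bool.rec (motive := fun _ => List Nat) ((Bool.rec (motive := fun _ => List Nat) (wd2578 i) (wd2586 i) (Nat.ble 19 i))) ((Bool.rec (motive := fun _ => List Nat) (wd2594 i) (wd2602 i) (Nat.ble 57 i))) (Nat.ble 38 i))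
/-- the table of the letter `l` -/
noncomputable def letSel (l : Nat) : Nat → Nat := (Bool.rec (motive := fun _ => Nat → Nat) ((Bool.rec (motive := fun _ => Nat → Nat) ((Bool.rec (motive := fun _ => Nat → Nat) (nd1499) ((Bool.rec (motive := fun _ => Nat → Nat) (nd1576) (nd1653) (Nat.ble 2 l))) (Nat.ble 1 l))) ((Bool.rec (motive := fun _ => Nat → Nat) ((Bool.rec (motive := fun _ => Nat → Nat) (nd1730) (nd1807) (Nat.ble 4 l))) ((Bool.rec (motive := fun _ => Nat → Nat) (nd1884) (nd1961) (Nat.ble 6 l))) (Nat.ble 5 l))) (Nat.ble 3 l))) ((Bool.rec (motive := fun _ => Nat → Nat) ((Bool.rec (motive := fun _ => Nat → Nat) (nd2038) ((Bool.rec (motive := fun _ => Nat → Nat) (nd2115) (nd2192) (Nat.ble 9 l))) (Nat.ble 8 l))) ((Bool.rec (motive := fun _ => Nat → Nat) ((Bool.rec (motive := fun _ => Nat → Nat) (nd2269) (nd2346) (Nat.ble 11 l))) ((Bool.rec (motive := fun _ => Nat → Nat) (nd2423) (nd2500) (Nat.ble 13 l))) (Nat.ble 12 l))) (Nat.ble 10 l))) (Nat.ble 7 l))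
noncomputable def tabs : Tabs where
  M := 192607
  nsub := 6
  nwords := 77
  word := wd2577
  defn := nd341
  fact := nd0
noncomputable def ptabs : PTabs where
  n := 122760
  L := 14
  perm := fun l i => letSel l i
  fin := fun i l => nd426 (Nat.add (Nat.mul i 14) l)
  par := nd1422
theorem perm_eq : ∀ l i, ptabs.perm l i = letSel l i := fun _ _ => rfl
end Cfsg.Agent.Helper28.ON1
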