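import Cfsg.Agent.Helper28.ON1.All
import Cfsg.Prelude.Def_Spor_ON
set_option autoImplicit false
set_option maxRecDepth 1000000
namespace Cfsg.Agent.Helper28.ON1
open Cfsg.Agent.Helper28 Cfsg.Spor

/-- generator with a given index -/
def gen : Nat → ON.Gen
  | 0 => .g | 1 => .a | 2 => .b | 3 => .c | 4 => .d | 5 => .e | _ => .f

/-- index of a generator -/
def idx : ON.Gen → Nat
  | .g => 0 | .a => 1 | .b => 2 | .c => 3 | .d => 4 | .e => 5 | .f => 6

/-- the subgroup generators -/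
def Ylist : List (FreeGroup ON.Gen) := [ON.a, ON.b, ON.c, ON.d, ON.e, ON.f]

theorem hY_ok : ∀ s, s < tabs.nsub → ev gen 7 (tabs.word s) = Ylist.getD s 1 := by
  decide +kernel

theorem hcoxw_ok : ∀ ix, ix < 7 → ∀ iy, iy < 7 →
    tabs.word (tabs.nsub + ix * 7 + iy) = coxW ix iy (lab ON.edges gen ix iy) := by
  decide +kernel

theorem hextra_ok : ∀ j, j < ON.extra.length →
    ev gen 7 (tabs.word (tabs.nsub + 7 * 7 + j)) = ON.extra.getD j 1 := by
  decide +kernel

theorem htriv_ok : ∀ l, l < 2 * 7 →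
    tabs.word (tabs.nsub + 7 * 7 + ON.extra.length + l) = [l, flipL l] := by
  decide +kernel

theorem hletters_ok : ∀ r, r < tabs.nwords → ∀ l ∈ tabs.word r, l < ptabs.L := by
  decide +kernel

theorem layout : Layout ON.edges ON.extra Ylist gen idx 7 tabs ptabs where
  hngen := by decide
  hgi := by intro a; cases a <;> exact ⟨by decide, rfl⟩
  hig := by decide
  hnsub := by decide +kernel
  hY := hY_ok
  hcoxw := hcoxw_ok
  hextra := hextra_ok
  htriv := htriv_ok
  hempty := by decide +kernel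
  hnwords := by decide +kernel
  hL := by decide +kernel
  hletters := hletters_ok

/-- the relators -/
abbrev R : Set (FreeGroup ON.Gen) := coxRels ON.edges ON.extra
/-- the subgroup generators as a set -/
abbrev Y : Set (FreeGroup ON.Gen) := {y | y ∈ Ylist}

theorem facts_to (k kend : Nat) (vs : List Nat) (hc : checkChunks tabs vs k kend = true)
    (hk : ∀ f, f < k → VF (HH R Y) (gG R gen 7) tabs f) :
    ∀ f, f < kend → VF (HH R Y) (gG R gen 7) tabs f :=
  facts_part R Y gen 7 tabs layout.hngen defs_ok layout.hYw layout.hrelw vs k kend hc hk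

theorem facts_0 : ∀ f, f < 0 → VF (HH R Y) (gG R gen 7) tabs f :=
  fun f hf => absurd hf (Nat.not_lt_zero f)
theorem facts_upto0 : ∀ f, f < 4992 → VF (HH R Y) (gG R gen 7) tabs f :=
  facts_to _ _ _ facts_ok0 facts_0
theorem facts_upto1 : ∀ f, f < 9984 → VF (HH R Y) (gG R gen 7) tabs f :=
  facts_to _ _ _ facts_ok1 facts_upto0
theorem facts_upto2 : ∀ f, f < 14976 → VF (HH R Y) (gG R gen 7) tabs f :=
  facts_to _ _ _ facts_ok2 facts_upto1
theorem facts_upto3 : ∀ f, f < 19968 → VF (HH R Y) (gG R gen 7) tabs f :=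
  facts_to _ _ _ facts_ok3 facts_upto2
theorem facts_upto4 : ∀ f, f < 24960 → VF (HH R Y) (gG R gen 7) tabs f :=
  facts_to _ _ _ facts_ok4 facts_upto3
theorem facts_upto5 : ∀ f, f < 29952 → VF (HH R Y) (gG R gen 7) tabs f :=
  facts_to _ _ _ facts_ok5 facts_upto4
theorem facts_upto6 : ∀ f, f < 34944 → VF (HH R Y) (gG R gen 7) tabs f :=
  facts_to _ _ _ facts_ok6 facts_upto5
theorem facts_upto7 : ∀ f, f < 39936 → VF (HH R Y) (gG R gen 7) tabs f :=
  facts_to _ _ _ facts_ok7 facts_upto6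
theorem facts_upto8 : ∀ f, f < 44928 → VF (HH R Y) (gG R gen 7) tabs f :=
  facts_to _ _ _ facts_ok8 facts_upto7
theorem facts_upto9 : ∀ f, f < 49920 → VF (HH R Y) (gG R gen 7) tabs f :=
  facts_to _ _ _ facts_ok9 facts_upto8
theorem facts_upto10 : ∀ f, f < 54912 → VF (HH R Y) (gG R gen 7) tabs f :=
  facts_to _ _ _ facts_ok10 facts_upto9
theorem facts_upto11 : ∀ f, f < 59904 → VF (HH R Y) (gG R gen 7) tabs f :=
  facts_to _ _ _ facts_ok11 facts_upto10
theorem facts_upto12 : ∀ f, f < 64896 → VF (HH R Y) (gG R gen 7) tabs f :=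
  facts_to _ _ _ facts_ok12 facts_upto11
theorem facts_upto13 : ∀ f, f < 69888 → VF (HH R Y) (gG R gen 7) tabs f :=
  facts_to _ _ _ facts_ok13 facts_upto12
theorem facts_upto14 : ∀ f, f < 74880 → VF (HH R Y) (gG R gen 7) tabs f :=
  facts_to _ _ _ facts_ok14 facts_upto13
theorem facts_upto15 : ∀ f, f < 79872 → VF (HH R Y) (gG R gen 7) tabs f :=
  facts_to _ _ _ facts_ok15 facts_upto14
theorem facts_upto16 : ∀ f, f < 84864 → VF (HH R Y) (gG R gen 7) tabs f :=
  facts_to _ _ _ facts_ok16 facts_upto15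
theorem facts_upto17 : ∀ f, f < 89856 → VF (HH R Y) (gG R gen 7) tabs f :=
  facts_to _ _ _ facts_ok17 facts_upto16
theorem facts_upto18 : ∀ f, f < 94848 → VF (HH R Y) (gG R gen 7) tabs f :=
  facts_to _ _ _ facts_ok18 facts_upto17
theorem facts_upto19 : ∀ f, f < 99840 → VF (HH R Y) (gG R gen 7) tabs f :=
  facts_to _ _ _ facts_ok19 facts_upto18
theorem facts_upto20 : ∀ f, f < 104832 → VF (HH R Y) (gG R gen 7) tabs f :=
  facts_to _ _ _ facts_ok20 facts_upto19
theorem facts_upto21 : ∀ f, f < 109824 → VF (HH R Y) (gG R gen 7) tabs f :=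
  facts_to _ _ _ facts_ok21 facts_upto20
theorem facts_upto22 : ∀ f, f < 114816 → VF (HH R Y) (gG R gen 7) tabs f :=
  facts_to _ _ _ facts_ok22 facts_upto21
theorem facts_upto23 : ∀ f, f < 119808 → VF (HH R Y) (gG R gen 7) tabs f :=
  facts_to _ _ _ facts_ok23 facts_upto22
theorem facts_upto24 : ∀ f, f < 124800 → VF (HH R Y) (gG R gen 7) tabs f :=
  facts_to _ _ _ facts_ok24 facts_upto23
theorem facts_upto25 : ∀ f, f < 129792 → VF (HH R Y) (gG R gen 7) tabs f :=
  facts_to _ _ _ facts_ok25 facts_upto24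
theorem facts_upto26 : ∀ f, f < 134784 → VF (HH R Y) (gG R gen 7) tabs f :=
  facts_to _ _ _ facts_ok26 facts_upto25
theorem facts_upto27 : ∀ f, f < 139776 → VF (HH R Y) (gG R gen 7) tabs f :=
  facts_to _ _ _ facts_ok27 facts_upto26
theorem facts_upto28 : ∀ f, f < 144768 → VF (HH R Y) (gG R gen 7) tabs f :=
  facts_to _ _ _ facts_ok28 facts_upto27
theorem facts_upto29 : ∀ f, f < 149760 → VF (HH R Y) (gG R gen 7) tabs f :=
  facts_to _ _ _ facts_ok29 facts_upto28
theorem facts_upto30 : ∀ f, f < 154752 → VF (HH R Y) (gG R gen 7) tabs f :=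
  facts_to _ _ _ facts_ok30 facts_upto29
theorem facts_upto31 : ∀ f, f < 159744 → VF (HH R Y) (gG R gen 7) tabs f :=
  facts_to _ _ _ facts_ok31 facts_upto30
theorem facts_upto32 : ∀ f, f < 164736 → VF (HH R Y) (gG R gen 7) tabs f :=
  facts_to _ _ _ facts_ok32 facts_upto31
theorem facts_upto33 : ∀ f, f < 169728 → VF (HH R Y) (gG R gen 7) tabs f :=
  facts_to _ _ _ facts_ok33 facts_upto32
theorem facts_upto34 : ∀ f, f < 174720 → VF (HH R Y) (gG R gen 7) tabs f :=
  facts_to _ _ _ facts_ok34 facts_upto33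
theorem facts_upto35 : ∀ f, f < 179712 → VF (HH R Y) (gG R gen 7) tabs f :=
  facts_to _ _ _ facts_ok35 facts_upto34
theorem facts_upto36 : ∀ f, f < 184704 → VF (HH R Y) (gG R gen 7) tabs f :=
  facts_to _ _ _ facts_ok36 facts_upto35
theorem facts_upto37 : ∀ f, f < 189696 → VF (HH R Y) (gG R gen 7) tabs f :=
  facts_to _ _ _ facts_ok37 facts_upto36
theorem facts_upto38 : ∀ f, f < 194688 → VF (HH R Y) (gG R gen 7) tabs f :=
  facts_to _ _ _ facts_ok38 facts_upto37
theorem facts_upto39 : ∀ f, f < 199680 → VF (HH R Y) (gG R gen 7) tabs f :=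
  facts_to _ _ _ facts_ok39 facts_upto38
theorem facts_upto40 : ∀ f, f < 204672 → VF (HH R Y) (gG R gen 7) tabs f :=
  facts_to _ _ _ facts_ok40 facts_upto39
theorem facts_upto41 : ∀ f, f < 209664 → VF (HH R Y) (gG R gen 7) tabs f :=
  facts_to _ _ _ facts_ok41 facts_upto40
theorem facts_upto42 : ∀ f, f < 214656 → VF (HH R Y) (gG R gen 7) tabs f :=
  facts_to _ _ _ facts_ok42 facts_upto41
theorem facts_upto43 : ∀ f, f < 219648 → VF (HH R Y) (gG R gen 7) tabs f :=
  facts_to _ _ _ facts_ok43 facts_upto42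
theorem facts_upto44 : ∀ f, f < 224640 → VF (HH R Y) (gG R gen 7) tabs f :=
  facts_to _ _ _ facts_ok44 facts_upto43
theorem facts_upto45 : ∀ f, f < 229632 → VF (HH R Y) (gG R gen 7) tabs f :=
  facts_to _ _ _ facts_ok45 facts_upto44
theorem facts_upto46 : ∀ f, f < 234624 → VF (HH R Y) (gG R gen 7) tabs f :=
  facts_to _ _ _ facts_ok46 facts_upto45
theorem facts_upto47 : ∀ f, f < 239616 → VF (HH R Y) (gG R gen 7) tabs f :=
  facts_to _ _ _ facts_ok47 facts_upto46
theorem facts_upto48 : ∀ f, f < 244608 → VF (HH R Y) (gG R gen 7) tabs f :=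
  facts_to _ _ _ facts_ok48 facts_upto47
theorem facts_upto49 : ∀ f, f < 249600 → VF (HH R Y) (gG R gen 7) tabs f :=
  facts_to _ _ _ facts_ok49 facts_upto48
theorem facts_upto50 : ∀ f, f < 254592 → VF (HH R Y) (gG R gen 7) tabs f :=
  facts_to _ _ _ facts_ok50 facts_upto49
theorem facts_upto51 : ∀ f, f < 259584 → VF (HH R Y) (gG R gen 7) tabs f :=
  facts_to _ _ _ facts_ok51 facts_upto50
theorem facts_upto52 : ∀ f, f < 264576 → VF (HH R Y) (gG R gen 7) tabs f :=
  facts_to _ _ _ facts_ok52 facts_upto51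
theorem facts_upto53 : ∀ f, f < 269568 → VF (HH R Y) (gG R gen 7) tabs f :=
  facts_to _ _ _ facts_ok53 facts_upto52
theorem facts_upto54 : ∀ f, f < 274560 → VF (HH R Y) (gG R gen 7) tabs f :=
  facts_to _ _ _ facts_ok54 facts_upto53
theorem facts_upto55 : ∀ f, f < 279552 → VF (HH R Y) (gG R gen 7) tabs f :=
  facts_to _ _ _ facts_ok55 facts_upto54
theorem facts_upto56 : ∀ f, f < 284544 → VF (HH R Y) (gG R gen 7) tabs f :=
  facts_to _ _ _ facts_ok56 facts_upto55
theorem facts_upto57 : ∀ f, f < 289536 → VF (HH R Y) (gG R gen 7) tabs f :=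
  facts_to _ _ _ facts_ok57 facts_upto56
theorem facts_upto58 : ∀ f, f < 294528 → VF (HH R Y) (gG R gen 7) tabs f :=
  facts_to _ _ _ facts_ok58 facts_upto57
theorem facts_upto59 : ∀ f, f < 299520 → VF (HH R Y) (gG R gen 7) tabs f :=
  facts_to _ _ _ facts_ok59 facts_upto58
theorem facts_upto60 : ∀ f, f < 304512 → VF (HH R Y) (gG R gen 7) tabs f :=
  facts_to _ _ _ facts_ok60 facts_upto59
theorem facts_upto61 : ∀ f, f < 309504 → VF (HH R Y) (gG R gen 7) tabs f :=
  facts_to _ _ _ facts_ok61 facts_upto60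
theorem facts_upto62 : ∀ f, f < 314496 → VF (HH R Y) (gG R gen 7) tabs f :=
  facts_to _ _ _ facts_ok62 facts_upto61
theorem facts_upto63 : ∀ f, f < 319488 → VF (HH R Y) (gG R gen 7) tabs f :=
  facts_to _ _ _ facts_ok63 facts_upto62
theorem facts_upto64 : ∀ f, f < 324480 → VF (HH R Y) (gG R gen 7) tabs f :=
  facts_to _ _ _ facts_ok64 facts_upto63
theorem facts_upto65 : ∀ f, f < 329472 → VF (HH R Y) (gG R gen 7) tabs f :=
  facts_to _ _ _ facts_ok65 facts_upto64
theorem facts_upto66 : ∀ f, f < 334464 → VF (HH R Y) (gG R gen 7) tabs f :=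
  facts_to _ _ _ facts_ok66 facts_upto65
theorem facts_upto67 : ∀ f, f < 339456 → VF (HH R Y) (gG R gen 7) tabs f :=
  facts_to _ _ _ facts_ok67 facts_upto66
theorem facts_upto68 : ∀ f, f < 344448 → VF (HH R Y) (gG R gen 7) tabs f :=
  facts_to _ _ _ facts_ok68 facts_upto67
theorem facts_upto69 : ∀ f, f < 349440 → VF (HH R Y) (gG R gen 7) tabs f :=
  facts_to _ _ _ facts_ok69 facts_upto68
theorem facts_upto70 : ∀ f, f < 354432 → VF (HH R Y) (gG R gen 7) tabs f :=
  facts_to _ _ _ facts_ok70 facts_upto69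
theorem facts_upto71 : ∀ f, f < 359424 → VF (HH R Y) (gG R gen 7) tabs f :=
  facts_to _ _ _ facts_ok71 facts_upto70
theorem facts_upto72 : ∀ f, f < 364416 → VF (HH R Y) (gG R gen 7) tabs f :=
  facts_to _ _ _ facts_ok72 facts_upto71
theorem facts_upto73 : ∀ f, f < 369408 → VF (HH R Y) (gG R gen 7) tabs f :=
  facts_to _ _ _ facts_ok73 facts_upto72
theorem facts_upto74 : ∀ f, f < 374400 → VF (HH R Y) (gG R gen 7) tabs f :=
  facts_to _ _ _ facts_ok74 facts_upto73
theorem facts_upto75 : ∀ f, f < 379392 → VF (HH R Y) (gG R gen 7) tabs f :=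
  facts_to _ _ _ facts_ok75 facts_upto74
theorem facts_upto76 : ∀ f, f < 384384 → VF (HH R Y) (gG R gen 7) tabs f :=
  facts_to _ _ _ facts_ok76 facts_upto75
theorem facts_upto77 : ∀ f, f < 389376 → VF (HH R Y) (gG R gen 7) tabs f :=
  facts_to _ _ _ facts_ok77 facts_upto76
theorem facts_upto78 : ∀ f, f < 394368 → VF (HH R Y) (gG R gen 7) tabs f :=
  facts_to _ _ _ facts_ok78 facts_upto77
theorem facts_upto79 : ∀ f, f < 399360 → VF (HH R Y) (gG R gen 7) tabs f :=
  facts_to _ _ _ facts_ok79 facts_upto78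
theorem facts_upto80 : ∀ f, f < 404352 → VF (HH R Y) (gG R gen 7) tabs f :=
  facts_to _ _ _ facts_ok80 facts_upto79
theorem facts_upto81 : ∀ f, f < 409344 → VF (HH R Y) (gG R gen 7) tabs f :=
  facts_to _ _ _ facts_ok81 facts_upto80
theorem facts_upto82 : ∀ f, f < 414336 → VF (HH R Y) (gG R gen 7) tabs f :=
  facts_to _ _ _ facts_ok82 facts_upto81
theorem facts_upto83 : ∀ f, f < 419328 → VF (HH R Y) (gG R gen 7) tabs f :=
  facts_to _ _ _ facts_ok83 facts_upto82
theorem facts_upto84 : ∀ f, f < 424320 → VF (HH R Y) (gG R gen 7) tabs f :=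
  facts_to _ _ _ facts_ok84 facts_upto83
theorem facts_upto85 : ∀ f, f < 429312 → VF (HH R Y) (gG R gen 7) tabs f :=
  facts_to _ _ _ facts_ok85 facts_upto84
theorem facts_upto86 : ∀ f, f < 434304 → VF (HH R Y) (gG R gen 7) tabs f :=
  facts_to _ _ _ facts_ok86 facts_upto85
theorem facts_upto87 : ∀ f, f < 439296 → VF (HH R Y) (gG R gen 7) tabs f :=
  facts_to _ _ _ facts_ok87 facts_upto86
theorem facts_upto88 : ∀ f, f < 444288 → VF (HH R Y) (gG R gen 7) tabs f :=
  facts_to _ _ _ facts_ok88 facts_upto87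
theorem facts_upto89 : ∀ f, f < 449280 → VF (HH R Y) (gG R gen 7) tabs f :=
  facts_to _ _ _ facts_ok89 facts_upto88
theorem facts_upto90 : ∀ f, f < 454272 → VF (HH R Y) (gG R gen 7) tabs f :=
  facts_to _ _ _ facts_ok90 facts_upto89
theorem facts_upto91 : ∀ f, f < 459264 → VF (HH R Y) (gG R gen 7) tabs f :=
  facts_to _ _ _ facts_ok91 facts_upto90
theorem facts_upto92 : ∀ f, f < 464256 → VF (HH R Y) (gG R gen 7) tabs f :=
  facts_to _ _ _ facts_ok92 facts_upto91
theorem facts_upto93 : ∀ f, f < 469248 → VF (HH R Y) (gG R gen 7) tabs f :=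
  facts_to _ _ _ facts_ok93 facts_upto92
theorem facts_upto94 : ∀ f, f < 474240 → VF (HH R Y) (gG R gen 7) tabs f :=
  facts_to _ _ _ facts_ok94 facts_upto93
theorem facts_upto95 : ∀ f, f < 479232 → VF (HH R Y) (gG R gen 7) tabs f :=
  facts_to _ _ _ facts_ok95 facts_upto94
theorem facts_upto96 : ∀ f, f < 484224 → VF (HH R Y) (gG R gen 7) tabs f :=
  facts_to _ _ _ facts_ok96 facts_upto95
theorem facts_upto97 : ∀ f, f < 489216 → VF (HH R Y) (gG R gen 7) tabs f :=
  facts_to _ _ _ facts_ok97 facts_upto96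
theorem facts_upto98 : ∀ f, f < 494208 → VF (HH R Y) (gG R gen 7) tabs f :=
  facts_to _ _ _ facts_ok98 facts_upto97
theorem facts_upto99 : ∀ f, f < 499200 → VF (HH R Y) (gG R gen 7) tabs f :=
  facts_to _ _ _ facts_ok99 facts_upto98
theorem facts_upto100 : ∀ f, f < 504192 → VF (HH R Y) (gG R gen 7) tabs f :=
  facts_to _ _ _ facts_ok100 facts_upto99
theorem facts_upto101 : ∀ f, f < 509184 → VF (HH R Y) (gG R gen 7) tabs f :=
  facts_to _ _ _ facts_ok101 facts_upto100
theorem facts_upto102 : ∀ f, f < 514176 → VF (HH R Y) (gG R gen 7) tabs f :=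
  facts_to _ _ _ facts_ok102 facts_upto101
theorem facts_upto103 : ∀ f, f < 519168 → VF (HH R Y) (gG R gen 7) tabs f :=
  facts_to _ _ _ facts_ok103 facts_upto102
theorem facts_upto104 : ∀ f, f < 524160 → VF (HH R Y) (gG R gen 7) tabs f :=
  facts_to _ _ _ facts_ok104 facts_upto103
theorem facts_upto105 : ∀ f, f < 529152 → VF (HH R Y) (gG R gen 7) tabs f :=
  facts_to _ _ _ facts_ok105 facts_upto104
theorem facts_upto106 : ∀ f, f < 534144 → VF (HH R Y) (gG R gen 7) tabs f :=
  facts_to _ _ _ facts_ok106 facts_upto105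
theorem facts_upto107 : ∀ f, f < 539136 → VF (HH R Y) (gG R gen 7) tabs f :=
  facts_to _ _ _ facts_ok107 facts_upto106
theorem facts_upto108 : ∀ f, f < 544128 → VF (HH R Y) (gG R gen 7) tabs f :=
  facts_to _ _ _ facts_ok108 facts_upto107
theorem facts_upto109 : ∀ f, f < 549120 → VF (HH R Y) (gG R gen 7) tabs f :=
  facts_to _ _ _ facts_ok109 facts_upto108
theorem facts_upto110 : ∀ f, f < 554112 → VF (HH R Y) (gG R gen 7) tabs f :=
  facts_to _ _ _ facts_ok110 facts_upto109
theorem facts_upto111 : ∀ f, f < 559104 → VF (HH R Y) (gG R gen 7) tabs f :=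
  facts_to _ _ _ facts_ok111 facts_upto110
theorem facts_upto112 : ∀ f, f < 564096 → VF (HH R Y) (gG R gen 7) tabs f :=
  facts_to _ _ _ facts_ok112 facts_upto111
theorem facts_upto113 : ∀ f, f < 569088 → VF (HH R Y) (gG R gen 7) tabs f :=
  facts_to _ _ _ facts_ok113 facts_upto112
theorem facts_upto114 : ∀ f, f < 574080 → VF (HH R Y) (gG R gen 7) tabs f :=
  facts_to _ _ _ facts_ok114 facts_upto113
theorem facts_upto115 : ∀ f, f < 579072 → VF (HH R Y) (gG R gen 7) tabs f :=
  facts_to _ _ _ facts_ok115 facts_upto114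
theorem facts_upto116 : ∀ f, f < 584064 → VF (HH R Y) (gG R gen 7) tabs f :=
  facts_to _ _ _ facts_ok116 facts_upto115
theorem facts_upto117 : ∀ f, f < 589056 → VF (HH R Y) (gG R gen 7) tabs f :=
  facts_to _ _ _ facts_ok117 facts_upto116
theorem facts_upto118 : ∀ f, f < 594048 → VF (HH R Y) (gG R gen 7) tabs f :=
  facts_to _ _ _ facts_ok118 facts_upto117
theorem facts_upto119 : ∀ f, f < 599040 → VF (HH R Y) (gG R gen 7) tabs f :=
  facts_to _ _ _ facts_ok119 facts_upto118
theorem facts_upto120 : ∀ f, f < 604032 → VF (HH R Y) (gG R gen 7) tabs f :=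
  facts_to _ _ _ facts_ok120 facts_upto119
theorem facts_upto121 : ∀ f, f < 609024 → VF (HH R Y) (gG R gen 7) tabs f :=
  facts_to _ _ _ facts_ok121 facts_upto120
theorem facts_upto122 : ∀ f, f < 614016 → VF (HH R Y) (gG R gen 7) tabs f :=
  facts_to _ _ _ facts_ok122 facts_upto121
theorem facts_upto123 : ∀ f, f < 619008 → VF (HH R Y) (gG R gen 7) tabs f :=
  facts_to _ _ _ facts_ok123 facts_upto122
theorem facts_upto124 : ∀ f, f < 624000 → VF (HH R Y) (gG R gen 7) tabs f :=
  facts_to _ _ _ facts_ok124 facts_upto123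
theorem facts_upto125 : ∀ f, f < 628992 → VF (HH R Y) (gG R gen 7) tabs f :=
  facts_to _ _ _ facts_ok125 facts_upto124
theorem facts_upto126 : ∀ f, f < 633984 → VF (HH R Y) (gG R gen 7) tabs f :=
  facts_to _ _ _ facts_ok126 facts_upto125
theorem facts_upto127 : ∀ f, f < 638976 → VF (HH R Y) (gG R gen 7) tabs f :=
  facts_to _ _ _ facts_ok127 facts_upto126
theorem facts_upto128 : ∀ f, f < 643968 → VF (HH R Y) (gG R gen 7) tabs f :=
  facts_to _ _ _ facts_ok128 facts_upto127
theorem facts_upto129 : ∀ f, f < 648960 → VF (HH R Y) (gG R gen 7) tabs f :=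
  facts_to _ _ _ facts_ok129 facts_upto128
theorem facts_upto130 : ∀ f, f < 653952 → VF (HH R Y) (gG R gen 7) tabs f :=
  facts_to _ _ _ facts_ok130 facts_upto129
theorem facts_upto131 : ∀ f, f < 658944 → VF (HH R Y) (gG R gen 7) tabs f :=
  facts_to _ _ _ facts_ok131 facts_upto130
theorem facts_upto132 : ∀ f, f < 663936 → VF (HH R Y) (gG R gen 7) tabs f :=
  facts_to _ _ _ facts_ok132 facts_upto131
theorem facts_upto133 : ∀ f, f < 668928 → VF (HH R Y) (gG R gen 7) tabs f :=
  facts_to _ _ _ facts_ok133 facts_upto132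
theorem facts_upto134 : ∀ f, f < 673920 → VF (HH R Y) (gG R gen 7) tabs f :=
  facts_to _ _ _ facts_ok134 facts_upto133
theorem facts_upto135 : ∀ f, f < 678912 → VF (HH R Y) (gG R gen 7) tabs f :=
  facts_to _ _ _ facts_ok135 facts_upto134
theorem facts_upto136 : ∀ f, f < 683904 → VF (HH R Y) (gG R gen 7) tabs f :=
  facts_to _ _ _ facts_ok136 facts_upto135
theorem facts_upto137 : ∀ f, f < 688896 → VF (HH R Y) (gG R gen 7) tabs f :=
  facts_to _ _ _ facts_ok137 facts_upto136
theorem facts_upto138 : ∀ f, f < 693888 → VF (HH R Y) (gG R gen 7) tabs f :=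
  facts_to _ _ _ facts_ok138 facts_upto137
theorem facts_upto139 : ∀ f, f < 698880 → VF (HH R Y) (gG R gen 7) tabs f :=
  facts_to _ _ _ facts_ok139 facts_upto138
theorem facts_upto140 : ∀ f, f < 703872 → VF (HH R Y) (gG R gen 7) tabs f :=
  facts_to _ _ _ facts_ok140 facts_upto139
theorem facts_upto141 : ∀ f, f < 708864 → VF (HH R Y) (gG R gen 7) tabs f :=
  facts_to _ _ _ facts_ok141 facts_upto140
theorem facts_upto142 : ∀ f, f < 713856 → VF (HH R Y) (gG R gen 7) tabs f :=
  facts_to _ _ _ facts_ok142 facts_upto141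
theorem facts_upto143 : ∀ f, f < 718848 → VF (HH R Y) (gG R gen 7) tabs f :=
  facts_to _ _ _ facts_ok143 facts_upto142
theorem facts_upto144 : ∀ f, f < 723840 → VF (HH R Y) (gG R gen 7) tabs f :=
  facts_to _ _ _ facts_ok144 facts_upto143
theorem facts_upto145 : ∀ f, f < 728832 → VF (HH R Y) (gG R gen 7) tabs f :=
  facts_to _ _ _ facts_ok145 facts_upto144
theorem facts_upto146 : ∀ f, f < 733824 → VF (HH R Y) (gG R gen 7) tabs f :=
  facts_to _ _ _ facts_ok146 facts_upto145
theorem facts_upto147 : ∀ f, f < 738816 → VF (HH R Y) (gG R gen 7) tabs f :=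
  facts_to _ _ _ facts_ok147 facts_upto146
theorem facts_upto148 : ∀ f, f < 743808 → VF (HH R Y) (gG R gen 7) tabs f :=
  facts_to _ _ _ facts_ok148 facts_upto147
theorem facts_upto149 : ∀ f, f < 748800 → VF (HH R Y) (gG R gen 7) tabs f :=
  facts_to _ _ _ facts_ok149 facts_upto148
theorem facts_upto150 : ∀ f, f < 753792 → VF (HH R Y) (gG R gen 7) tabs f :=
  facts_to _ _ _ facts_ok150 facts_upto149
theorem facts_upto151 : ∀ f, f < 758784 → VF (HH R Y) (gG R gen 7) tabs f :=
  facts_to _ _ _ facts_ok151 facts_upto150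
theorem facts_upto152 : ∀ f, f < 763776 → VF (HH R Y) (gG R gen 7) tabs f :=
  facts_to _ _ _ facts_ok152 facts_upto151
theorem facts_upto153 : ∀ f, f < 768768 → VF (HH R Y) (gG R gen 7) tabs f :=
  facts_to _ _ _ facts_ok153 facts_upto152
theorem facts_upto154 : ∀ f, f < 773760 → VF (HH R Y) (gG R gen 7) tabs f :=
  facts_to _ _ _ facts_ok154 facts_upto153
theorem facts_upto155 : ∀ f, f < 778752 → VF (HH R Y) (gG R gen 7) tabs f :=
  facts_to _ _ _ facts_ok155 facts_upto154
theorem facts_upto156 : ∀ f, f < 783744 → VF (HH R Y) (gG R gen 7) tabs f :=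
  facts_to _ _ _ facts_ok156 facts_upto155
theorem facts_upto157 : ∀ f, f < 788736 → VF (HH R Y) (gG R gen 7) tabs f :=
  facts_to _ _ _ facts_ok157 facts_upto156
theorem facts_upto158 : ∀ f, f < 793728 → VF (HH R Y) (gG R gen 7) tabs f :=
  facts_to _ _ _ facts_ok158 facts_upto157
theorem facts_upto159 : ∀ f, f < 798720 → VF (HH R Y) (gG R gen 7) tabs f :=
  facts_to _ _ _ facts_ok159 facts_upto158
theorem facts_upto160 : ∀ f, f < 803712 → VF (HH R Y) (gG R gen 7) tabs f :=
  facts_to _ _ _ facts_ok160 facts_upto159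
theorem facts_upto161 : ∀ f, f < 808704 → VF (HH R Y) (gG R gen 7) tabs f :=
  facts_to _ _ _ facts_ok161 facts_upto160
theorem facts_upto162 : ∀ f, f < 813696 → VF (HH R Y) (gG R gen 7) tabs f :=
  facts_to _ _ _ facts_ok162 facts_upto161
theorem facts_upto163 : ∀ f, f < 818688 → VF (HH R Y) (gG R gen 7) tabs f :=
  facts_to _ _ _ facts_ok163 facts_upto162
theorem facts_upto164 : ∀ f, f < 823680 → VF (HH R Y) (gG R gen 7) tabs f :=
  facts_to _ _ _ facts_ok164 facts_upto163
theorem facts_upto165 : ∀ f, f < 828672 → VF (HH R Y) (gG R gen 7) tabs f :=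
  facts_to _ _ _ facts_ok165 facts_upto164
theorem facts_upto166 : ∀ f, f < 833664 → VF (HH R Y) (gG R gen 7) tabs f :=
  facts_to _ _ _ facts_ok166 facts_upto165
theorem facts_upto167 : ∀ f, f < 838656 → VF (HH R Y) (gG R gen 7) tabs f :=
  facts_to _ _ _ facts_ok167 facts_upto166
theorem facts_upto168 : ∀ f, f < 843648 → VF (HH R Y) (gG R gen 7) tabs f :=
  facts_to _ _ _ facts_ok168 facts_upto167
theorem facts_upto169 : ∀ f, f < 848640 → VF (HH R Y) (gG R gen 7) tabs f :=
  facts_to _ _ _ facts_ok169 facts_upto168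
theorem facts_upto170 : ∀ f, f < 853632 → VF (HH R Y) (gG R gen 7) tabs f :=
  facts_to _ _ _ facts_ok170 facts_upto169
theorem facts_upto171 : ∀ f, f < 858624 → VF (HH R Y) (gG R gen 7) tabs f :=
  facts_to _ _ _ facts_ok171 facts_upto170
theorem facts_upto172 : ∀ f, f < 863616 → VF (HH R Y) (gG R gen 7) tabs f :=
  facts_to _ _ _ facts_ok172 facts_upto171
theorem facts_upto173 : ∀ f, f < 868608 → VF (HH R Y) (gG R gen 7) tabs f :=
  facts_to _ _ _ facts_ok173 facts_upto172
theorem facts_upto174 : ∀ f, f < 873600 → VF (HH R Y) (gG R gen 7) tabs f :=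
  facts_to _ _ _ facts_ok174 facts_upto173
theorem facts_upto175 : ∀ f, f < 878592 → VF (HH R Y) (gG R gen 7) tabs f :=
  facts_to _ _ _ facts_ok175 facts_upto174
theorem facts_upto176 : ∀ f, f < 883584 → VF (HH R Y) (gG R gen 7) tabs f :=
  facts_to _ _ _ facts_ok176 facts_upto175
theorem facts_upto177 : ∀ f, f < 888576 → VF (HH R Y) (gG R gen 7) tabs f :=
  facts_to _ _ _ facts_ok177 facts_upto176
theorem facts_upto178 : ∀ f, f < 893568 → VF (HH R Y) (gG R gen 7) tabs f :=
  facts_to _ _ _ facts_ok178 facts_upto177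
theorem facts_upto179 : ∀ f, f < 898560 → VF (HH R Y) (gG R gen 7) tabs f :=
  facts_to _ _ _ facts_ok179 facts_upto178
theorem facts_upto180 : ∀ f, f < 903552 → VF (HH R Y) (gG R gen 7) tabs f :=
  facts_to _ _ _ facts_ok180 facts_upto179
theorem facts_upto181 : ∀ f, f < 908544 → VF (HH R Y) (gG R gen 7) tabs f :=
  facts_to _ _ _ facts_ok181 facts_upto180
theorem facts_upto182 : ∀ f, f < 913536 → VF (HH R Y) (gG R gen 7) tabs f :=
  facts_to _ _ _ facts_ok182 facts_upto181
theorem facts_upto183 : ∀ f, f < 918528 → VF (HH R Y) (gG R gen 7) tabs f :=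
  facts_to _ _ _ facts_ok183 facts_upto182
theorem facts_upto184 : ∀ f, f < 923520 → VF (HH R Y) (gG R gen 7) tabs f :=
  facts_to _ _ _ facts_ok184 facts_upto183
theorem facts_upto185 : ∀ f, f < 928512 → VF (HH R Y) (gG R gen 7) tabs f :=
  facts_to _ _ _ facts_ok185 facts_upto184
theorem facts_upto186 : ∀ f, f < 933504 → VF (HH R Y) (gG R gen 7) tabs f :=
  facts_to _ _ _ facts_ok186 facts_upto185
theorem facts_upto187 : ∀ f, f < 938496 → VF (HH R Y) (gG R gen 7) tabs f :=
  facts_to _ _ _ facts_ok187 facts_upto186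
theorem facts_upto188 : ∀ f, f < 943488 → VF (HH R Y) (gG R gen 7) tabs f :=
  facts_to _ _ _ facts_ok188 facts_upto187
theorem facts_upto189 : ∀ f, f < 948480 → VF (HH R Y) (gG R gen 7) tabs f :=
  facts_to _ _ _ facts_ok189 facts_upto188
theorem facts_upto190 : ∀ f, f < 953472 → VF (HH R Y) (gG R gen 7) tabs f :=
  facts_to _ _ _ facts_ok190 facts_upto189
theorem facts_upto191 : ∀ f, f < 958464 → VF (HH R Y) (gG R gen 7) tabs f :=
  facts_to _ _ _ facts_ok191 facts_upto190
theorem facts_upto192 : ∀ f, f < 963456 → VF (HH R Y) (gG R gen 7) tabs f :=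
  facts_to _ _ _ facts_ok192 facts_upto191
theorem facts_upto193 : ∀ f, f < 968448 → VF (HH R Y) (gG R gen 7) tabs f :=
  facts_to _ _ _ facts_ok193 facts_upto192
theorem facts_upto194 : ∀ f, f < 973440 → VF (HH R Y) (gG R gen 7) tabs f :=
  facts_to _ _ _ facts_ok194 facts_upto193
theorem facts_upto195 : ∀ f, f < 978432 → VF (HH R Y) (gG R gen 7) tabs f :=
  facts_to _ _ _ facts_ok195 facts_upto194
theorem facts_upto196 : ∀ f, f < 983424 → VF (HH R Y) (gG R gen 7) tabs f :=
  facts_to _ _ _ facts_ok196 facts_upto195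
theorem facts_upto197 : ∀ f, f < 988416 → VF (HH R Y) (gG R gen 7) tabs f :=
  facts_to _ _ _ facts_ok197 facts_upto196
theorem facts_upto198 : ∀ f, f < 993408 → VF (HH R Y) (gG R gen 7) tabs f :=
  facts_to _ _ _ facts_ok198 facts_upto197
theorem facts_upto199 : ∀ f, f < 998400 → VF (HH R Y) (gG R gen 7) tabs f :=
  facts_to _ _ _ facts_ok199 facts_upto198
theorem facts_upto200 : ∀ f, f < 1003392 → VF (HH R Y) (gG R gen 7) tabs f :=
  facts_to _ _ _ facts_ok200 facts_upto199
theorem facts_upto201 : ∀ f, f < 1008384 → VF (HH R Y) (gG R gen 7) tabs f :=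
  facts_to _ _ _ facts_ok201 facts_upto200
theorem facts_upto202 : ∀ f, f < 1013376 → VF (HH R Y) (gG R gen 7) tabs f :=
  facts_to _ _ _ facts_ok202 facts_upto201
theorem facts_upto203 : ∀ f, f < 1018368 → VF (HH R Y) (gG R gen 7) tabs f :=
  facts_to _ _ _ facts_ok203 facts_upto202
theorem facts_upto204 : ∀ f, f < 1023360 → VF (HH R Y) (gG R gen 7) tabs f :=
  facts_to _ _ _ facts_ok204 facts_upto203
theorem facts_upto205 : ∀ f, f < 1028352 → VF (HH R Y) (gG R gen 7) tabs f :=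
  facts_to _ _ _ facts_ok205 facts_upto204
theorem facts_upto206 : ∀ f, f < 1033344 → VF (HH R Y) (gG R gen 7) tabs f :=
  facts_to _ _ _ facts_ok206 facts_upto205
theorem facts_upto207 : ∀ f, f < 1038336 → VF (HH R Y) (gG R gen 7) tabs f :=
  facts_to _ _ _ facts_ok207 facts_upto206
theorem facts_upto208 : ∀ f, f < 1043328 → VF (HH R Y) (gG R gen 7) tabs f :=
  facts_to _ _ _ facts_ok208 facts_upto207
theorem facts_upto209 : ∀ f, f < 1043577 → VF (HH R Y) (gG R gen 7) tabs f :=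
  facts_to _ _ _ facts_ok209 facts_upto208

theorem hperm_all : ∀ r, tabs.nsub ≤ r → r < tabs.nsub + 7 * 7 + ON.extra.length →
    relOk ptabs (tabs.word r) 0 ptabs.n = true := by
  intro r h1 h2
  exact perm_all r h1 h2

theorem hn : 0 < ptabs.n := by decide +kernel

theorem main_index : (HH R Y).index = 122760 :=
  (cox_cert inv_ok layout hn defs_ok 1043577 facts_upto209 fin_ok par_ok hperm_all subfix_all).1

end Cfsg.Agent.Helper28.ON1
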