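import Cfsg.Agent.Helper28.ON1.Data
set_option autoImplicit false
set_option maxRecDepth 1000000
namespace Cfsg.Agent.Helper28.ON1
open Cfsg.Agent.Helper28
theorem perm_piece_20_2 : permPieceF tabs.word letSel 37 1 11110 5555 = true := by decide +kernel
theorem perm_piece_20_3 : permPieceF tabs.word letSel 37 1 16665 5555 = true := by decide +kernel
theorem perm_piece_20_4 : permPieceF tabs.word letSel 37 1 22220 5555 = true := by decide +kernel
theorem perm_piece_20_5 : permPieceF tabs.word letSel 37 1 27775 5555 = true := by decide +kernel
theorem perm_piece_20_6 : permPieceF tabs.word letSel 37 1 33330 5555 = true := by decide +kernel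
theorem perm_piece_20_7 : permPieceF tabs.word letSel 37 1 38885 5555 = true := by decide +kernel
theorem perm_piece_20_8 : permPieceF tabs.word letSel 37 1 44440 5555 = true := by decide +kernel
theorem perm_piece_20_9 : permPieceF tabs.word letSel 37 1 49995 5555 = true := by decide +kernel
end Cfsg.Agent.Helper28.ON1
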