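import Cfsg.Agent.Helper28.ON1.Data
set_option autoImplicit false
set_option maxRecDepth 1000000
namespace Cfsg.Agent.Helper28.ON1
open Cfsg.Agent.Helper28
theorem perm_piece_37_12 : permPieceF tabs.word letSel 56 1 106656 8888 = true := by decide +kernel
theorem perm_piece_37_13 : permPieceF tabs.word letSel 56 1 115544 7216 = true := by decide +kernel
theorem perm_piece_38_0 : permPieceF tabs.word letSel 57 1 0 8888 = true := by decide +kernel
theorem perm_piece_38_1 : permPieceF tabs.word letSel 57 1 8888 8888 = true := by decide +kernel
theorem perm_piece_38_2 : permPieceF tabs.word letSel 57 1 17776 8888 = true := by decide +kernel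
theorem perm_piece_38_3 : permPieceF tabs.word letSel 57 1 26664 8888 = true := by decide +kernel
theorem perm_piece_38_4 : permPieceF tabs.word letSel 57 1 35552 8888 = true := by decide +kernel
theorem perm_piece_38_5 : permPieceF tabs.word letSel 57 1 44440 8888 = true := by decide +kernel
end Cfsg.Agent.Helper28.ON1
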